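import Cfsg.Agent.H22.FocalTransfer
import Mathlib.GroupTheory.Transfer
import Mathlib.GroupTheory.Frattini

/-!
# Tate's theorem
-/

namespace Cfsg.Agent.H22

open Subgroup
open scoped commutatorElement

variable {G : Type*} [Group G] {p : ℕ}

/-- A nontrivial normal subgroup of a `p`-group which contains no smaller nontrivial normal
subgroup is central of order `p`. -/
theorem minimal_normal_of_isPGroup [hp : Fact p.Prime] [Finite G] (hG : IsPGroup p G)
    (A : Subgroup G) [A.Normal] (hne : A ≠ ⊥)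
    (hmin : ∀ B : Subgroup G, B.Normal → B ≤ A → B = ⊥ ∨ B = A) :
    A ≤ center G ∧ Nat.card A = p := by
  have : Group.IsNilpotent (⊤ : Subgroup G) := (hG.to_subgroup ⊤).isNilpotent
  have hcent : A ≤ center G := by
    rcases hmin ⁅A, (⊤ : Subgroup G)⁆ inferInstance (commutator_le_left A ⊤) with h | h
    · rw [commutator_eq_bot_iff_le_centralizer, coe_top] at h
      rwa [Subgroup.centralizer_univ] at h
    · exact absurd (eq_bot_of_le_commutator ⊤ A le_top h.ge) hne
  refine ⟨hcent, ?_⟩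
  have hA : IsPGroup p A := hG.to_subgroup A
  have : Nontrivial A := (nontrivial_iff_ne_bot A).mpr hne
  obtain ⟨z, hz⟩ := exists_prime_orderOf_dvd_card' p (hA.card_eq_or_dvd.resolve_left
    (Finite.one_lt_card.ne'))
  have hzn : (zpowers (z : G)).Normal :=
    ⟨fun x hx g => by
      have hxc := mem_center_iff.mp (hcent (zpowers_le.mpr z.2 hx))
      rwa [hxc g, mul_inv_cancel_right]⟩
  have hle : zpowers (z : G) ≤ A := zpowers_le.mpr z.2
  have hc : Nat.card (zpowers (z : G)) = p := by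
    rw [Nat.card_zpowers, Subgroup.orderOf_coe, hz]
  rcases hmin _ hzn hle with h | h
  · exact absurd (h ▸ hc) (by simp [hp.out.ne_one.symm])
  · rw [← h, hc]

open scoped IsMulCommutative in
/-- The key step of Tate's theorem: a central extension split on a subgroup of index prime to `p`
is split. -/
theorem exists_lift_of_index_coprime [hp : Fact p.Prime] [Finite G] (H : Subgroup G)
    (hH : ¬ p ∣ H.index) {E Q : Type*} [Group E] [Finite E] [Group Q] (q : E →* Q)
    (hq : Function.Surjective q) (hA : q.ker ≤ center E) (hAp : IsPGroup p q.ker)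
    (α : G →* Q) (π : H →* E) (hπ : ∀ h : H, q (π h) = α h) :
    ∃ f : G →* E, ∀ g, q (f g) = α g := by
  have : IsMulCommutative q.ker :=
    ⟨⟨fun a b => Subtype.ext (mem_center_iff.mp (hA b.2) a)⟩⟩
  let X : Subgroup (G × E) :=
    MonoidHom.eqLocus (α.comp (MonoidHom.fst G E)) (q.comp (MonoidHom.snd G E))
  let fX : X →* G := (MonoidHom.fst G E).comp X.subtype
  let sX : X →* E := (MonoidHom.snd G E).comp X.subtype
  have hXmem : ∀ x : X, α (fX x) = q (sX x) := fun x => x.2
  have hfX : Function.Surjective fX := fun g => by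
    obtain ⟨e, he⟩ := hq (α g)
    exact ⟨⟨(g, e), he.symm⟩, rfl⟩
  let XH : Subgroup X := H.comap fX
  have hXH : XH.index = H.index := index_comap_of_surjective H hfX
  have hdiv : ∀ x : XH, sX x * (π ⟨fX x, x.2⟩)⁻¹ ∈ q.ker := fun x => by
    rw [MonoidHom.mem_ker, map_mul, map_inv, hπ, ← hXmem]
    exact mul_inv_cancel _
  let ϕ : XH →* q.ker :=
    { toFun := fun x => ⟨sX x * (π ⟨fX x, x.2⟩)⁻¹, hdiv x⟩
      map_one' := Subtype.ext (by
        change sX ((1 : XH) : X) * (π ⟨fX ((1 : XH) : X), _⟩)⁻¹ = 1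
        have : (⟨fX ((1 : XH) : X), (1 : XH).2⟩ : H) = 1 := Subtype.ext (map_one fX)
        rw [this, map_one, OneMemClass.coe_one, map_one, inv_one, mul_one])
      map_mul' := fun x y => Subtype.ext (by
        change sX ((x * y : XH) : X) * (π ⟨fX ((x * y : XH) : X), _⟩)⁻¹ =
          (sX x * (π ⟨fX x, x.2⟩)⁻¹) * (sX y * (π ⟨fX y, y.2⟩)⁻¹)
        have : (⟨fX ((x * y : XH) : X), (x * y).2⟩ : H) = ⟨fX x, x.2⟩ * ⟨fX y, y.2⟩ :=
          Subtype.ext (map_mul fX _ _)
        rw [this, map_mul, Subgroup.coe_mul, map_mul, mul_inv_rev]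
        have hc := mem_center_iff.mp (hA (hdiv y)) (π ⟨fX x, x.2⟩)⁻¹
        calc sX x * sX y * ((π ⟨fX y, y.2⟩)⁻¹ * (π ⟨fX x, x.2⟩)⁻¹)
            = sX x * ((sX y * (π ⟨fX y, y.2⟩)⁻¹) * (π ⟨fX x, x.2⟩)⁻¹) := by group
          _ = sX x * ((π ⟨fX x, x.2⟩)⁻¹ * (sX y * (π ⟨fX y, y.2⟩)⁻¹)) := by rw [hc]
          _ = _ := by group) }
  let τ : X →* q.ker := MonoidHom.transfer ϕ
  -- `τ` is the power map on the central kernel
  let ι : q.ker →* X :=
    { toFun := fun a => ⟨(1, (a : E)), by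
        show α 1 = q (a : E)
        rw [map_one]; exact (MonoidHom.mem_ker.mp a.2).symm⟩
      map_one' := rfl
      map_mul' := fun a b => Subtype.ext (Prod.ext (mul_one 1).symm rfl) }
  have hι : ∀ a, τ (ι a) = a ^ H.index := by
    intro a
    have hcen : ι a ∈ center X := mem_center_iff.mpr fun x =>
      Subtype.ext (Prod.ext (by show _ * 1 = 1 * _; rw [mul_one, one_mul])
        (mem_center_iff.mp (hA a.2) _))
    have key : ∀ (k : ℕ) (g₀ : X), g₀⁻¹ * ι a ^ k * g₀ ∈ XH → g₀⁻¹ * ι a ^ k * g₀ = ι a ^ k :=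
      fun k g₀ _ => by
        rw [mul_assoc, ← mem_center_iff.mp (pow_mem hcen k) g₀, inv_mul_cancel_left]
    have h1 : τ (ι a) = ϕ ⟨ι a ^ XH.index, MonoidHom.transfer_eq_pow_aux (ι a) key⟩ :=
      MonoidHom.transfer_eq_pow ϕ (ι a) key
    rw [h1]
    apply Subtype.ext
    change sX (ι a ^ XH.index) * (π ⟨fX (ι a ^ XH.index), _⟩)⁻¹ = _
    have : (⟨fX (ι a ^ XH.index), MonoidHom.transfer_eq_pow_aux (ι a) key⟩ : H) = 1 :=
      Subtype.ext (by
        show fX (ι a ^ XH.index) = 1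
        rw [map_pow]
        exact one_pow _)
    rw [this, map_one, inv_one, mul_one, map_pow, hXH, SubgroupClass.coe_pow]
    rfl
  obtain ⟨n, hn⟩ := hAp.exists_card_eq
  have hcop : (Nat.card q.ker).Coprime H.index := by
    rw [hn]; exact Nat.Coprime.pow_left n (hp.out.coprime_iff_not_dvd.mpr hH)
  have hbij : Function.Bijective fun a => τ (ι a) := by
    have he : (fun a => τ (ι a)) = ⇑(powCoprime hcop) := funext fun a => (hι a).trans rfl
    rw [he]
    exact (powCoprime hcop).bijective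
  let ψ : τ.ker →* G := fX.comp τ.ker.subtype
  have hψ : Function.Bijective ψ := by
    constructor
    · refine (injective_iff_map_eq_one ψ).mpr fun x hx => ?_
      have h1 : q (sX x) = 1 := by rw [← hXmem, show fX x = 1 from hx, map_one]
      have h2 : (x : X) = ι ⟨sX x, h1⟩ := Subtype.ext (Prod.ext hx rfl)
      have h3 : τ (ι ⟨sX x, h1⟩) = τ (ι 1) := by rw [← h2, map_one, map_one, show τ x = 1 from x.2]
      refine Subtype.ext ?_
      rw [h2, hbij.1 h3, map_one, OneMemClass.coe_one]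
    · intro g
      obtain ⟨x, hx⟩ := hfX g
      obtain ⟨a, ha⟩ := hbij.2 (τ x)
      refine ⟨⟨x * (ι a)⁻¹, by rw [MonoidHom.mem_ker, map_mul, map_inv]; simp [← ha]⟩, ?_⟩
      show fX (x * (ι a)⁻¹) = g
      rw [map_mul, map_inv, hx, show fX (ι a) = 1 from rfl, inv_one, mul_one]
  let e := MulEquiv.ofBijective ψ hψ
  refine ⟨(sX.comp τ.ker.subtype).comp e.symm.toMonoidHom, fun g => ?_⟩
  show q (sX ((e.symm g : τ.ker) : X)) = α g
  rw [← hXmem]
  exact congrArg α (e.apply_symm_apply g)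

/-- **Tate's theorem**: if `P ≤ H` and `P ∩ G'` lies in every normal subgroup of index `p` of `H`,
then `P ∩ O^p(G) ≤ O^p(H)`. -/
theorem tate [hp : Fact p.Prime] [Finite G] (P : Sylow p G) (H : Subgroup G)
    (hPH : (P : Subgroup G) ≤ H)
    (h : ∀ M : Subgroup H, M.Normal → M.index = p →
      (P : Subgroup G) ⊓ commutator G ≤ M.map H.subtype) :
    (P : Subgroup G) ⊓ pResidual p G ≤ (pResidual p H).map H.subtype := by
  set K := pResidual p G
  set J := K.subgroupOf H
  suffices hJ : J ≤ pResidual p H by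
    rintro x ⟨hxP, hxK⟩
    exact ⟨⟨x, hPH hxP⟩, hJ (mem_subgroupOf.mpr hxK), rfl⟩
  by_contra hJ
  set L := pResidual p H
  have hLJ : L ≤ J := fun x hx => map_pResidual_le H.subtype ⟨x, hx, rfl⟩
  obtain ⟨D, ⟨hDn, hLD, hDJ⟩, hDmax⟩ :=
    (Set.toFinite {D : Subgroup H | D.Normal ∧ L ≤ D ∧ D < J}).exists_maximal
      ⟨L, pResidual_normal, le_rfl, lt_of_le_of_ne hLJ fun he => hJ he.ge⟩
  let mk := QuotientGroup.mk' D
  have hsurj : Function.Surjective mk := QuotientGroup.mk'_surjective D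
  have hE : IsPGroup p (H ⧸ D) := by
    rintro ⟨g⟩
    obtain ⟨k, hk⟩ := exists_pow_mem_pResidual (p := p) g
    exact ⟨k, (QuotientGroup.eq_one_iff (g ^ (p ^ k))).mpr (hLD hk)⟩
  set A := J.map mk
  have hAn : A.Normal := Subgroup.Normal.map inferInstance mk hsurj
  have hAne : A ≠ ⊥ := by
    rw [ne_eq, Subgroup.map_eq_bot_iff, QuotientGroup.ker_mk']
    exact hDJ.not_ge
  obtain ⟨hAc, hAp⟩ := minimal_normal_of_isPGroup hE A hAne fun B hB hBA => by
    have hle : B.comap mk ≤ J := by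
      refine (comap_mono hBA).trans ?_
      rw [comap_map_eq, QuotientGroup.ker_mk']
      exact sup_le le_rfl hDJ.le
    have hDB : D ≤ B.comap mk := le_trans (QuotientGroup.ker_mk' D).ge (comap_mono bot_le)
    rcases hle.lt_or_eq with hlt | heq
    · left
      have : B.comap mk = D :=
        le_antisymm (hDmax ⟨hB.comap mk, hLD.trans hDB, hlt⟩ hDB) hDB
      rw [← map_comap_eq_self_of_surjective hsurj B, this, Subgroup.map_eq_bot_iff,
        QuotientGroup.ker_mk']
    · right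
      rw [← map_comap_eq_self_of_surjective hsurj B, heq]
  let α : G →* G ⧸ K := QuotientGroup.mk' K
  let q : H ⧸ D →* G ⧸ K := QuotientGroup.lift D (α.comp H.subtype)
    (fun x hx => (QuotientGroup.eq_one_iff (x : G)).mpr (hDJ.le hx))
  have hidx : ¬ p ∣ H.index := fun hd => P.not_dvd_index (hd.trans (index_dvd_of_le hPH))
  have hq : Function.Surjective q := by
    rintro ⟨g⟩
    obtain ⟨k, hk, x, hx, rfl⟩ := mem_sup_of_normal_left.mp
      ((pResidual_sup_eq_top_of_not_dvd_index H hidx).symm ▸ mem_top g : g ∈ K ⊔ H)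
    refine ⟨mk ⟨x, hx⟩, ?_⟩
    change ((x : G) : G ⧸ K) = ((k * x : G) : G ⧸ K)
    rw [QuotientGroup.mk_mul, (QuotientGroup.eq_one_iff k).mpr hk, one_mul]
  have hker : q.ker = A := by
    ext y
    obtain ⟨x, rfl⟩ := hsurj y
    constructor
    · intro hy
      exact ⟨x, (QuotientGroup.eq_one_iff (x : G)).mp hy, rfl⟩
    · rintro ⟨x', hx', he⟩
      rw [MonoidHom.mem_ker, ← he]
      exact (QuotientGroup.eq_one_iff (x' : G)).mpr hx'
  obtain ⟨f, hf⟩ := exists_lift_of_index_coprime H hidx q hq (hker ▸ hAc)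
    (IsPGroup.of_card (n := 1) (by rw [hker, hAp, pow_one])) α mk (fun _ => rfl)
  have hfK : K ≤ f.ker := pResidual_le_ker f hE
  have hχmem : ∀ x : H, (mk x)⁻¹ * f x ∈ A := fun x => by
    rw [← hker, MonoidHom.mem_ker, map_mul, map_inv, hf]
    exact inv_mul_cancel _
  let χ : H →* A :=
    { toFun := fun x => ⟨(mk x)⁻¹ * f x, hχmem x⟩
      map_one' := Subtype.ext (by simp)
      map_mul' := fun x y => Subtype.ext (by
        change (mk (x * y))⁻¹ * f ((x * y : H) : G) = ((mk x)⁻¹ * f x) * ((mk y)⁻¹ * f y)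
        rw [map_mul, Subgroup.coe_mul, map_mul, mul_inv_rev]
        have hc := mem_center_iff.mp (hAc (hχmem x)) (mk y)⁻¹
        calc (mk y)⁻¹ * (mk x)⁻¹ * (f x * f y)
            = ((mk y)⁻¹ * ((mk x)⁻¹ * f x)) * f y := by group
          _ = (((mk x)⁻¹ * f x) * (mk y)⁻¹) * f y := by rw [hc]
          _ = _ := by group) }
  have hχJ : ∀ x ∈ J, ((χ x : A) : H ⧸ D) = (mk x)⁻¹ := fun x hx => by
    change (mk x)⁻¹ * f (x : G) = _
    rw [MonoidHom.mem_ker.mp (hfK (mem_subgroupOf.mp hx)), mul_one]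
  have hrange : χ.range = ⊤ := by
    refine eq_top_of_card_eq _ (le_antisymm (card_le_card_group _) ?_)
    rcases (Nat.dvd_prime hp.out).mp (hAp ▸ card_subgroup_dvd_card χ.range) with h1 | h1
    · obtain ⟨x, hxJ, hxD⟩ := SetLike.exists_of_lt hDJ
      refine absurd ?_ hxD
      have h2 : χ x = 1 := by
        have : χ x ∈ χ.range := ⟨x, rfl⟩
        rwa [card_eq_one.mp h1, mem_bot] at this
      have h3 := hχJ x hxJ
      rw [h2] at h3
      exact (QuotientGroup.eq_one_iff x).mp (inv_eq_one.mp h3.symm)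
    · rw [h1, hAp]
  have hM : χ.ker.index = p := by
    rw [index_ker, hrange, Nat.card_congr Subgroup.topEquiv.toEquiv, hAp]
  have hsub := h χ.ker inferInstance hM
  have hJker : J ≤ χ.ker := by
    have hSy : ¬ p ∣ (J.map H.subtype ⊓ (P : Subgroup G)).relIndex (J.map H.subtype) := by
      rw [inf_relIndex_left]
      have e : J.map H.subtype = K ⊓ H := subgroupOf_map_subtype K H
      have h1 : ¬ p ∣ (P : Subgroup G).relIndex K := sylow_not_dvd_relIndex_normal P K
      refine fun hd => h1 (hd.trans ?_)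
      have e2 : (P : Subgroup G) ⊓ K ≤ K ⊓ H := le_inf inf_le_right (inf_le_left.trans hPH)
      rw [e, ← inf_relIndex_right (H := (P : Subgroup G)) (K := K),
        ← relIndex_mul_relIndex _ _ _ e2 inf_le_left]
      refine Dvd.dvd.mul_right (dvd_of_eq ?_) _
      rw [← inf_relIndex_right (H := (P : Subgroup G) ⊓ K), ← inf_relIndex_right (H := (P : Subgroup G))]
      congr 1
      rw [inf_assoc, inf_eq_right.mpr (inf_le_left : K ⊓ H ≤ K)]
    have hPJ : (J.map H.subtype ⊓ (P : Subgroup G)).subgroupOf H ≤ χ.ker := by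
      rintro x ⟨hxJ, hxP⟩
      obtain ⟨y, hy, hyx⟩ := hxJ
      obtain ⟨z, hz, hzx⟩ := hsub ⟨hxP, sylow_inf_pResidual_le_commutator P
        ⟨hxP, hyx ▸ mem_subgroupOf.mp hy⟩⟩
      rwa [← Subtype.ext (a1 := z) (a2 := x) hzx]
    intro x hx
    have hdvd : (χ.ker.relIndex J) ∣ (J.map H.subtype ⊓ (P : Subgroup G)).relIndex (J.map H.subtype) := by
      rw [← relIndex_subgroupOf (K := J.map H.subtype) (L := H) (map_subtype_le J),
        show (J.map H.subtype).subgroupOf H = J from comap_map_eq_self_of_injective H.subtype_injective J]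
      exact relIndex_dvd_of_le_left J hPJ
    have hdvd2 : χ.ker.relIndex J ∣ p := hM ▸ relIndex_dvd_index_of_normal χ.ker J
    rcases (Nat.dvd_prime hp.out).mp hdvd2 with h1 | h1
    · exact relIndex_eq_one.mp h1 hx
    · rw [h1] at hdvd
      exact absurd hdvd hSy
  obtain ⟨x, hxJ, hxD⟩ := SetLike.exists_of_lt hDJ
  refine hxD ((QuotientGroup.eq_one_iff x).mp (inv_eq_one.mp ?_))
  change (mk x)⁻¹ = 1
  rw [← hχJ x hxJ, MonoidHom.mem_ker.mp (hJker hxJ), OneMemClass.coe_one]

end Cfsg.Agent.H22
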