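import Cfsg.Agent.H22.Fusion
import Cfsg.Agent.H22.AbelianHall
import Mathlib.GroupTheory.SpecificGroups.Cyclic

/-!
# Abelian and cyclic Sylow subgroups
-/

namespace Cfsg.Agent.H22

open Subgroup
open scoped commutatorElement

variable {G : Type*} [Group G] {p : ℕ}

/-- Burnside's transfer theorem in `HasNormalPComplement` form. -/
theorem burnside_normal_complement [Fact p.Prime] [Finite G] (P : Sylow p G)
    (h : Subgroup.normalizer (P : Set G) ≤ Subgroup.centralizer (P : Set G)) :
    HasNormalPComplement p G :=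
  ⟨P, _, MonoidHom.normal_ker _, MonoidHom.ker_transferSylow_isComplement' P h⟩

/-- An abelian Sylow subgroup is `⁅P, N(P)⁆ × C_P(N(P))`. -/
theorem abelian_sylow_decomposition [Fact p.Prime] [Finite G] (P : Sylow p G)
    (hP : IsMulCommutative P) :
    ⁅(P : Subgroup G), Subgroup.normalizer (P : Set G)⁆ ⊓
        ((P : Subgroup G) ⊓ Subgroup.centralizer (Subgroup.normalizer (P : Set G) : Set G)) = ⊥ ∧
      ⁅(P : Subgroup G), Subgroup.normalizer (P : Set G)⁆ ⊔
        ((P : Subgroup G) ⊓ Subgroup.centralizer (Subgroup.normalizer (P : Set G) : Set G)) =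
          (P : Subgroup G) := by
  set N := Subgroup.normalizer (P : Set G) with hN
  let A := (P : Subgroup G).subgroupOf N
  have hPN : (P : Subgroup G) ≤ N := le_normalizer
  have hAn : A.Normal := normal_in_normalizer
  have hAc : IsMulCommutative A :=
    ⟨⟨fun a b => Subtype.ext (Subtype.ext (by
      have := congrArg Subtype.val (hP.is_comm.comm (⟨_, a.2⟩ : P) ⟨_, b.2⟩)
      exact this))⟩⟩
  have hHall : Nat.Coprime (Nat.card A) A.index := by
    rw [Nat.card_congr (subgroupOfEquivOfLe hPN).toEquiv]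
    exact P.card_coprime_index.coprime_dvd_right (relIndex_dvd_index_of_le hPN)
  obtain ⟨h1, h2, h3⟩ := abelian_normal_hall_decomposition A hAc hHall
  rw [← h1] at h2 h3
  have hinj := map_injective N.subtype_injective
  have e1 : (⁅A, (⊤ : Subgroup N)⁆).map N.subtype = ⁅(P : Subgroup G), N⁆ := by
    rw [map_commutator, ← MonoidHom.range_eq_map, range_subtype, map_subgroupOf_eq_of_le hPN]
  have e2 : (center N ⊓ A).map N.subtype = (P : Subgroup G) ⊓ Subgroup.centralizer (N : Set G) := by
    ext x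
    constructor
    · rintro ⟨y, ⟨hyc, hyA⟩, rfl⟩
      exact ⟨hyA, mem_centralizer_iff.mpr fun n hn =>
        congrArg Subtype.val (mem_center_iff.mp hyc ⟨n, hn⟩)⟩
    · rintro ⟨hxP, hxC⟩
      exact ⟨⟨x, hPN hxP⟩, ⟨mem_center_iff.mpr fun n =>
        Subtype.ext (mem_centralizer_iff.mp hxC n n.2), hxP⟩, rfl⟩
  constructor
  · rw [← e1, ← e2, ← map_inf _ _ _ N.subtype_injective, h2, Subgroup.map_bot]
  · rw [← e1, ← e2, ← Subgroup.map_sup, h3, map_subgroupOf_eq_of_le hPN]

/-- Two nontrivial subgroups of a cyclic `p`-subgroup meet nontrivially. -/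
theorem inf_ne_bot_of_isCyclic [hp : Fact p.Prime] [Finite G] {P : Subgroup G} (hPp : IsPGroup p P)
    (hP : IsCyclic P) {A B : Subgroup G} (hA : A ≤ P) (hB : B ≤ P) (hA' : A ≠ ⊥) (hB' : B ≠ ⊥) :
    A ⊓ B ≠ ⊥ := by
  classical
  have := Fintype.ofFinite P
  have key : ∀ C : Subgroup G, C ≤ P → C ≠ ⊥ → ∃ c : P, (c : G) ∈ C ∧ orderOf c = p := by
    intro C hC hC'
    have : Nontrivial C := (nontrivial_iff_ne_bot C).mpr hC'
    obtain ⟨c, hc⟩ := exists_prime_orderOf_dvd_card' p
      ((hPp.to_le hC).card_eq_or_dvd.resolve_left Finite.one_lt_card.ne')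
    exact ⟨⟨c, hC c.2⟩, c.2, by rw [← Subgroup.orderOf_coe, Subgroup.coe_mk, Subgroup.orderOf_coe, hc]⟩
  obtain ⟨a, ha, hao⟩ := key A hA hA'
  obtain ⟨b, hb, hbo⟩ := key B hB hB'
  have hs : ((zpowers a : Set P)).toFinset = Finset.univ.filter (fun x : P => x ^ p = 1) := by
    refine Finset.eq_of_subset_of_card_le (fun x hx => ?_) ?_
    · rw [Set.mem_toFinset, SetLike.mem_coe] at hx
      simp only [Finset.mem_filter, Finset.mem_univ, true_and]
      exact orderOf_dvd_iff_pow_eq_one.mp (hao ▸ orderOf_dvd_of_mem_zpowers hx)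
    · refine (IsCyclic.card_pow_eq_one_le hp.out.pos).trans ?_
      rw [Set.toFinset_card, ← Nat.card_eq_fintype_card]
      exact ((Nat.card_zpowers a).trans hao).ge
  have hba : b ∈ zpowers a := by
    have : b ∈ Finset.univ.filter (fun x : P => x ^ p = 1) := by
      simp only [Finset.mem_filter, Finset.mem_univ, true_and]
      exact hbo ▸ pow_orderOf_eq_one b
    rw [← hs, Set.mem_toFinset] at this
    exact this
  intro h
  have hbA : (b : G) ∈ A := by
    obtain ⟨k, hk⟩ := mem_zpowers_iff.mp hba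
    rw [← hk, SubgroupClass.coe_zpow]
    exact zpow_mem ha k
  have hb1 : (b : G) ∈ A ⊓ B := ⟨hbA, hb⟩
  rw [h, mem_bot] at hb1
  have : b = 1 := Subtype.ext hb1
  rw [this, orderOf_one] at hbo
  exact hp.out.ne_one hbo.symm

/-- With a cyclic Sylow `p`-subgroup, either `G` has a normal `p`-complement or `O^p(G) = G`. -/
theorem cyclic_sylow_dichotomy [Fact p.Prime] [Finite G] (P : Sylow p G) (hP : IsCyclic P) :
    HasNormalPComplement p G ∨ pResidual p G = ⊤ := by
  have hc : IsMulCommutative P := inferInstance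
  obtain ⟨h1, h2⟩ := abelian_sylow_decomposition P hc
  set N := Subgroup.normalizer (P : Set G)
  by_cases hD : ⁅(P : Subgroup G), N⁆ = ⊥
  · left
    refine burnside_normal_complement P ?_
    rw [commutator_eq_bot_iff_le_centralizer, le_centralizer_iff] at hD
    exact hD
  · right
    have hCbot : (P : Subgroup G) ⊓ Subgroup.centralizer (N : Set G) = ⊥ := by
      by_contra hC
      refine inf_ne_bot_of_isCyclic P.2 hP ?_ inf_le_left hD hC h1
      exact le_sup_left.trans h2.le
    rw [hCbot, sup_bot_eq] at h2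
    refine top_le_iff.mp ((pResidual_sup_sylow P).ge.trans (sup_le le_rfl ?_))
    conv_lhs => rw [← h2, ← focal_eq_commutator_normalizer P hc]
    refine le_trans ?_ (commutator_le_pResidual_of_abelian P hc)
    exact Subgroup.focalSubgroup_le_commutator (P : Subgroup G)

/-- An abelian Sylow subgroup: normal `p`-complement iff the normaliser splits centrally. -/
theorem abelian_sylow_splits_iff [Fact p.Prime] [Finite G] (P : Sylow p G)
    (hP : IsMulCommutative P) :
    HasNormalPComplement p G ↔
      ∃ Q : Subgroup G, Q ≤ Subgroup.centralizer (P : Set G) ∧ Q ⊓ (P : Subgroup G) = ⊥ ∧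
        Q ⊔ (P : Subgroup G) = Subgroup.normalizer (P : Set G) := by
  constructor
  · intro h
    set N := Subgroup.normalizer (P : Set G)
    have hK := isPGroup_inf_eq_bot P.2 _ (hasNormalPComplement_iff.mp h)
    refine ⟨pResidual p G ⊓ N, ?_, ?_, ?_⟩
    · change pResidual p G ⊓ N ≤ Subgroup.centralizer ((P : Subgroup G) : Set G)
      rw [← commutator_eq_bot_iff_le_centralizer, eq_bot_iff, ← hK]
      refine le_inf (commutator_le.mpr fun q hq x hx => ?_)
        ((commutator_mono inf_le_left le_top).trans (commutator_le_left _ _))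
      rw [commutatorElement_def]
      exact (P : Subgroup G).mul_mem ((mem_normalizer_iff.mp hq.2 x).mp hx) ((P : Subgroup G).inv_mem hx)
    · rw [inf_right_comm, inf_comm (pResidual p G), hK, bot_inf_eq]
    · refine le_antisymm (sup_le inf_le_right le_normalizer) fun n hn => ?_
      obtain ⟨k, hk, x, hx, rfl⟩ := mem_sup_of_normal_left.mp
        ((pResidual_sup_sylow P).symm ▸ mem_top n : n ∈ pResidual p G ⊔ (P : Subgroup G))
      refine mul_mem_sup ⟨hk, ?_⟩ hx
      simpa using N.mul_mem hn (N.inv_mem (le_normalizer hx))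
  · rintro ⟨Q, hQ, -, hQP⟩
    refine burnside_normal_complement P ?_
    rw [← hQP]
    refine sup_le hQ fun x hx => mem_centralizer_iff.mpr fun y hy => ?_
    exact congrArg Subtype.val (hP.is_comm.comm (⟨y, hy⟩ : P) ⟨x, hx⟩)

end Cfsg.Agent.H22
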