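import Cfsg.Agent.H40.BlockDefect
import Cfsg.Agent.H40.CoeffSums
import Cfsg.Agent.H40.PPart
import Cfsg.Agent.H27.DefectZero
import Cfsg.Agent.H44.Codegree
import Cfsg.Agent.H42.Central
import Cfsg.Agent.H43.PPrimeDegree
import Mathlib.RingTheory.IntegralDomain

/-!
# A character of defect zero modulo a central `p`-subgroup bounds the defect group
-/

set_option autoImplicit false
set_option linter.unusedSectionVars false

open scoped ComplexConjugate

namespace Cfsg.Agent.H22

open Cfsg
open Cfsg.Agent.H41 (localRing res ResField omegaBar redZ centerOfFun omegaLoc)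

universe u

variable {H : Type u} [Group H] [Fintype H] {p : ℕ} [Fact p.Prime] {M : Ideal AlgInt} [M.IsMaximal]
  {P : Subgroup H} {θ : IrrCharacter H}

/-- Outside the subgroup times the regular elements such a character vanishes. -/
theorem eq_zero_of_central_defect_zero (hPc : P ≤ Subgroup.center H)
    (hker : ∀ z ∈ P, (θ : H → ℂ) z = (θ : H → ℂ) 1)
    (hdeg : (charDegree (θ : H → ℂ)).factorization p + (Nat.card P).factorization p =
      (Nat.card H).factorization p) {g x : H} (hgx : IsPPart p g x) (hx : x ∉ P) :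
    (θ : H → ℂ) g = 0 := by
  classical
  have hp : p.Prime := Fact.out
  have hPn : P.Normal := ⟨fun z hz h => by
    rw [Subgroup.mem_center_iff.1 (hPc hz) h, mul_inv_cancel_right]; exact hz⟩
  obtain ⟨ψ, hψ⟩ := H44.exists_eq_inflate P θ fun z hz => H44.mem_kerOf.2 (hker z hz)
  rw [← hψ, H44.inflate_apply]
  have : Fintype (H ⧸ P) := Fintype.ofFinite _
  rw [← hψ, H44.charDegree_inflate] at hdeg
  have hcard : (Nat.card H).factorization p =
      (Nat.card P).factorization p + (Nat.card (H ⧸ P)).factorization p := by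
    rw [← P.card_mul_index, Nat.factorization_mul Nat.card_pos.ne'
      Subgroup.index_ne_zero_of_finite, Finsupp.add_apply, Subgroup.index_eq_card]
  have hsing : p ∣ orderOf (g : H ⧸ P) := by
    obtain ⟨k, hk⟩ := H40.exists_pow_eq_of_isPPart hgx
    obtain ⟨y, -, -, ⟨j, hj⟩, -⟩ := hgx
    have h1 : orderOf (x : H ⧸ P) ∣ p ^ j := hj ▸ orderOf_map_dvd (QuotientGroup.mk' P) x
    obtain ⟨i, -, hi⟩ := (Nat.dvd_prime_pow hp).1 h1
    have hi0 : i ≠ 0 := by
      rintro rfl
      exact hx ((QuotientGroup.eq_one_iff x).1 (orderOf_eq_one_iff.1 (by simpa using hi)))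
    refine (hi ▸ dvd_pow_self p hi0).trans ?_
    rw [← hk, QuotientGroup.mk_pow]
    exact orderOf_pow_dvd k
  set n := (Nat.card (H ⧸ P)).factorization p with hn
  exact H27.char_eq_zero_of_defect_zero ψ hp (n := n) (Nat.ordProj_dvd _ _)
    (fun h => by
      rw [hp.pow_dvd_iff_le_factorization Nat.card_pos.ne'] at h
      omega)
    (d := charDegree (ψ : H ⧸ P → ℂ)) (H44.cast_charDegree ψ).symm
    ((hp.pow_dvd_iff_le_factorization (H44.charDegree_pos ψ).ne').2 (by omega)) _ hsing

open scoped Classical in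
/-- Pairing with the character over the regular elements. -/
theorem card_mul_sum_regular (hPc : P ≤ Subgroup.center H) (hP : IsPGroup p P)
    (hker : ∀ z ∈ P, (θ : H → ℂ) z = (θ : H → ℂ) 1)
    (hdeg : (charDegree (θ : H → ℂ)).factorization p + (Nat.card P).factorization p =
      (Nat.card H).factorization p) (χ : IrrCharacter H)
    (hχ : ∀ z ∈ P, (χ : H → ℂ) z = (χ : H → ℂ) 1) :
    (Nat.card P : ℂ) * ∑ s : H, (if p ∣ orderOf s then 0 else (θ : H → ℂ) s⁻¹ * (χ : H → ℂ) s) =
      if χ = θ then (Nat.card H : ℂ) else 0 := by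
  set F : H → ℂ := fun s => (θ : H → ℂ) s⁻¹ * (χ : H → ℂ) s with hF
  have hinv : ∀ z ∈ P, ∀ g : H, F (g * z) = F g := by
    intro z hz g
    simp only [hF]
    rw [H26.irr_inv θ (g * z), H26.irr_inv θ g, H43.irr_mul_charKer θ g (H43.mem_charKer.2 (hker z hz)),
      H43.irr_mul_charKer χ g (H43.mem_charKer.2 (hχ z hz))]
  have hall : ∑ g : H, F g = if χ = θ then (Nat.card H : ℂ) else 0 := by
    have h := H26.classInner_irr χ θ
    rw [classInner, inv_mul_eq_iff_eq_mul₀ (Nat.cast_ne_zero.2 Nat.card_pos.ne'), mul_ite,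
      mul_one, mul_zero] at h
    rw [← h]
    exact Finset.sum_congr rfl fun g _ => by rw [hF]; dsimp only; rw [H26.irr_inv, mul_comm]
  rw [← hall]
  have hswap : ∀ z : P, ∑ s : H, (if p ∣ orderOf s then 0 else F s) =
      ∑ g : H, (if p ∣ orderOf (g * (z : H)⁻¹) then 0 else F g) := fun z =>
    Fintype.sum_equiv (Equiv.mulRight (z : H)) _ _ fun s => by
      simp [hinv z z.2 s]
  calc (Nat.card P : ℂ) * ∑ s : H, (if p ∣ orderOf s then 0 else F s)
      = ∑ z : P, ∑ s : H, (if p ∣ orderOf s then 0 else F s) := by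
        rw [Finset.sum_const, Finset.card_univ, ← Nat.card_eq_fintype_card, nsmul_eq_mul]
    _ = ∑ g : H, ∑ z : P, (if p ∣ orderOf (g * (z : H)⁻¹) then 0 else F g) := by
        rw [Finset.sum_comm (γ := H), Finset.sum_congr rfl fun z _ => hswap z]
    _ = ∑ g : H, F g := by
      refine Finset.sum_congr rfl fun g _ => ?_
      by_cases hg : F g = 0
      · simp [hg]
      obtain ⟨x, hx⟩ := H40.exists_isPPart p g
      have hxP : x ∈ P := by
        by_contra hn
        refine hg ?_
        simp only [hF]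
        rw [H26.irr_inv, eq_zero_of_central_defect_zero hPc hker hdeg hx hn, map_zero, zero_mul]
      obtain ⟨y, hy, -, -, hyr⟩ := id hx
      have hg' : g * x⁻¹ = y := by
        rw [← hy, (Subgroup.mem_center_iff.1 (hPc hxP) y).symm, mul_inv_cancel_right]
      rw [Finset.sum_eq_single (⟨x, hxP⟩ : P)]
      · rw [if_neg (by rw [hg']; exact hyr)]
      · intro z _ hne
        rw [if_pos]
        by_contra hreg
        refine hne (Subtype.ext ?_)
        obtain ⟨j, hj⟩ := IsPGroup.iff_orderOf.1 hP z
        rw [← Subgroup.orderOf_coe] at hj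
        have h1 := H40.isPPart_mul (x := (z : H)) (y := g * (z : H)⁻¹)
          (Subgroup.mem_center_iff.1 (hPc z.2) _).symm hj hreg
        rw [← Subgroup.mem_center_iff.1 (hPc z.2) (g * (z : H)⁻¹), inv_mul_cancel_right] at h1
        exact H40.isPPart_unique h1 hx
      · exact fun h => absurd (Finset.mem_univ _) h

/-- A block with a character of defect zero modulo a central `p`-subgroup `P` has a defect group
no larger than `P`. -/
theorem card_defectGroup_le_of_central (hM : IsPModular p M) {B : Set (IrrCharacter H)}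
    (hB : IsPBlock M B) (hPc : P ≤ Subgroup.center H) (hP : IsPGroup p P) (hθ : θ ∈ B)
    (hker : ∀ z ∈ P, (θ : H → ℂ) z = (θ : H → ℂ) 1)
    (hdeg : (charDegree (θ : H → ℂ)).factorization p + (Nat.card P).factorization p =
      (Nat.card H).factorization p) {D : Subgroup H} (hD : IsDefectGroup p M B D) :
    Nat.card D ≤ Nat.card P := by
  classical
  have hp : p.Prime := Fact.out
  have hd := (H42.charDegree_pos θ).ne'
  have hnum : Nat.card P * charDegree (θ : H → ℂ) ≠ 0 := Nat.mul_ne_zero Nat.card_pos.ne' hd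
  have hval : (Nat.card P * charDegree (θ : H → ℂ)).factorization p =
      (Nat.card H).factorization p := by
    rw [Nat.factorization_mul Nat.card_pos.ne' hd, Finsupp.add_apply, add_comm, hdeg]
  set c : ℂ := ((Nat.card P * charDegree (θ : H → ℂ) : ℕ) : ℂ) / (Nat.card H : ℂ) with hc_def
  have hc : c ∈ localRing M := H40.natCast_div_mem_of_le hM hnum Nat.card_pos.ne' hval.ge
  -- the idempotent of the character, on regular elements
  have hβ : ∀ s : H, (if p ∣ orderOf s then 0 else c * (θ : H → ℂ) s⁻¹) ∈ localRing M := fun s => by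
    split
    · exact zero_mem _
    · exact mul_mem hc (H40.irr_mem_localRing θ _)
  set ε := centerOfFun (fun s : H => (⟨_, hβ s⟩ : localRing M)) (by
    intro g h
    apply Subtype.ext
    show (if p ∣ orderOf (h * g * h⁻¹) then 0 else c * (θ : H → ℂ) (h * g * h⁻¹)⁻¹) = _
    rw [show orderOf (h * g * h⁻¹) = orderOf g from MulEquiv.orderOf_eq (MulAut.conj h) g,
      show (h * g * h⁻¹)⁻¹ = h * g⁻¹ * h⁻¹ by group, H26.irr_conj]) with hε_def
  have hω : ∀ χ : IrrCharacter H, (∀ z ∈ P, (χ : H → ℂ) z = (χ : H → ℂ) 1) →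
      omegaLoc M χ ε = if χ = θ then 1 else 0 := by
    intro χ hχ
    apply Subtype.ext
    have hsum := card_mul_sum_regular hPc hP hker hdeg χ hχ
    have e : ((omegaLoc M χ ε : localRing M) : ℂ) =
        ((Nat.card H : ℂ)⁻¹ * (charDegree (θ : H → ℂ) : ℂ)) * ((Nat.card P : ℂ) *
          ∑ s : H, (if p ∣ orderOf s then 0 else (θ : H → ℂ) s⁻¹ * (χ : H → ℂ) s)) /
            (χ : H → ℂ) 1 := by
      rw [H41.coe_omegaLoc, H41.omega_apply, Finset.mul_sum, Finset.mul_sum]
      congr 1
      refine Finset.sum_congr rfl fun s _ => ?_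
      rw [H41.coeff_incl, hε_def, H41.coeff_centerOfFun]
      dsimp only
      split
      · simp
      · rw [hc_def, Nat.cast_mul]; ring
    rw [e, hsum]
    split_ifs with h
    · subst h
      rw [H42.irr_one_eq]
      have h1 : (charDegree (χ : H → ℂ) : ℂ) ≠ 0 := Nat.cast_ne_zero.2 hd
      have h2 : (Nat.card H : ℂ) ≠ 0 := Nat.cast_ne_zero.2 Nat.card_pos.ne'
      simp only [OneMemClass.coe_one]
      field_simp
    · simp
  have hone : ∀ χ ∈ B, (∀ z ∈ P, (χ : H → ℂ) z = (χ : H → ℂ) 1) → χ = θ := by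
    intro χ hχ hk
    by_contra hne
    have h := H41.omegaBar_eq_of_mem (M := M) hB hχ hθ
    have h1 := H41.omegaBar_redZ M χ ε
    have h2 := H41.omegaBar_redZ M θ ε
    rw [hω χ hk, if_neg hne, map_zero] at h1
    rw [hω θ hker, if_pos rfl, map_one, ← h, h1] at h2
    exact zero_ne_one h2
  -- at a defect class the character has a unit value
  obtain ⟨g, hg, hDg⟩ := H40.isDefectGroup_iff.1 hD
  have hreg : ¬ p ∣ orderOf g := H40.not_dvd_orderOf_of_coeffUnit hM hB ⟨hg.1, hg.2.1⟩
  have : Fintype P := Fintype.ofFinite _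
  have hsum : ∑ z : P, blockCoeff B (g * (z : H)) = blockCoeff B g := by
    rw [Finset.sum_eq_single (1 : P) (fun z _ hz => ?_) (by simp), OneMemClass.coe_one, mul_one]
    refine H40.blockCoeff_eq_zero_of_singular hM hB ?_
    by_contra hn
    obtain ⟨j, hj⟩ := IsPGroup.iff_orderOf.1 hP z
    rw [← Subgroup.orderOf_coe] at hj
    have h1 := H40.isPPart_mul (Subgroup.mem_center_iff.1 (hPc z.2) g).symm hj hreg
    rw [← Subgroup.mem_center_iff.1 (hPc z.2) g] at h1
    exact hz (Subtype.ext ((H40.regular_iff_pPart_eq_one h1).1 hn))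
  have hcoeff : blockCoeff B g = c * conj ((θ : H → ℂ) g) := by
    rw [← hsum]
    simp only [H40.blockCoeff_eq_sum, ← Finset.mul_sum]
    rw [Finset.sum_comm]
    rw [Finset.sum_eq_single θ]
    · rw [Finset.sum_congr rfl (g := fun _ : P => (θ : H → ℂ) 1 * conj ((θ : H → ℂ) g))
        fun z _ => by rw [H43.irr_mul_charKer θ g (H43.mem_charKer.2 (hker z z.2))],
        Finset.sum_const, Finset.card_univ, ← Nat.card_eq_fintype_card, nsmul_eq_mul,
        H42.irr_one_eq, hc_def, Nat.cast_mul]
      ring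
    · intro χ hχ hne
      have hχB := (Finset.mem_filter.1 hχ).2
      rw [← Finset.mul_sum, mul_eq_zero]
      right
      rw [← map_sum, map_eq_zero]
      set f := H42.centralHom χ P hPc with hf
      have hfne : f ≠ 1 := fun h1 => hne (hone χ hχB fun z hz => by
        have h2 := H42.centralHom_apply χ P hPc ⟨z, hz⟩
        rw [← hf, h1, MonoidHom.one_apply, Units.val_one, eq_comm,
          div_eq_one_iff_eq (H26.irr_one_ne_zero χ)] at h2
        exact h2)
      have hf0 : ∑ z : P, ((f z : ℂˣ) : ℂ) = 0 :=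
        sum_hom_units_eq_zero ((Units.coeHom ℂ).comp f) fun h => hfne (MonoidHom.ext fun z =>
          Units.ext (by simpa using DFunLike.congr_fun h z))
      rw [Finset.sum_congr rfl (g := fun z : P => ((f z : ℂˣ) : ℂ) * (χ : H → ℂ) g) fun z _ => by
        rw [Subgroup.mem_center_iff.1 (hPc z.2) g, H42.irr_central_mul χ (hPc z.2) g,
          H42.centralHom_apply], ← Finset.sum_mul, hf0, zero_mul]
    · exact fun h => absurd (Finset.mem_filter.2 ⟨Finset.mem_univ _, hθ⟩) h
  have hunit : ¬ MemLocalIdeal M ((θ : H → ℂ) g⁻¹) := by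
    intro h
    refine hg.2.1 ?_
    rw [hcoeff, ← H26.irr_inv]
    exact H40.memLocalIdeal_mul_left hc h
  have hle := H40.factorization_le_index hM hunit
  rw [H40.centralizer_singleton_inv] at hle
  rw [H40.card_isSylowIn hDg]
  obtain ⟨m, hm⟩ := IsPGroup.iff_card.1 hP
  rw [hm]
  refine Nat.pow_le_pow_right hp.pos ?_
  have hPv : (Nat.card P).factorization p = m := by
    rw [hm, hp.factorization_pow, Finsupp.single_eq_same]
  have hH : (Nat.card H).factorization p =
      (Nat.card (Subgroup.centralizer ({g} : Set H))).factorization p +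
        (Subgroup.centralizer ({g} : Set H)).index.factorization p := by
    rw [← (Subgroup.centralizer ({g} : Set H)).card_mul_index,
      Nat.factorization_mul Nat.card_pos.ne' Subgroup.index_ne_zero_of_finite, Finsupp.add_apply]
  omega

end Cfsg.Agent.H22
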