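import Cfsg.Agent.H22.DihedralFun
import Cfsg.Agent.H22.DihedralComb
import Cfsg.Agent.H22.DihedralLocal
import Cfsg.Agent.H22.TIContrib
import Cfsg.Agent.H23.OneSubsection
import Cfsg.Agent.H43.IntCong

/-!
# Blocks with dihedral defect groups

The multiplicities of the linear characters of the rotations in the characters attached to the
members of the block satisfy the numerical hypotheses of `Dihedral.Data`.
-/

set_option autoImplicit false
set_option linter.unusedSectionVars false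

open scoped ComplexConjugate Classical

namespace Cfsg.Agent.H22.Dihedral

open Cfsg
open Cfsg.Agent.H41 (ResField localRing res)

variable {G : Type*} [Group G] [Fintype G] {D : Subgroup G} {σ τ : G} {h : ℕ}

theorem cyc_local (hd : DihData D σ τ h) (hP : IsPGroup 2 (D.subgroupOf (CZ (σ ^ h)))) :
    DihFun.Cyc (D.subgroupOf (CZ (σ ^ h)))
      ⟨⟨σ, le_CZ hd hd.σ_mem⟩, Subgroup.mem_subgroupOf.2 hd.σ_mem⟩ h := by
  refine ⟨hd.two_le, ?_, ?_, ?_, hP⟩
  · rw [← Subgroup.orderOf_coe, ← Subgroup.orderOf_coe]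
    exact hd.order
  · rw [Nat.card_congr (Subgroup.subgroupOfEquivOfLe (le_CZ hd)).toEquiv, hd.card]
  · intro v hv
    have hv' : ((v : CZ (σ ^ h)) : G) ∉ Subgroup.zpowers σ := fun e =>
      hv (TICore.mem_zpowers_coe_iff.1 (TICore.mem_zpowers_coe_iff.1 e))
    exact Subtype.ext (Subtype.ext (by
      simpa using (hd.reflect _ (Subgroup.mem_subgroupOf.1 v.2) hv').2))

section Mult

variable [Fact (Nat.Prime 2)] {M : Ideal AlgInt} [M.IsMaximal] [CharP (ResField M) 2]
  {z : G} {B : Set (IrrCharacter G)} {c : Set (IrrCharacter (CZ z))}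
  {P : Subgroup (CZ z)} {e : MonoidAlgebra (ResField M) (CZ z)} {ξ₀ : IrrCharacter (CZ z)}
  (S : TICore.Setup M B z c P e ξ₀) {s : P} {hzP : TICore.zC z ∈ P}
  (hc : DihFun.Cyc P s h) (hs : s ^ h = (⟨TICore.zC z, hzP⟩ : P))

include S hc hs

omit S in
theorem supp {f : P → ℂ} (hf : ∀ g : P, s ^ h ∉ Subgroup.zpowers g → f g = 0) :
    ∀ u : P, z ∉ Subgroup.zpowers ((u : CZ z) : G) → f u = 0 := fun u hu => hf u fun hm => hu <| by
  rw [hs] at hm
  have h1 : TICore.zC z ∈ Subgroup.zpowers (u : CZ z) :=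
    TICore.mem_zpowers_coe_iff.2 hm
  exact (TICore.mem_zpowers_coe_iff (a := TICore.zC z)).2 h1

theorem exists_int (χ : IrrCharacter G) (r : ℕ) :
    ∃ n : ℤ, classInner (DihFun.fr hc r) (TICore.Phi M P e ξ₀ (χ : G → ℂ)) = n := by
  obtain ⟨a, b, ha, hb, he⟩ := TICore.isGeneralized_Phi S χ
  refine DihFun.exists_int_inner hc ⟨a, b, ha, hb, he⟩ ?_ r
  rw [he]
  intro u v
  simp [H26.isClassFunction_of_isCharacter ha u v, H26.isClassFunction_of_isCharacter hb u v]

/-- The multiplicity of a linear character of the rotations. -/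
noncomputable def mlt (χ : IrrCharacter G) (r : ℕ) : ℤ := (exists_int S hc hs χ r).choose

theorem mlt_spec (χ : IrrCharacter G) (r : ℕ) :
    classInner (DihFun.fr hc r) (TICore.Phi M P e ξ₀ (χ : G → ℂ)) = (mlt S hc hs χ r : ℂ) :=
  (exists_int S hc hs χ r).choose_spec

/-- The value at the involution. -/
noncomputable def val (χ : IrrCharacter G) : ℤ :=
  ∑ r ∈ Finset.range (2 * h), (-1) ^ r * mlt S hc hs χ r

theorem val_spec (χ : IrrCharacter G) :
    TICore.Phi M P e ξ₀ (χ : G → ℂ) ⟨TICore.zC z, hzP⟩ = (val S hc hs χ : ℂ) := by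
  obtain ⟨a, b, ha, hb, he⟩ := TICore.isGeneralized_Phi S χ
  have hF : IsClassFunction P (TICore.Phi M P e ξ₀ (χ : G → ℂ)) := by
    rw [he]
    intro u v
    simp [H26.isClassFunction_of_isCharacter ha u v, H26.isClassFunction_of_isCharacter hb u v]
  have h1 := congrArg conj (DihFun.value_z hc hF)
  rw [Complex.conj_conj, hs] at h1
  rw [h1, val]
  push_cast
  simp [mlt_spec S hc hs]

theorem gz_spec (χ : IrrCharacter G) :
    classInner (DihFun.gz hc) (TICore.Phi M P e ξ₀ (χ : G → ℂ)) = (val S hc hs χ : ℂ) := by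
  rw [DihFun.inner_gz hc, hs, val_spec S hc hs]
  simp

theorem odd_diff (χ : IrrCharacter G) :
    Odd (wdiff (fun χ => mlt S hc hs χ) 0 h χ) ↔ Odd (val S hc hs χ) := by
  set a : ℕ → ℤ := mlt S hc hs χ with hadef
  have hsymm : ∀ r ≤ 2 * h, a (2 * h - r) = a r := fun r hr => by
    have h1 := mlt_spec S hc hs χ (2 * h - r)
    rw [DihFun.fr_symm hc hr, mlt_spec S hc hs χ r] at h1
    exact_mod_cast h1.symm
  have h2 := hc.two_le
  suffices hz : ((val S hc hs χ : ℤ) : ZMod 2) = ((wdiff (fun χ => mlt S hc hs χ) 0 h χ : ℤ) : ZMod 2) by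
    rw [← ZMod.intCast_eq_one_iff_odd, ← ZMod.intCast_eq_one_iff_odd, hz]
  have h0 : ({0, h} : Finset ℕ) ⊆ Finset.range (2 * h) := by
    intro x hx
    simp only [Finset.mem_insert, Finset.mem_singleton] at hx
    rw [Finset.mem_range]
    omega
  rw [val]
  push_cast
  have hneg : (-1 : ZMod 2) = 1 := rfl
  simp only [hneg, one_pow, one_mul, ← hadef]
  rw [← Finset.sum_sdiff h0, Finset.sum_pair (by omega : 0 ≠ h),
    Finset.sum_involution (fun r _ => 2 * h - r) ?_ ?_ ?_ ?_, zero_add]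
  · simp [wdiff, sub_eq_add_neg, ZMod.neg_eq_self_mod_two, hadef]
  · intro r hr
    have := Finset.mem_range.1 (Finset.mem_sdiff.1 hr).1
    rw [hsymm r this.le]
    exact CharTwo.add_self_eq_zero _
  · intro r hr _
    simp only [Finset.mem_sdiff, Finset.mem_range, Finset.mem_insert, Finset.mem_singleton] at hr
    omega
  · intro r hr
    simp only [Finset.mem_sdiff, Finset.mem_range, Finset.mem_insert, Finset.mem_singleton] at hr ⊢
    omega
  · intro r hr
    simp only [Finset.mem_sdiff, Finset.mem_range, Finset.mem_insert, Finset.mem_singleton] at hr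
    omega

theorem isometry {f f' : P → ℂ} (hf : IsClassFunction P f) (hf' : IsClassFunction P f')
    (h1 : ∀ g : P, s ^ h ∉ Subgroup.zpowers g → f g = 0)
    (h2 : ∀ g : P, s ^ h ∉ Subgroup.zpowers g → f' g = 0) (A A' : IrrCharacter G → ℤ)
    (hA : ∀ χ : IrrCharacter G, classInner f (TICore.Phi M P e ξ₀ (χ : G → ℂ)) = (A χ : ℂ))
    (hA' : ∀ χ : IrrCharacter G, classInner f' (TICore.Phi M P e ξ₀ (χ : G → ℂ)) = (A' χ : ℂ)) :
    ((∑ χ : {χ // χ ∈ B}, A χ * A' χ : ℤ) : ℂ) = classInner f f' := by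
  rw [← TICore.sum_classInner_mul S hf hf' (supp hc hs h1) (supp hc hs h2),
    Finset.sum_subtype (p := (· ∈ B)) (H42.blockFinset B) (fun x => H42.mem_blockFinset)]
  push_cast
  refine Finset.sum_congr rfl fun χ _ => ?_
  rw [hA, hA']
  simp

theorem fr_sub_class (r u : ℕ) : IsClassFunction P (DihFun.fr hc r - DihFun.fr hc u) :=
  fun g v => by simp [DihFun.fr_class hc r g v, DihFun.fr_class hc u g v]

theorem inner_fr_range {r u : ℕ} (hr : r ≤ h) (hu : u ≤ h) :
    classInner (DihFun.fr hc r) (DihFun.fr hc u) =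
      if r = u then (if r = 0 ∨ r = h then 2 else 1) else 0 := by
  have h2 := hc.two_le
  have e1 : ((2 * h : ℕ) : ℤ) ∣ (r : ℤ) - u ↔ r = u := by
    refine ⟨fun hd => ?_, fun e => by simp [e]⟩
    have := Int.eq_zero_of_abs_lt_dvd hd (by rw [abs_lt]; push_cast; omega)
    omega
  have e2 : ((2 * h : ℕ) : ℤ) ∣ (r : ℤ) + u ↔ r + u = 0 ∨ r + u = 2 * h := by
    rw [← Nat.cast_add, Int.natCast_dvd_natCast]
    refine ⟨fun hd => ?_, ?_⟩
    · by_cases h0 : r + u = 0
      · exact Or.inl h0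
      · have := Nat.le_of_dvd (by omega) hd
        right
        omega
    · rintro (e | e) <;> rw [e] <;> simp
  rw [DihFun.inner_fr hc]
  simp only [e1, e2]
  split_ifs <;> first | (exfalso; omega) | norm_num

theorem parity (hdef : blockDefect 2 c = blockDefect 2 B) {χ ψ : IrrCharacter G} (hχ : χ ∈ B)
    (hψ : ψ ∈ B) (h0 : blockHeight 2 B (ψ : G → ℂ) = 0) :
    Odd (val S hc hs χ * val S hc hs ψ) ↔ blockHeight 2 B (χ : G → ℂ) = 0 := by
  have key := H56.Subsec.res_redCont_eq_zero_iff S.hM ⟨1, by rw [pow_one]; exact S.order⟩ S.ind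
    hdef hχ hψ
  have he : H56.Subsec.redCont 2 z c B χ ψ = ((val S hc hs χ * val S hc hs ψ : ℤ) : ℂ) := by
    rw [H56.Subsec.redCont, h0, pow_zero, div_one, TICore.cont_eq S hzP, val_spec S hc hs,
      val_spec S hc hs]
    simp
  rw [show (⟨H56.Subsec.redCont 2 z c B χ ψ, _⟩ : localRing M) =
      ((val S hc hs χ * val S hc hs ψ : ℤ) : localRing M) from Subtype.ext (by simp [he]),
    map_intCast, H41.IsPModular.intCast_eq_zero_iff S.hM] at key
  rw [← not_iff_not, Int.not_odd_iff_even, even_iff_two_dvd]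
  exact key

theorem val_ne_zero (hdef : blockDefect 2 c = blockDefect 2 B) {χ : IrrCharacter G} (hχ : χ ∈ B) :
    val S hc hs χ ≠ 0 := by
  obtain ⟨ψ, hψ, h0⟩ := H41.exists_height_zero (p := 2) (H41.IsPBlock.nonempty S.ind.2.1)
  intro hv
  refine (not_iff_not.2 (H56.Subsec.res_redCont_eq_zero_iff S.hM
    ⟨1, by rw [pow_one]; exact S.order⟩ S.ind hdef hψ hχ)).2 (not_not.2 h0) ?_
  rw [← map_zero (res M)]
  refine congrArg (res M) (Subtype.ext ?_)
  show H56.Subsec.redCont 2 z c B ψ χ = 0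
  rw [H56.Subsec.redCont, TICore.cont_eq S hzP, val_spec S hc hs χ, hv]
  simp

theorem two_pow_dvd (hdef : blockDefect 2 c = blockDefect 2 B) {χ ψ : IrrCharacter G}
    (hψ : ψ ∈ B) :
    (2 : ℤ) ^ blockHeight 2 B (ψ : G → ℂ) ∣ val S hc hs χ * val S hc hs ψ := by
  have hi := H56.Subsec.isIntegral_redCont S.hM ⟨1, by rw [pow_one]; exact S.order⟩ S.ind hdef
    χ hψ
  set k := blockHeight 2 B (ψ : G → ℂ) with hk
  have he : H56.Subsec.redCont 2 z c B χ ψ =
      ((((val S hc hs χ * val S hc hs ψ : ℤ) : ℚ) / ((2 : ℤ) ^ k : ℤ) : ℚ) : ℂ) := by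
    rw [H56.Subsec.redCont, TICore.cont_eq S hzP, val_spec S hc hs, val_spec S hc hs]
    push_cast
    simp [← hk]
  rw [he] at hi
  obtain ⟨n, hn⟩ := H43.exists_int_of_isIntegral hi
  refine ⟨n, ?_⟩
  rw [eq_div_iff (by positivity)] at hn
  have : n * 2 ^ k = val S hc hs χ * val S hc hs ψ := by exact_mod_cast hn
  rw [← this]
  ring

theorem rank_add_le : blockRank 2 B + h ≤ Nat.card B := by
  let L : ({χ // χ ∈ B} → ℂ) →ₗ[ℂ] (G → ℂ) :=
    Fintype.linearCombination ℂ fun χ : {χ // χ ∈ B} => pRegularPart 2 ((χ : IrrCharacter G) : G → ℂ)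
  have hrange : LinearMap.range L =
      Submodule.span ℂ ((fun χ : IrrCharacter G => pRegularPart 2 (χ : G → ℂ)) '' B) := by
    rw [Fintype.range_linearCombination]
    congr 1
    ext f
    simp
  let v : Fin h → ({χ // χ ∈ B} → ℂ) := fun i χ =>
    classInner (DihFun.dl hc (i + 1)) (TICore.Phi M P e ξ₀ ((χ : IrrCharacter G) : G → ℂ))
  have hsupp : ∀ i : Fin h, ∀ g : P, s ^ h ∉ Subgroup.zpowers g →
      DihFun.dl hc (i + 1) g = 0 := fun i g hg =>
    DihFun.dl_eq_zero hc (Nat.succ_pos _) (Nat.succ_le_of_lt i.2) g hg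
  have hker : ∀ i, v i ∈ LinearMap.ker L := by
    intro i
    rw [LinearMap.mem_ker, Fintype.linearCombination_apply]
    funext g
    rw [Finset.sum_apply]
    by_cases hg : IsPRegular 2 g
    · have := TICore.sum_classInner_smul S (DihFun.dl_class hc (i + 1)) (supp hc hs (hsupp i)) g
      rw [TICore.indFun_eq_zero_regular S (supp hc hs (hsupp i)) hg,
        Finset.sum_subtype (p := (· ∈ B)) (H42.blockFinset B) (fun x => H42.mem_blockFinset)] at this
      rw [Pi.zero_apply, ← this]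
      exact Finset.sum_congr rfl fun χ _ => by simp [v, pRegularPart, hg]
    · exact Finset.sum_eq_zero fun χ _ => by simp [pRegularPart, hg]
  have hli : LinearIndependent ℂ v := by
    rw [Fintype.linearIndependent_iff]
    intro g hg k
    have h1 : ∑ i, g i * ∑ χ, v i χ * conj (v k χ) = 0 := by
      simp only [Finset.mul_sum]
      rw [Finset.sum_comm]
      refine Finset.sum_eq_zero fun χ _ => ?_
      have hχ : ∑ i, g i * v i χ = 0 := by simpa [Finset.sum_apply] using congrFun hg χ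
      rw [Finset.sum_congr rfl fun i _ => (mul_assoc (g i) (v i χ) (conj (v k χ))).symm,
        ← Finset.sum_mul, hχ, zero_mul]
    have hin : ∀ i, ∑ χ, v i χ * conj (v k χ) =
        classInner (DihFun.dl hc (i + 1)) (DihFun.dl hc (k + 1)) := fun i => by
      rw [← TICore.sum_classInner_mul S (DihFun.dl_class hc _) (DihFun.dl_class hc _)
        (supp hc hs (hsupp i)) (supp hc hs (hsupp k)),
        Finset.sum_subtype (p := (· ∈ B)) (H42.blockFinset B) (fun x => H42.mem_blockFinset)]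
    simp only [hin] at h1
    rw [Finset.sum_eq_single k (fun i _ hne => by
      rw [(DihFun.inner_dl hc (Nat.succ_pos _) (Nat.succ_le_of_lt i.2) (Nat.succ_pos _)
        (Nat.succ_le_of_lt k.2)).2 (by simpa using Fin.val_ne_of_ne hne), mul_zero])
      (fun e => absurd (Finset.mem_univ _) e)] at h1
    refine (mul_eq_zero.1 h1).resolve_right fun h0 => ?_
    exact (DihFun.inner_dl hc (Nat.succ_pos _) (Nat.succ_le_of_lt k.2) (Nat.succ_pos _)
      (Nat.succ_le_of_lt k.2)).1 h0 rfl
  have hk : h ≤ Module.finrank ℂ (LinearMap.ker L) := by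
    have := Submodule.finrank_mono (show Submodule.span ℂ (Set.range v) ≤ LinearMap.ker L from
      Submodule.span_le.2 (Set.range_subset_iff.2 hker))
    rwa [finrank_span_eq_card hli, Fintype.card_fin] at this
  have hsum := LinearMap.finrank_range_add_finrank_ker L
  rw [Module.finrank_fintype_fun_eq_card, hrange, ← blockRank, ← Nat.card_eq_fintype_card] at hsum
  rw [← hsum]
  omega

/-- The numerical data of the block. -/
theorem data (hdef : blockDefect 2 c = blockDefect 2 B) :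
    Data h (fun (χ : {χ // χ ∈ B}) r => mlt S hc hs χ r) (fun χ => val S hc hs χ)
      (Finset.univ.filter fun χ : {χ // χ ∈ B} =>
        blockHeight 2 B ((χ : IrrCharacter G) : G → ℂ) = 0) := by
  have hw : ∀ r u, ∀ χ : IrrCharacter G,
      classInner (DihFun.fr hc r - DihFun.fr hc u) (TICore.Phi M P e ξ₀ (χ : G → ℂ)) =
        (wdiff (fun χ => mlt S hc hs χ) r u χ : ℂ) := fun r u χ => by
    rw [H26.classInner_sub_left, mlt_spec S hc hs, mlt_spec S hc hs, wdiff]
    simp
  have hsz := DihFun.fr_sub_eq_zero hc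
  obtain ⟨ψ, hψ, h0⟩ := H41.exists_height_zero (p := 2) (H41.IsPBlock.nonempty S.ind.2.1)
  have hψodd : Odd (val S hc hs ψ) :=
    (Int.odd_mul.1 ((parity S hc hs hdef hψ hψ h0).2 h0)).1
  have hoddD : ∀ χ : {χ // χ ∈ B}, Odd (val S hc hs χ) ↔
      blockHeight 2 B ((χ : IrrCharacter G) : G → ℂ) = 0 := fun χ => by
    rw [← parity S hc hs hdef χ.2 hψ h0, Int.odd_mul]
    simp [hψodd]
  refine ⟨?_, ?_, ?_, fun χ => val_ne_zero S hc hs hdef χ.2, fun χ => ?_, ?_, fun χ => ?_, ?_, ?_⟩
  · intro r u r' u' _ hr _ hu _ hr' _ hu'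
    have := isometry S hc hs (fr_sub_class S hc hs r u) (fr_sub_class S hc hs r' u') (hsz r u)
      (hsz r' u') _ _ (hw r u) (hw r' u')
    rw [H26.classInner_sub_left, H26.classInner_sub_right, H26.classInner_sub_right,
      inner_fr_range S hc hs hr.le hr'.le, inner_fr_range S hc hs hr.le hu'.le,
      inner_fr_range S hc hs hu.le hr'.le, inner_fr_range S hc hs hu.le hu'.le,
      if_neg (show ¬ (r = 0 ∨ r = h) by omega), if_neg (show ¬ (u = 0 ∨ u = h) by omega)] at this
    apply Int.cast_injective (α := ℂ)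
    refine this.trans ?_
    push_cast
    ring
  · intro r u _ hr _ hu
    have := isometry S hc hs (fr_sub_class S hc hs r u) (DihFun.gz_class hc) (hsz r u)
      (DihFun.gz_eq_zero hc) _ _ (hw r u) (gz_spec S hc hs)
    rw [H26.classInner_sub_left, DihFun.inner_fr_gz hc, DihFun.inner_fr_gz hc] at this
    apply Int.cast_injective (α := ℂ)
    refine this.trans ?_
    push_cast
    ring
  · have := isometry S hc hs (DihFun.gz_class hc) (DihFun.gz_class hc) (DihFun.gz_eq_zero hc)
      (DihFun.gz_eq_zero hc) _ _ (gz_spec S hc hs) (gz_spec S hc hs)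
    rw [DihFun.inner_gz hc, DihFun.gz, if_pos rfl] at this
    apply Int.cast_injective (α := ℂ)
    simp only [sq]
    refine this.trans ?_
    rw [map_natCast]
    push_cast
    rfl
  · simpa using hoddD χ
  · have := isometry S hc hs (fr_sub_class S hc hs 0 h) (fr_sub_class S hc hs 0 h) (hsz 0 h)
      (hsz 0 h) _ _ (hw 0 h) (hw 0 h)
    rw [H26.classInner_sub_left, H26.classInner_sub_right, H26.classInner_sub_right,
      inner_fr_range S hc hs (Nat.zero_le _) (Nat.zero_le _), inner_fr_range S hc hs (Nat.zero_le _) le_rfl,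
      inner_fr_range S hc hs le_rfl (Nat.zero_le _), inner_fr_range S hc hs le_rfl le_rfl] at this
    have h2 := hc.two_le
    simp only [if_pos, true_or, or_true, if_neg (show ¬ 0 = h by omega),
      if_neg (show ¬ h = 0 by omega)] at this
    apply Int.cast_injective (α := ℂ)
    simp only [sq]
    refine this.trans ?_
    norm_num
  · exact odd_diff S hc hs χ
  · exact ⟨⟨ψ, hψ⟩, by simp [h0]⟩
  · have h1 := rank_add_le S hc hs
    have h2 := H23.OneSubsection.blockRank_pos (p := 2) S.ind.2.1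
    have hcardB : Nat.card B = Fintype.card {χ // χ ∈ B} := Nat.card_eq_fintype_card
    omega

theorem invariants (hdef : blockDefect 2 c = blockDefect 2 B) (hev : Even h) (h6 : h ≠ 6)
    (hsmall : h = 4 → Nat.card B = 5 → blockRank 2 B = 1 → False) :
    Nat.card B = h + 3 ∧ 1 ≤ blockRank 2 B ∧ blockRank 2 B ≤ 3 ∧
      Nat.card {χ : IrrCharacter G // χ ∈ B ∧ blockHeight 2 B (χ : G → ℂ) = 0} = 4 ∧
      ∀ χ ∈ B, blockHeight 2 B (χ : G → ℂ) ≤ 1 := by
  have hr := rank_add_le S hc hs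
  have hpos := H23.OneSubsection.blockRank_pos (p := 2) S.ind.2.1
  have hD := data S hc hs hdef
  have hcardB : Nat.card B = Fintype.card {χ // χ ∈ B} := Nat.card_eq_fintype_card
  obtain ⟨h4, hk, hout⟩ := main hD hev h6 fun he h5 => hsmall he
    (hcardB.trans h5) (by omega)
  have hk' : Nat.card B = h + 3 := hcardB.trans hk
  refine ⟨hk', hpos, by omega, ?_, fun χ hχ => ?_⟩
  · rw [← h4, Nat.card_congr (Equiv.subtypeSubtypeEquivSubtypeInter (fun χ : IrrCharacter G => χ ∈ B)
      fun χ : IrrCharacter G => blockHeight 2 B (χ : G → ℂ) = 0).symm, Nat.card_eq_fintype_card,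
      Fintype.card_subtype]
  · by_cases h0 : blockHeight 2 B (χ : G → ℂ) = 0
    · omega
    obtain ⟨ψ, hψ, hψ0⟩ := H41.exists_height_zero (p := 2) (H41.IsPBlock.nonempty S.ind.2.1)
    have hodd : Odd (val S hc hs ψ) := (Int.odd_mul.1 ((parity S hc hs hdef hψ hψ hψ0).2 hψ0)).1
    have hsq := hout ⟨χ, hχ⟩ (by simp [h0])
    have hd2 := two_pow_dvd S hc hs hdef (χ := ψ) hχ
    have hco : IsCoprime ((2 : ℤ) ^ blockHeight 2 B (χ : G → ℂ)) (val S hc hs ψ) :=
      IsCoprime.pow_left (Int.isCoprime_iff_nat_coprime.2 (by simpa using hodd.natAbs.coprime_two_left))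
    have hd3 := Int.natAbs_dvd_natAbs.2 (hco.dvd_of_dvd_mul_left hd2)
    have habs : (val S hc hs χ).natAbs = 2 := by
      have h22 : (val S hc hs χ) ^ 2 = (2 : ℤ) ^ 2 := by
        rw [hsq]; norm_num
      exact Int.natAbs_eq_iff_sq_eq.2 h22
    rw [habs, Int.natAbs_pow] at hd3
    exact (Nat.pow_le_pow_iff_right (by norm_num : 1 < 2)).1
      ((Nat.le_of_dvd two_pos hd3).trans_eq (pow_one 2).symm)

end Mult

end Cfsg.Agent.H22.Dihedral
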