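import Cfsg.Agent.H22.DihedralMain
import Cfsg.Agent.H22.DihedralPattern
import Cfsg.Agent.H22.CarriedDefect
import Cfsg.Agent.H22.ClassPairs
import Mathlib.GroupTheory.Index

/-!
# The exceptional case with five members

The degrees are determined, the values at the involution are the ones in the block of its
centraliser, and the number of pairs of involutions with a product in the section of the rotation
of order eight is divisible by four.
-/

set_option autoImplicit false
set_option linter.unusedSectionVars false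
set_option maxHeartbeats 1000000

open scoped ComplexConjugate Classical

namespace Cfsg.Agent.H22.Dihedral

open Cfsg
open Cfsg.Agent.H41 (ResField localRing res)

variable {G : Type*} [Group G] [Fintype G]

section Mult

variable [Fact (Nat.Prime 2)] {M : Ideal AlgInt} [M.IsMaximal] [CharP (ResField M) 2]
  {z : G} {B : Set (IrrCharacter G)} {c : Set (IrrCharacter (CZ z))}
  {P : Subgroup (CZ z)} {e : MonoidAlgebra (ResField M) (CZ z)} {ξ₀ : IrrCharacter (CZ z)}
  (S : TICore.Setup M B z c P e ξ₀) {s : P} {hzP : TICore.zC z ∈ P}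
  (hc : DihFun.Cyc P s 4) (hs : s ^ 4 = (⟨TICore.zC z, hzP⟩ : P))

include S hc hs

theorem sum_block_one (f : P → ℂ) (hf : IsClassFunction P f)
    (h1 : ∀ g : P, s ^ 4 ∉ Subgroup.zpowers g → f g = 0) (A : IrrCharacter G → ℂ)
    (hA : ∀ χ : IrrCharacter G, classInner f (TICore.Phi M P e ξ₀ (χ : G → ℂ)) = A χ) :
    ∑ χ : {χ // χ ∈ B}, A χ * ((χ : IrrCharacter G) : G → ℂ) 1 = 0 := by
  have h := TICore.sum_classInner_smul S hf (supp hc hs h1) (1 : G)
  rw [TICore.indFun_eq_zero_regular S (supp hc hs h1) (by simp),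
    Finset.sum_subtype (p := (· ∈ B)) (H42.blockFinset B) (fun x => H42.mem_blockFinset)] at h
  simpa only [hA] using h

theorem sum_block_z (f : P → ℂ) (hf : IsClassFunction P f)
    (h1 : ∀ g : P, s ^ 4 ∉ Subgroup.zpowers g → f g = 0) (A : IrrCharacter G → ℂ)
    (hA : ∀ χ : IrrCharacter G, classInner f (TICore.Phi M P e ξ₀ (χ : G → ℂ)) = A χ) :
    ∑ χ : {χ // χ ∈ B}, A χ * (((χ : IrrCharacter G) : G → ℂ) z -
      (ξ₀ : CZ z → ℂ) (TICore.zC z) * (val S hc hs χ : ℂ)) = 0 := by
  have h := TICore.sum_classInner_smul S hf (supp hc hs h1) z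
  have hz : indFun (CZ z) (TICore.gfun M P e ξ₀ f) z = f (s ^ 4) * (ξ₀ : CZ z → ℂ) (TICore.zC z) := by
    show indFun (CZ z) (TICore.gfun M P e ξ₀ f) ((TICore.zC z : CZ z) : G) = _
    rw [TICore.indFun_on_set S hf (supp hc hs h1) (k := TICore.zC z) (Subgroup.mem_zpowers z), hs]
    refine TICore.gfun_at_z S hzP ?_
    have := TICore.pp_zC_mul S (x := 1) (by simp)
    rwa [mul_one] at this
  rw [hz, Finset.sum_subtype (p := (· ∈ B)) (H42.blockFinset B) (fun x => H42.mem_blockFinset)] at h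
  have h' := TICore.sum_classInner_mul S hf (DihFun.gz_class hc) (supp hc hs h1)
    (supp hc hs (DihFun.gz_eq_zero hc))
  rw [H26.classInner_comm (DihFun.gz hc) f, DihFun.inner_gz hc, Complex.conj_conj,
    Finset.sum_subtype (p := (· ∈ B)) (H42.blockFinset B) (fun x => H42.mem_blockFinset)] at h'
  simp only [hA, gz_spec S hc hs, map_intCast] at h h'
  simp only [mul_sub, Finset.sum_sub_distrib, h]
  have e : ∀ χ : {χ // χ ∈ B}, A χ * ((ξ₀ : CZ z → ℂ) (TICore.zC z) * (val S hc hs χ : ℂ)) =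
      (ξ₀ : CZ z → ℂ) (TICore.zC z) * (A χ * (val S hc hs χ : ℂ)) := fun χ => by ring
  rw [Finset.sum_congr rfl fun χ _ => e χ, ← Finset.mul_sum, h']
  · ring
  all_goals infer_instance

theorem inner_wdiff (r u : ℕ) (χ : IrrCharacter G) :
    classInner (DihFun.fr hc r - DihFun.fr hc u) (TICore.Phi M P e ξ₀ (χ : G → ℂ)) =
      (wdiff (fun χ => mlt S hc hs χ) r u χ : ℂ) := by
  rw [H26.classInner_sub_left, mlt_spec S hc hs, mlt_spec S hc hs, wdiff]
  simp

omit S in
theorem dl_one_eq (F : P → ℂ) (hF : IsClassFunction P F) :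
    classInner (DihFun.dl hc 1) F = (1 / 8 : ℂ) *
      (classInner (DihFun.fr hc 0) F - classInner (DihFun.fr hc 4) F +
        (DihFun.root 4 ^ (-1 : ℤ) - (DihFun.root 4 ^ (-1 : ℤ)) ^ 3) *
          (classInner (DihFun.fr hc 1) F - classInner (DihFun.fr hc 3) F)) := by
  have hN : (1 : ℕ) < 2 * 4 := by norm_num
  have h1 : classInner (DihFun.dl hc 1) F = ((2 * 4 : ℕ) : ℂ)⁻¹ * conj (F (s ^ 1)) := by
    rw [DihFun.dl, DihFun.classInner_ind hc _ hF, Finset.sum_eq_single 1 (fun j hj hne => by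
      rw [if_neg fun e => hne (DihFun.pow_inj hc (Finset.mem_range.1 hj) hN e), zero_mul])
      (fun e => absurd (Finset.mem_range.2 hN) e), if_pos rfl, one_mul]
  have h0 : DihFun.root 4 ≠ 0 := (DihFun.root_prim hc).ne_zero (by norm_num)
  set u : ℂ := DihFun.root 4 ^ (-1 : ℤ) with hu
  have hu4 : u ^ 4 = -1 := by
    rw [hu, ← zpow_natCast, ← zpow_mul, show (-1 : ℤ) * ((4 : ℕ) : ℤ) = -((4 : ℕ) : ℤ) by ring,
      zpow_neg, DihFun.root_h hc]
    norm_num
  have hexp : conj (F (s ^ 1)) = ∑ r ∈ Finset.range (2 * 4), u ^ r * classInner (DihFun.fr hc r) F := by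
    simp only [DihFun.fr, DihFun.classInner_ind hc _ hF, Finset.mul_sum]
    rw [Finset.sum_comm]
    have : ∀ j ∈ Finset.range (2 * 4), ∀ r ∈ Finset.range (2 * 4),
        u ^ r * (((2 * 4 : ℕ) : ℂ)⁻¹ * (DihFun.lam hc r
          ⟨s ^ j, Subgroup.pow_mem _ (Subgroup.mem_zpowers s) j⟩ * conj (F (s ^ j)))) =
        ((2 * 4 : ℕ) : ℂ)⁻¹ * conj (F (s ^ j)) * DihFun.root 4 ^ (((j : ℤ) - 1) * r) := by
      intro j _ r _
      rw [DihFun.lam_pow hc, hu, ← zpow_natCast, ← zpow_mul,
        show ((j : ℤ) - 1) * r = -1 * (r : ℤ) + (r : ℤ) * j by ring, zpow_add₀ h0]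
      ring
    rw [Finset.sum_congr rfl fun j hj => Finset.sum_congr rfl (this j hj)]
    simp only [← Finset.mul_sum, DihFun.geo (DihFun.N_pos hc) (DihFun.root_prim hc)]
    rw [Finset.sum_eq_single 1 (fun j hj hne => ?_) (fun e => absurd (Finset.mem_range.2 hN) e)]
    · norm_num
      ring
    · rw [if_neg, mul_zero]
      intro hd
      have hj' := Finset.mem_range.1 hj
      omega
  have e5 : DihFun.fr hc 5 = DihFun.fr hc 3 := DihFun.fr_symm hc (r := 3) (by norm_num)
  have e6 : DihFun.fr hc 6 = DihFun.fr hc 2 := DihFun.fr_symm hc (r := 2) (by norm_num)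
  have e7 : DihFun.fr hc 7 = DihFun.fr hc 1 := DihFun.fr_symm hc (r := 1) (by norm_num)
  rw [h1, hexp]
  norm_num [Finset.sum_range_succ, e5, e6, e7]
  linear_combination (classInner (DihFun.fr hc 4) F + u * classInner (DihFun.fr hc 3) F +
    u ^ 2 * classInner (DihFun.fr hc 2) F + u ^ 3 * classInner (DihFun.fr hc 1) F) * hu4

/-- The sum over the trivial intersection set against the pair counts. -/
theorem exists_sum_eq :
    ∃ a : ℕ, ∃ I : ℂ, IsIntegral ℤ I ∧
      (Nat.card (CZ ((s : CZ z)))).factorization 2 = a + 3 ∧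
      ∑ k : CZ z, (pairCount z (k : G) : ℂ) * TICore.gfun M P e ξ₀ (DihFun.dl hc 1) k =
        ((CZ (s : CZ z)).index : ℂ) * (4 * 2 ^ a * I) := by
  set x : CZ z := (s : CZ z) with hx
  have hx8 : orderOf x = 2 ^ 3 := by rw [hx, Subgroup.orderOf_coe, hc.order]; norm_num
  have hx3 : 3 ≤ (Nat.card (CZ x)).factorization 2 := by
    have hmem : x ∈ CZ x := H32.mem_centralizer_zpowers_iff.2 (Commute.refl x)
    have := orderOf_dvd_natCard (⟨x, hmem⟩ : CZ x)
    rw [Subgroup.orderOf_mk, hx8] at this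
    exact (Nat.prime_two.pow_dvd_iff_le_factorization Nat.card_pos.ne').1 this
  obtain ⟨a, ha⟩ : ∃ a, (Nat.card (CZ x)).factorization 2 = a + 3 := ⟨_, (Nat.sub_add_cancel hx3).symm⟩
  have hNclass : ∀ g h : CZ z, pairCount z ((h * g * h⁻¹ : CZ z) : G) = pairCount z (g : G) :=
    fun g h => by push_cast; exact pairCount_conj z _ _
  have hη : ∀ g, IsIntegral ℤ (H40.NilpotentBlocks.ext0 (DihFun.dl hc 1) g) := by
    intro g
    unfold H40.NilpotentBlocks.ext0
    split_ifs with hg
    · by_cases hA : (⟨g, hg⟩ : P) ∈ Subgroup.zpowers s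
      · obtain ⟨j, -, hj⟩ := DihFun.exists_pow hc hA
        rw [hj, DihFun.dl_pow hc]
        refine IsIntegral.add ?_ ?_ <;> split_ifs <;> first | exact isIntegral_one | exact isIntegral_zero
      · rw [DihFun.dl, DihFun.ind_of_notMem hc _ hA]
        exact isIntegral_zero
    · exact isIntegral_zero
  have hbound : ∀ v ∈ P, orderOf v = orderOf x →
      Nat.card (P ⊓ Subgroup.centralizer ({v} : Set (CZ z)) : Subgroup (CZ z)) ≤ 2 ^ 3 := by
    intro v hv hov
    have hvA : (⟨v, hv⟩ : P) ∈ Subgroup.zpowers s := by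
      by_contra hout
      have hidx : (Subgroup.zpowers s).index = 2 := by
        have := (Subgroup.zpowers s).card_mul_index
        rw [DihFun.card_A hc, hc.card] at this
        omega
      have hsq : (⟨v, hv⟩ : P) * ⟨v, hv⟩ ∈ Subgroup.zpowers s :=
        Subgroup.mul_self_mem_of_index_two hidx _
      have h1 := DihFun.conj_pow_eq hc hout hsq
      have h2 : ((⟨v, hv⟩ : P)) ^ 4 = 1 := by
        rw [mul_assoc, mul_assoc, mul_inv_cancel, mul_one, eq_inv_iff_mul_eq_one] at h1
        rw [← h1, pow_succ, pow_succ, pow_succ, pow_one]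
        group
      have h3 := orderOf_dvd_of_pow_eq_one h2
      rw [← Subgroup.orderOf_coe, hov, hx8] at h3
      have := Nat.le_of_dvd (by norm_num) h3
      omega
    have hle : P ⊓ Subgroup.centralizer ({v} : Set (CZ z)) ≤
        (Subgroup.zpowers s).map P.subtype := by
      rintro w ⟨hw, hwv⟩
      by_contra hout
      have hout' : (⟨w, hw⟩ : P) ∉ Subgroup.zpowers s := fun e => hout ⟨_, e, rfl⟩
      have h1 := congrArg Subtype.val (DihFun.conj_pow_eq hc hout' hvA)
      replace hwv : w * v = v * w := Subgroup.mem_centralizer_singleton_iff.1 hwv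
      push_cast at h1
      rw [hwv, mul_inv_cancel_right, eq_inv_iff_mul_eq_one, ← pow_two] at h1
      have h3 := orderOf_dvd_of_pow_eq_one h1
      rw [hov, hx8] at h3
      have := Nat.le_of_dvd (by norm_num) h3
      omega
    refine (Subgroup.card_le_of_le hle).trans ?_
    rw [Subgroup.card_map_of_injective P.subtype_injective, DihFun.card_A hc]
    norm_num
  obtain ⟨I, hI, hT⟩ := isIntegral_sum_fiber_star (P := P) (e := e) S.hM hη ξ₀
    (n := fun k : CZ z => pairCount z (k : G)) hNclass (x := x) hx8 4 3 a ha.ge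
    (fun g hg => by
      refine four_dvd_pairCount (u := (x : G)) (by rw [← pow_two, ← S.order, pow_orderOf_eq_one]) ?_
        (by rw [Subgroup.orderOf_coe, hx8]; norm_num)
      rw [TICore.mem_zpowers_coe_iff, ← hg, pp]
      exact Subgroup.pow_mem _ (Subgroup.mem_zpowers g) _)
    (fun b hb hcar => blockDefect_carried_le S.hM S.ind.1 S.max hb hcar hbound)
  refine ⟨a, I, hI, ha, ?_⟩
  set F : CZ z → ℂ := fun k => (pairCount z (k : G) : ℂ) * TICore.gfun M P e ξ₀ (DihFun.dl hc 1) k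
    with hF
  have hdl1 : ∀ u : P, DihFun.dl hc 1 u ≠ 0 → IsConj x (u : CZ z) := by
    intro u hu
    by_cases hA : u ∈ Subgroup.zpowers s
    · obtain ⟨j, hj, rfl⟩ := DihFun.exists_pow hc hA
      rw [DihFun.dl_pow hc] at hu
      by_cases e1 : s ^ j = s ^ 1
      · rw [e1, pow_one]
      · by_cases e2 : (s ^ j)⁻¹ = s ^ 1
        · obtain ⟨v, hv⟩ : ∃ v : P, v ∉ Subgroup.zpowers s := by
            by_contra hall
            push Not at hall
            have := congrArg (fun L : Subgroup P => Nat.card L) ((Subgroup.eq_top_iff' _).2 hall)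
            simp only [Subgroup.card_top, DihFun.card_A hc, hc.card] at this
            omega
          have h3 : s ^ j = v * s * v⁻¹ := by
            rw [hc.refl v hv, eq_inv_iff_mul_eq_one, ← inv_eq_iff_mul_eq_one, e2, pow_one]
          exact isConj_iff.2 ⟨(v : CZ z), by rw [hx, h3]; push_cast; rfl⟩
        · rw [if_neg e1, if_neg e2, add_zero] at hu
          exact absurd rfl hu
    · exact absurd (DihFun.ind_of_notMem hc _ hA) hu
  have hzero : ∀ k : CZ z, ¬ IsConj x (pp 2 k) → F k = 0 := fun k hk => by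
    refine mul_eq_zero_of_right _ (TICore.gfun_eq_zero fun u y hy => ?_)
    by_contra hu
    exact hk ((hdl1 u hu).trans (hy ▸ (isConj_iff.2 ⟨y, rfl⟩ : IsConj (pp 2 k) _).symm))
  rw [show ∑ k, F k = ∑ x : CZ z, ∑ k ∈ Finset.univ.filter (fun k : CZ z => pp 2 k = x), F k from
    (Finset.sum_fiberwise _ _ _).symm, ← Finset.sum_filter_add_sum_filter_not Finset.univ
    (fun u : CZ z => IsConj x u), Finset.sum_eq_zero (s := Finset.univ.filter fun u => ¬ IsConj x u)
    (fun u hu => Finset.sum_eq_zero fun k hk => hzero k (by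
      rw [(Finset.mem_filter.1 hk).2]; exact (Finset.mem_filter.1 hu).2)), add_zero]
  have hFclass : ∀ k h : CZ z, F (h * k * h⁻¹) = F k := fun k h => by
    simp only [F, hNclass, TICore.isClassFunction_gfun S (DihFun.dl_class hc 1) k h]
  have hfib : ∀ u ∈ Finset.univ.filter (fun u : CZ z => IsConj x u),
      ∑ k ∈ Finset.univ.filter (fun k : CZ z => pp 2 k = u), F k = (4 : ℂ) * 2 ^ a * I := by
    intro u hu
    obtain ⟨h, rfl⟩ := isConj_iff.1 (Finset.mem_filter.1 hu).2
    refine Eq.trans ?_ (Eq.trans hT (by norm_num))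
    symm
    refine Finset.sum_nbij' (fun k => h * k * h⁻¹) (fun k => h⁻¹ * k * h) ?_ ?_ ?_ ?_ ?_
    · intro k hk
      simp only [Finset.mem_filter, Finset.mem_univ, true_and] at hk ⊢
      rw [pp_conj, hk]
    · intro k hk
      simp only [Finset.mem_filter, Finset.mem_univ, true_and] at hk ⊢
      have := pp_conj 2 h⁻¹ k
      rw [inv_inv, hk] at this
      rw [this]
      group
    · intro k _; simp [mul_assoc]
    · intro k _; simp [mul_assoc]
    · intro k _
      exact (hFclass k h).symm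
  rw [Finset.sum_congr rfl hfib, Finset.sum_const, nsmul_eq_mul,
    show (CZ x).index = (Subgroup.centralizer ({x} : Set (CZ z))).index by rw [← centralizer_zpowers_eq],
    H25.index_centralizer_eq_card_class x, Nat.card_eq_fintype_card, Fintype.card_subtype]

/-- A block with five members and these defect groups does not exist. -/
theorem false_of_five (hdef : blockDefect 2 c = blockDefect 2 B) (hk : Nat.card B = 5)
    (hd4 : blockDefect 2 B = 4) : False := by
  have hD := data S hc hs hdef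
  have hk' : Fintype.card {χ // χ ∈ B} = 5 := by rw [← Nat.card_eq_fintype_card]; exact hk
  have hcl := fr_sub_class S hc hs
  have hsz := DihFun.fr_sub_eq_zero hc
  have hcross : ∀ r u, r ≤ 4 → u ≤ 4 →
      ((∑ χ : {χ // χ ∈ B}, wdiff (fun (χ : {χ // χ ∈ B}) r => mlt S hc hs χ r) 0 4 χ *
        wdiff (fun (χ : {χ // χ ∈ B}) r => mlt S hc hs χ r) r u χ : ℤ) : ℂ) =
      classInner (DihFun.fr hc 0 - DihFun.fr hc 4) (DihFun.fr hc r - DihFun.fr hc u) :=
    fun r u _ _ => isometry S hc hs (hcl 0 4) (hcl r u) (hsz 0 4) (hsz r u) _ _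
      (inner_wdiff S hc hs 0 4) (inner_wdiff S hc hs r u)
  set deg : {χ // χ ∈ B} → ℂ := fun χ => ((χ : IrrCharacter G) : G → ℂ) 1 with hdeg
  set U : {χ // χ ∈ B} → ℂ := fun χ => ((χ : IrrCharacter G) : G → ℂ) z -
      (ξ₀ : CZ z → ℂ) (TICore.zC z) * (val S hc hs χ : ℂ) with hU
  obtain ⟨p, hpZ, hsp, hvan, hX⟩ := five_pattern hD hk'
    (Int.cast_injective (α := ℂ) (by
      rw [hcross 1 2 (by norm_num) (by norm_num), H26.classInner_sub_left,
        H26.classInner_sub_right, H26.classInner_sub_right]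
      simp [inner_fr_range S hc hs]))
    (Int.cast_injective (α := ℂ) (by
      rw [hcross 3 2 (by norm_num) (by norm_num), H26.classInner_sub_left,
        H26.classInner_sub_right, H26.classInner_sub_right]
      simp [inner_fr_range S hc hs]))
    (Int.cast_injective (α := ℂ) (by
      refine (isometry S hc hs (hcl 0 4) (DihFun.gz_class hc) (hsz 0 4) (DihFun.gz_eq_zero hc) _ _
        (inner_wdiff S hc hs 0 4) (gz_spec S hc hs)).trans ?_
      rw [H26.classInner_sub_left, DihFun.inner_fr_gz hc, DihFun.inner_fr_gz hc]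
      norm_num))
    (W := deg)
    ⟨sum_block_one S hc hs _ (hcl 0 4) (hsz 0 4) _ (inner_wdiff S hc hs 0 4),
      sum_block_one S hc hs _ (hcl 1 2) (hsz 1 2) _ (inner_wdiff S hc hs 1 2),
      sum_block_one S hc hs _ (hcl 3 2) (hsz 3 2) _ (inner_wdiff S hc hs 3 2),
      sum_block_one S hc hs _ (DihFun.gz_class hc) (DihFun.gz_eq_zero hc) _ (gz_spec S hc hs)⟩
    (fun χ => H26.irr_one_ne_zero _)
  have hsum0 : ∑ χ, deg χ * U χ = 0 := by
    have h1 := H40.sum_block_mul_conj_eq_zero S.hM S.ind.2.1 (x := (1 : G)) (y := z) (p := 2)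
      (by simp) (by rw [S.order])
    rw [Finset.sum_subtype (p := (· ∈ B)) (Finset.univ.filter (· ∈ B)) (fun x => by simp)] at h1
    have h2 : ∑ χ : {χ // χ ∈ B}, deg χ * ((χ : IrrCharacter G) : G → ℂ) z = 0 := by
      refine (Finset.sum_congr rfl fun χ _ => ?_).trans h1
      congr 1
      rw [← H26.irr_inv, inv_eq_of_mul_eq_one_right (show z * z = 1 by
        rw [← pow_two, ← S.order, pow_orderOf_eq_one])]
    have h3 := sum_block_one S hc hs _ (DihFun.gz_class hc) (DihFun.gz_eq_zero hc) _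
      (gz_spec S hc hs)
    simp only [U, mul_sub, Finset.sum_sub_distrib, h2, zero_sub, neg_eq_zero]
    have e : ∀ χ : {χ // χ ∈ B}, deg χ * ((ξ₀ : CZ z → ℂ) (TICore.zC z) * (val S hc hs χ : ℂ)) =
        (ξ₀ : CZ z → ℂ) (TICore.zC z) *
          ((val S hc hs χ : ℂ) * ((χ : IrrCharacter G) : G → ℂ) 1) := fun χ => by
      rw [hdeg]; ring
    rw [Finset.sum_congr rfl fun χ _ => e χ, ← Finset.mul_sum, h3, mul_zero]
  have hU0 := hvan U
    ⟨sum_block_z S hc hs _ (hcl 0 4) (hsz 0 4) _ (inner_wdiff S hc hs 0 4),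
      sum_block_z S hc hs _ (hcl 1 2) (hsz 1 2) _ (inner_wdiff S hc hs 1 2),
      sum_block_z S hc hs _ (hcl 3 2) (hsz 3 2) _ (inner_wdiff S hc hs 3 2),
      sum_block_z S hc hs _ (DihFun.gz_class hc) (DihFun.gz_eq_zero hc) _ (gz_spec S hc hs)⟩ hsum0
  obtain ⟨a, I, hI, ha, hL⟩ := exists_sum_eq S hc hs
  set f := DihFun.dl hc 1
  set F : G → ℂ := indFun (CZ z) (TICore.gfun M P e ξ₀ f) with hFdef
  have hfs := DihFun.dl_eq_zero hc one_pos (by norm_num : 1 ≤ 4)
  set i := (CZ z).index with hi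
  set j := (CZ (s : CZ z)).index with hj
  -- the two evaluations
  have hleft : ∑ g : G, (pairCount z g : ℂ) * F g = (i : ℂ) * ((j : ℂ) * (4 * 2 ^ a * I)) := by
    have hN : IsClassFunction G (fun g => (pairCount z g : ℂ)) := fun g h => by
      show ((pairCount z _ : ℕ) : ℂ) = _
      rw [pairCount_conj]
    have h := H25.classInner_indFun_left (CZ z) (TICore.gfun M P e ξ₀ f) _ hN
    simp only [classInner, map_natCast, ← hFdef] at h
    rw [← hL]
    have hc0 : (Nat.card (CZ z) : ℂ) ≠ 0 := Nat.cast_ne_zero.2 Nat.card_pos.ne'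
    have hG : (Nat.card G : ℂ) = (Nat.card (CZ z) : ℂ) * (i : ℂ) := by
      exact_mod_cast ((CZ z).card_mul_index).symm
    have hi0 : (i : ℂ) ≠ 0 := Nat.cast_ne_zero.2 Subgroup.index_ne_zero_of_finite
    rw [hG, mul_inv, mul_assoc] at h
    have h' := mul_left_cancel₀ (inv_ne_zero hc0) h
    rw [inv_mul_eq_iff_eq_mul₀ hi0] at h'
    simpa only [mul_comm (pairCount z _ : ℂ)] using h'
  have hscal : ((ξ₀ : CZ z → ℂ) (TICore.zC z)) ^ 2 = ((ξ₀ : CZ z → ℂ) 1) ^ 2 := by
    have h := H56.Subsec.irr_yC_mul z ξ₀ 1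
    rw [mul_one] at h
    rw [show TICore.zC z = H56.Subsec.yC z from Subtype.ext rfl, h, mul_pow,
      H56.Subsec.scal_pow z (by rw [← S.order, pow_orderOf_eq_one]) ξ₀, one_mul]
  have hright : ∑ g : G, (pairCount z g : ℂ) * F g = (i : ℂ) ^ 2 * ((ξ₀ : CZ z → ℂ) 1) ^ 2 *
      ((1 / 8 : ℂ) * (32 / 3 * (wdiff (fun (χ : {χ // χ ∈ B}) r => mlt S hc hs χ r) 0 4 p : ℂ) /
        deg p)) := by
    have hFexp : ∀ g, F g = ∑ χ : {χ // χ ∈ B},
        classInner f (TICore.Phi M P e ξ₀ ((χ : IrrCharacter G) : G → ℂ)) *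
          ((χ : IrrCharacter G) : G → ℂ) g := fun g => by
      rw [hFdef, ← TICore.sum_classInner_smul S (DihFun.dl_class hc 1) (supp hc hs hfs) g,
        Finset.sum_subtype (p := (· ∈ B)) (H42.blockFinset B) (fun x => H42.mem_blockFinset)]
    simp only [hFexp, Finset.mul_sum]
    rw [Finset.sum_comm, ← hX ((DihFun.root 4 ^ (-1 : ℤ)) - (DihFun.root 4 ^ (-1 : ℤ)) ^ 3),
      Finset.mul_sum, Finset.mul_sum]
    refine Finset.sum_congr rfl fun χ _ => ?_
    have hcomm : ∀ g : G, (pairCount z g : ℂ) *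
        (classInner f (TICore.Phi M P e ξ₀ ((χ : IrrCharacter G) : G → ℂ)) *
          ((χ : IrrCharacter G) : G → ℂ) g) =
        classInner f (TICore.Phi M P e ξ₀ ((χ : IrrCharacter G) : G → ℂ)) *
          ((pairCount z g : ℂ) * ((χ : IrrCharacter G) : G → ℂ) g) := fun g => by ring
    rw [Finset.sum_congr rfl fun g _ => hcomm g, ← Finset.mul_sum, sum_pairCount_mul,
      show Subgroup.centralizer ({z} : Set G) = CZ z by rw [CZ, centralizer_zpowers_eq]]
    have hz : ((χ : IrrCharacter G) : G → ℂ) z =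
        (ξ₀ : CZ z → ℂ) (TICore.zC z) * (val S hc hs χ : ℂ) := sub_eq_zero.1 (hU0 χ)
    obtain ⟨b1, b2, hb1, hb2, hbe⟩ := TICore.isGeneralized_Phi S (χ : IrrCharacter G)
    have hF' : IsClassFunction P (TICore.Phi M P e ξ₀ ((χ : IrrCharacter G) : G → ℂ)) := by
      rw [hbe]
      intro u v
      simp [H26.isClassFunction_of_isCharacter hb1 u v, H26.isClassFunction_of_isCharacter hb2 u v]
    rw [dl_one_eq hc hs _ hF', mlt_spec S hc hs, mlt_spec S hc hs, mlt_spec S hc hs,
      mlt_spec S hc hs, hz, mul_pow, hscal]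
    simp only [wdiff, Int.cast_sub, hdeg, ← hi]
    ring
  rw [hleft] at hright
  -- valuations
  obtain ⟨dp, hdp⟩ := H26.exists_nat_char_one (H26.irr_isCharacter (p : IrrCharacter G))
  obtain ⟨d0, hd0⟩ := H26.exists_nat_char_one (H26.irr_isCharacter ξ₀)
  have hdp0 : dp ≠ 0 := fun h0 => H26.irr_one_ne_zero (p : IrrCharacter G) (by rw [hdp, h0]; simp)
  have hd00 : d0 ≠ 0 := fun h0 => H26.irr_one_ne_zero ξ₀ (by rw [hd0, h0]; simp)
  have hvp : dp.factorization 2 + 4 = (Nat.card G).factorization 2 := by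
    have h := H42.factorization_degree_add_defect (p := 2) S.ind.2.1 p.2
    rw [(Finset.mem_filter.1 hpZ).2, add_zero, hd4, H42.charDegree_of_eq_nat hdp] at h
    exact h
  have hv0 : d0.factorization 2 + 4 = (Nat.card (CZ z)).factorization 2 := by
    have h := H42.factorization_degree_add_defect (p := 2) S.ind.1 S.height_zero.1
    rw [S.height_zero.2, add_zero, hdef, hd4, H42.charDegree_of_eq_nat hd0] at h
    exact h
  have hi0 : i ≠ 0 := Subgroup.index_ne_zero_of_finite
  have hj0 : j ≠ 0 := Subgroup.index_ne_zero_of_finite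
  have hvG : (Nat.card (CZ z)).factorization 2 + i.factorization 2 = (Nat.card G).factorization 2 := by
    rw [← (CZ z).card_mul_index, Nat.factorization_mul Nat.card_pos.ne' hi0]
    rfl
  have hvj : (Nat.card (CZ (s : CZ z))).factorization 2 + j.factorization 2 =
      (Nat.card (CZ z)).factorization 2 := by
    rw [← (CZ (s : CZ z)).card_mul_index, Nat.factorization_mul Nat.card_pos.ne' hj0]
    rfl
  set sp : ℤ := wdiff (fun (χ : {χ // χ ∈ B}) r => mlt S hc hs χ r) 0 4 p with hspdef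
  rw [show deg p = (dp : ℂ) from hdp, hd0] at hright
  have hdpC : (dp : ℂ) ≠ 0 := Nat.cast_ne_zero.2 hdp0
  have hiC : (i : ℂ) ≠ 0 := Nat.cast_ne_zero.2 hi0
  have hrat : I = ((((sp * (i : ℤ) * (d0 : ℤ) ^ 2 : ℤ) : ℚ) /
      ((3 * dp * j * 2 ^ a : ℕ) : ℚ) : ℚ) : ℂ) := by
    push_cast
    have hjC : (j : ℂ) ≠ 0 := Nat.cast_ne_zero.2 hj0
    rw [eq_div_iff (by simp [hdpC, hjC])]
    field_simp at hright
    refine mul_left_cancel₀ (show (32 : ℂ) ≠ 0 by norm_num) ?_
    linear_combination hright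
  rw [hrat] at hI
  obtain ⟨n, hn⟩ := H43.exists_int_of_isIntegral hI
  have hden : 3 * dp * j * 2 ^ a ≠ 0 := by simp [hdp0, hj0]
  rw [eq_div_iff (Nat.cast_ne_zero.2 hden)] at hn
  have hn' : n * ((3 * dp * j * 2 ^ a : ℕ) : ℤ) = sp * (i : ℤ) * (d0 : ℤ) ^ 2 := by exact_mod_cast hn
  have habs := congrArg Int.natAbs hn'
  have hsp1 : sp.natAbs = 1 := by
    rcases sq_eq_one_iff.1 hsp with h | h <;> rw [h] <;> rfl
  simp only [Int.natAbs_mul, Int.natAbs_natCast, Int.natAbs_pow, hsp1, one_mul] at habs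
  have hdvd : 3 * dp * j * 2 ^ a ∣ i * d0 ^ 2 := Dvd.intro_left _ habs
  have hle := ((Nat.factorization_le_iff_dvd hden (mul_ne_zero hi0 (pow_ne_zero _ hd00))).2 hdvd) 2
  rw [Nat.factorization_mul (by simp [hdp0, hj0]) (pow_ne_zero _ two_ne_zero),
    Nat.factorization_mul (by simp [hdp0]) hj0, Nat.factorization_mul (by norm_num) hdp0,
    Nat.factorization_mul hi0 (pow_ne_zero _ hd00), Nat.factorization_pow,
    Nat.factorization_pow] at hle
  simp only [Finsupp.add_apply, Finsupp.smul_apply, smul_eq_mul,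
    Nat.prime_two.factorization_self] at hle
  rw [Nat.factorization_eq_zero_of_not_dvd (by norm_num : ¬ 2 ∣ 3)] at hle
  omega

end Mult

end Cfsg.Agent.H22.Dihedral
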