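import Cfsg.Agent.H41.BrauerBlock
import Cfsg.Agent.H32.Contributions
import Cfsg.Agent.H23.OneSubsection

/-!
# The Cartan matrix of a block and the scaled regular inner products

The Cartan matrix of a block on the points it meets is inverse, up to the order of the defect
group, to an integral matrix built from the scaled regular inner products. If the Cartan matrix is
divisible by that order, the block has rank one; if all degrees are equal and all heights zero, the
block has one point, all decomposition numbers are one and its cardinality is that order.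
-/

set_option autoImplicit false
set_option linter.unusedSectionVars false

namespace Cfsg.Agent.H22.EqDeg

open Cfsg (IrrCharacter)
open Cfsg.Agent.H41 (ResField localRing res)
open Cfsg.Agent.H41.BrauerChar
open Cfsg.Agent.H22.AlgPoints (Point)
open Cfsg.Agent.H42 (regRes regInt blockFinset mem_blockFinset)
open Cfsg.Agent.H32 (scaledReg scaledDeg minVal)
open scoped ComplexConjugate Classical

universe u

variable {G : Type u} [Group G] [Fintype G] {p : ℕ} [hp : Fact p.Prime] {M : Ideal Cfsg.AlgInt}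
  [M.IsMaximal]

/-- An integer whose quotient by a power of `p` is local is divisible by that power. -/
theorem pow_dvd_of_mem [CharP (ResField M) p] {z : ℤ} {d : ℕ}
    (h : (z : ℂ) / (p : ℂ) ^ d ∈ localRing M) : (p : ℤ) ^ d ∣ z := by
  have hp0 : (p : ℂ) ≠ 0 := Nat.cast_ne_zero.2 hp.out.ne_zero
  induction d generalizing z with
  | zero => simp
  | succ n ih =>
    have h1 : (z : localRing M) =
        ((p : ℕ) : localRing M) * (((p ^ n : ℕ) : localRing M) * ⟨_, h⟩) := by
      apply Subtype.ext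
      push_cast
      field_simp
      ring
    have h2 := congrArg (res M) h1
    rw [map_mul, map_intCast, map_natCast, CharP.cast_eq_zero, zero_mul,
      CharP.intCast_eq_zero_iff (ResField M) p] at h2
    obtain ⟨w, rfl⟩ := h2
    rw [pow_succ']
    refine mul_dvd_mul_left _ (ih ?_)
    convert h using 1
    push_cast
    rw [pow_succ']
    field_simp

section Setting

variable [IsAlgClosed (ResField M)] [CharP (ResField M) p]
  [FiniteDimensional (ResField M) (MonoidAlgebra (ResField M) G)]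
  [Fintype (Point (MonoidAlgebra (ResField M) G))]
  (hM : Cfsg.IsPModular p M) {B : Set (IrrCharacter G)} (hB : Cfsg.IsPBlock M B)

variable (B) in
/-- The points met by a block. -/
noncomputable def pts : Finset (Pt M G) :=
  Finset.univ.filter fun c => ∃ χ, χ ∈ B ∧ dec hM χ c ≠ 0

theorem mem_pts {c : Pt M G} : c ∈ pts hM B ↔ ∃ χ, χ ∈ B ∧ dec hM χ c ≠ 0 := by simp [pts]

theorem dec_eq_zero_of_notMem_pts {χ : IrrCharacter G} (hχ : χ ∈ B) {c : Pt M G}
    (hc : c ∉ pts hM B) : dec hM χ c = 0 := by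
  by_contra h
  exact hc ((mem_pts hM).2 ⟨χ, hχ, h⟩)

include hB in
theorem dec_eq_zero_of_notMem_block {χ : IrrCharacter G} (hχ : χ ∉ B) {c : Pt M G}
    (hc : c ∈ pts hM B) : dec hM χ c = 0 := by
  obtain ⟨ξ, hξ, hd⟩ := (mem_pts hM).1 hc
  exact dec_separated hM hB hξ hχ hd

/-- The coordinates of a dual function. -/
noncomputable def zc (c : Pt M G) : IrrCharacter G → ℤ := (exists_int_phi hM c).choose

theorem zc_spec (c : Pt M G) {s : G} (hs : ¬ p ∣ orderOf s) :
    phi hM c s = ∑ χ, (zc hM c χ : ℂ) * (χ : G → ℂ) s := (exists_int_phi hM c).choose_spec s hs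

include hB in
theorem sum_zc_dec {c c' : Pt M G} (hc' : c' ∈ pts hM B) :
    ∑ χ ∈ blockFinset B, zc hM c χ * (dec hM χ c' : ℤ) = if c = c' then 1 else 0 := by
  apply Int.cast_injective (α := ℂ)
  rw [Finset.sum_subset (Finset.subset_univ _) fun χ _ hχ => by
    rw [dec_eq_zero_of_notMem_block hM hB (fun h => hχ (mem_blockFinset.2 h)) hc', Nat.cast_zero,
      mul_zero]]
  push_cast
  exact int_phi_dec hM (fun s hs => zc_spec hM c hs) c'

variable (B) in
/-- The Cartan numbers of a block. -/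
noncomputable def cm (c c' : Pt M G) : ℤ :=
  ∑ χ ∈ blockFinset B, (dec hM χ c : ℤ) * dec hM χ c'

theorem cm_comm (c c' : Pt M G) : cm hM B c c' = cm hM B c' c :=
  Finset.sum_congr rfl fun _ _ => mul_comm _ _

variable (B) in
/-- The inverse of the Cartan matrix, multiplied by the order of a defect group. -/
noncomputable def qm (a c : Pt M G) : ℤ :=
  ∑ ψ ∈ blockFinset B, ∑ χ ∈ blockFinset B, zc hM a ψ * zc hM c χ * scaledReg p B ψ χ

include hM hB in
theorem regRes_eq_scaled {χ : IrrCharacter G} (hχ : χ ∈ B) (x : G) :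
    (p : ℂ) ^ Cfsg.blockDefect p B * regRes p (χ : G → ℂ) x =
      ∑ ξ ∈ blockFinset B, (scaledReg p B χ ξ : ℂ) * (ξ : G → ℂ) x := by
  obtain ⟨η, hη, hη0⟩ := H41.exists_height_zero (p := p) (H41.IsPBlock.nonempty hB)
  have hva := (H42.blockHeight_eq_zero_iff (p := p) hB hη).1 hη0
  rw [H41.factorization_eq_of_height_zero hη hη0] at hva
  rw [H42.regRes_eq_sum_block hM hB hχ x, Finset.mul_sum]
  refine Finset.sum_congr rfl fun ξ _ => ?_
  have hp0 : (p : ℂ) ≠ 0 := Nat.cast_ne_zero.2 hp.out.ne_zero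
  rw [← H32.cast_scaledReg (F := ℂ) hχ ξ, ← hva, Nat.cast_pow, pow_add, ← mul_assoc]
  congr 1
  field_simp

include hB in
theorem sum_scaledReg_dec {χ : IrrCharacter G} (hχ : χ ∈ B) (c : Pt M G) :
    ∑ ψ ∈ blockFinset B, scaledReg p B χ ψ * (dec hM ψ c : ℤ) =
      (p : ℤ) ^ Cfsg.blockDefect p B * dec hM χ c := by
  have h := phi_indep hM (z := fun c =>
    ((∑ ψ ∈ blockFinset B, scaledReg p B χ ψ * (dec hM ψ c : ℤ) : ℤ) : ℂ) -
      (((p : ℤ) ^ Cfsg.blockDefect p B * dec hM χ c : ℤ) : ℂ)) fun s hs => by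
    have h1 := regRes_eq_scaled hM hB hχ s
    rw [H42.regRes_of_regular hs, irr_eq_sum_phi hM hs χ] at h1
    push_cast
    simp only [sub_mul, Finset.sum_sub_distrib, Finset.sum_mul]
    rw [Finset.sum_comm, sub_eq_zero, Finset.sum_congr rfl fun (c : Pt M G) _ =>
      mul_assoc ((p : ℂ) ^ Cfsg.blockDefect p B) (dec hM χ c : ℂ) _, ← Finset.mul_sum, h1]
    refine Finset.sum_congr rfl fun ψ _ => ?_
    rw [irr_eq_sum_phi hM hs ψ, Finset.mul_sum]
    exact Finset.sum_congr rfl fun _ _ => by ring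
  exact Int.cast_injective (α := ℂ) (sub_eq_zero.1 (congrFun h c))

include hB in
/-- A row of the scaled inner products in the coordinates of the dual functions. -/
theorem scaledReg_eq_sum {ψ η : IrrCharacter G} (hψ : ψ ∈ B) (hη : η ∈ B) :
    scaledReg p B ψ η = ∑ c ∈ pts hM B, (dec hM η c : ℤ) *
      ∑ χ ∈ blockFinset B, zc hM c χ * scaledReg p B ψ χ := by
  have hreg : ∀ x : G, regRes p (η : G → ℂ) x = ∑ c ∈ pts hM B, (dec hM η c : ℂ) *
      ∑ χ : IrrCharacter G, (zc hM c χ : ℂ) * regRes p (χ : G → ℂ) x := by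
    intro x
    by_cases hx : p ∣ orderOf x
    · simp [H42.regRes_of_singular hx]
    · simp only [H42.regRes_of_regular hx]
      rw [irr_eq_sum_phi hM hx η]
      simp only [zc_spec hM _ hx]
      exact (Finset.sum_subset (Finset.subset_univ _) fun c _ hc => by
        rw [dec_eq_zero_of_notMem_pts hM hη hc, Nat.cast_zero, zero_mul]).symm
  have hlin : (regInt p η ψ : ℂ) = ∑ c ∈ pts hM B, (dec hM η c : ℂ) *
      ∑ χ : IrrCharacter G, (zc hM c χ : ℂ) * (regInt p χ ψ : ℂ) := by
    simp only [H42.regInt_spec, Cfsg.classInner, Finset.mul_sum]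
    rw [Finset.sum_congr rfl fun x _ => by rw [hreg x]]
    simp only [Finset.sum_mul, Finset.mul_sum]
    rw [Finset.sum_comm]
    refine Finset.sum_congr rfl fun c _ => ?_
    rw [Finset.sum_comm]
    refine Finset.sum_congr rfl fun χ _ => Finset.sum_congr rfl fun x _ => ?_
    ring
  have hint : regInt p η ψ = ∑ c ∈ pts hM B, (dec hM η c : ℤ) *
      ∑ χ ∈ blockFinset B, zc hM c χ * regInt p χ ψ := by
    apply Int.cast_injective (α := ℂ)
    rw [hlin]
    push_cast
    refine Finset.sum_congr rfl fun c _ => congrArg _ ?_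
    refine (Finset.sum_subset (Finset.subset_univ _) fun χ _ hχ => ?_).symm
    rw [H42.regInt_comm, H42.regInt_eq_zero_of_notMem hM hB hψ (fun h => hχ (mem_blockFinset.2 h)),
      Int.cast_zero, mul_zero]
  refine mul_right_cancel₀ (pow_ne_zero (minVal p B) (by exact_mod_cast hp.out.ne_zero) :
    (p : ℤ) ^ minVal p B ≠ 0) ?_
  rw [H32.scaledReg_mul hψ η, H42.regInt_comm, hint, Finset.sum_mul]
  refine Finset.sum_congr rfl fun c _ => ?_
  rw [mul_assoc, Finset.sum_mul]
  refine congrArg _ (Finset.sum_congr rfl fun χ hχ => ?_)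
  rw [mul_assoc, H32.scaledReg_mul hψ χ, H42.regInt_comm]

include hB in
theorem scaledReg_eq_qm {ψ η : IrrCharacter G} (hψ : ψ ∈ B) (hη : η ∈ B) :
    scaledReg p B ψ η = ∑ a ∈ pts hM B, ∑ c ∈ pts hM B,
      (dec hM ψ a : ℤ) * dec hM η c * qm hM B a c := by
  rw [scaledReg_eq_sum hM hB hψ hη, Finset.sum_comm]
  refine Finset.sum_congr rfl fun c _ => ?_
  rw [Finset.sum_congr rfl fun χ hχ => by
    rw [H32.scaledReg_comm ψ χ, scaledReg_eq_sum hM hB (mem_blockFinset.1 hχ) hψ]]
  simp only [qm, Finset.mul_sum]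
  rw [Finset.sum_comm]
  refine Finset.sum_congr rfl fun a _ => ?_
  rw [Finset.sum_comm]
  refine Finset.sum_congr rfl fun χ _ => Finset.sum_congr rfl fun χ' _ => ?_
  rw [H32.scaledReg_comm χ' χ]
  ring

include hB in
/-- The Cartan matrix is inverse to the matrix of scaled inner products. -/
theorem sum_qm_cm {a c : Pt M G} (hc : c ∈ pts hM B) :
    ∑ c' ∈ pts hM B, qm hM B a c' * cm hM B c' c =
      if a = c then (p : ℤ) ^ Cfsg.blockDefect p B else 0 := by
  calc ∑ c' ∈ pts hM B, qm hM B a c' * cm hM B c' c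
      = ∑ ψ ∈ blockFinset B, zc hM a ψ * ∑ η ∈ blockFinset B, (∑ c' ∈ pts hM B,
          (dec hM η c' : ℤ) * ∑ χ ∈ blockFinset B, zc hM c' χ * scaledReg p B ψ χ) *
            dec hM η c := by
        simp only [qm, cm, Finset.sum_mul, Finset.mul_sum]
        rw [Finset.sum_comm, Finset.sum_congr rfl fun η _ => Finset.sum_comm, Finset.sum_comm]
        refine Finset.sum_congr rfl fun ψ _ => Finset.sum_congr rfl fun η _ =>
          Finset.sum_congr rfl fun c' _ =>
          Finset.sum_congr rfl fun χ _ => ?_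
        ring
    _ = ∑ ψ ∈ blockFinset B, zc hM a ψ * ((p : ℤ) ^ Cfsg.blockDefect p B * dec hM ψ c) := by
        refine Finset.sum_congr rfl fun ψ hψ => congrArg _ ?_
        rw [← sum_scaledReg_dec hM hB (mem_blockFinset.1 hψ) c]
        exact Finset.sum_congr rfl fun η hη => by
          rw [← scaledReg_eq_sum hM hB (mem_blockFinset.1 hψ) (mem_blockFinset.1 hη)]
    _ = _ := by
        rw [Finset.sum_congr rfl fun ψ _ => mul_left_comm (zc hM a ψ)
          ((p : ℤ) ^ Cfsg.blockDefect p B) (dec hM ψ c : ℤ), ← Finset.mul_sum,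
          sum_zc_dec hM hB hc, mul_ite, mul_one, mul_zero]

include hB in
/-- A block whose Cartan matrix is divisible by the order of a defect group has one point. -/
theorem card_pts_le_one (hdiv : ∀ c ∈ pts hM B, ∀ c' ∈ pts hM B,
    (p : ℤ) ^ Cfsg.blockDefect p B ∣ cm hM B c c') : (pts hM B).card ≤ 1 := by
  choose! g hg using hdiv
  obtain ⟨ξ, hξ, hξ0⟩ := H41.exists_height_zero (p := p) (H41.IsPBlock.nonempty hB)
  set N : ℤ := (p : ℤ) ^ Cfsg.blockDefect p B with hN
  have hN0 : N ≠ 0 := pow_ne_zero _ (by exact_mod_cast hp.out.ne_zero)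
  have hq : ∀ a, ∀ c ∈ pts hM B, ∑ c' ∈ pts hM B, qm hM B a c' * g c' c =
      if a = c then 1 else 0 := by
    intro a c hc
    refine mul_left_cancel₀ hN0 ?_
    rw [mul_ite, mul_one, mul_zero, hN, ← sum_qm_cm hM hB hc, Finset.mul_sum]
    refine Finset.sum_congr rfl fun c' hc' => ?_
    rw [hg c' hc' c hc]
    ring
  set s := scaledDeg p B ξ with hs
  set x : Pt M G → ℤ := fun a => ∑ ψ ∈ blockFinset B, zc hM a ψ * scaledDeg p B ψ with hx
  set v : Pt M G → ℤ := fun c => ∑ c' ∈ pts hM B, x c' * g c' c with hv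
  have hrank : ∀ a c, (p : ℤ) ∣ qm hM B a c * s * s - scaledReg p B ξ ξ * (x a * x c) := by
    intro a c
    simp only [qm, hx, hs]
    rw [Finset.sum_mul_sum]
    simp only [Finset.sum_mul, Finset.mul_sum, ← Finset.sum_sub_distrib]
    refine Finset.dvd_sum fun ψ hψ => Finset.dvd_sum fun χ hχ => ?_
    refine (dvd_of_eq ?_).trans (dvd_trans ((H32.dvd_scaledReg_rank_one hM hB
      (mem_blockFinset.1 hψ) (mem_blockFinset.1 hχ) hξ).mul_left (zc hM a ψ * zc hM c χ))
      (dvd_of_eq ?_))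
    · rfl
    · ring
  have hpp : Prime (p : ℤ) := Nat.prime_iff_prime_int.1 hp.out
  have hs0 : ¬ (p : ℤ) ∣ s * s := fun h =>
    H32.not_dvd_scaledDeg hξ hξ0 ((hpp.dvd_or_dvd h).elim id id)
  have hkey : ∀ a, ∀ c ∈ pts hM B,
      (p : ℤ) ∣ (if a = c then s * s else 0) - scaledReg p B ξ ξ * (x a * v c) := by
    intro a c hc
    rw [show (if a = c then s * s else 0) = (if a = c then 1 else 0) * (s * s) by
      split_ifs <;> simp, ← hq a c hc, hv]
    simp only [Finset.sum_mul, Finset.mul_sum, ← Finset.sum_sub_distrib]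
    refine Finset.dvd_sum fun c' _ => ?_
    refine (dvd_trans ((hrank a c').mul_right (g c' c)) (dvd_of_eq ?_))
    ring
  rw [Finset.card_le_one]
  intro a ha a' ha'
  by_contra hne
  have h1 := hkey a a ha
  have h2 := hkey a a' ha'
  have h3 := hkey a' a' ha'
  rw [if_pos rfl] at h1 h3
  rw [if_neg hne, zero_sub, dvd_neg] at h2
  rcases hpp.dvd_or_dvd h2 with h | h
  · exact hs0 (by simpa using dvd_add h1 (h.mul_right (x a * v a)))
  rcases hpp.dvd_or_dvd h with h | h
  · exact hs0 (by simpa using dvd_add h1 ((h.mul_right (v a)).mul_left (scaledReg p B ξ ξ)))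
  · exact hs0 (by simpa using dvd_add h3 ((h.mul_left (x a')).mul_left (scaledReg p B ξ ξ)))

theorem blockRank_le_card_pts (hM : Cfsg.IsPModular p M) {B : Set (IrrCharacter G)} :
    Cfsg.blockRank p B ≤ (pts hM B).card := by
  rw [Cfsg.blockRank, ← Fintype.card_coe (pts hM B)]
  refine le_trans (Submodule.finrank_mono ?_)
    (finrank_range_le_card (R := ℂ) fun c : pts hM B => Cfsg.pRegularPart p (phi hM c.1))
  refine Submodule.span_le.2 ?_
  rintro _ ⟨χ, hχ, rfl⟩
  have : Cfsg.pRegularPart p (χ : G → ℂ) =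
      ∑ c : pts hM B, (dec hM χ c.1 : ℂ) • Cfsg.pRegularPart p (phi hM c.1) := by
    funext x
    by_cases hx : p ∣ orderOf x
    · simp [Cfsg.pRegularPart, Cfsg.IsPRegular, hx]
    · simp only [Finset.sum_apply, Pi.smul_apply, smul_eq_mul, Cfsg.pRegularPart, Cfsg.IsPRegular,
        hx, not_false_iff, if_true]
      rw [irr_eq_sum_phi hM hx χ, ← Finset.sum_subset (Finset.subset_univ (pts hM B))
        (fun c _ hc => by rw [dec_eq_zero_of_notMem_pts hM hχ hc, Nat.cast_zero, zero_mul])]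
      exact (Finset.sum_coe_sort (pts hM B) fun c => (dec hM χ c : ℂ) * phi hM c x).symm
  show Cfsg.pRegularPart p (χ : G → ℂ) ∈ _
  rw [this]
  exact Submodule.sum_mem _ fun c _ => Submodule.smul_mem _ _ (Submodule.subset_span ⟨c, rfl⟩)

include hB in
/-- A decomposition number as a sum of regular values. -/
theorem exists_dec_eq_regular (c : Pt M G) : ∃ E : G → localRing M,
    ∀ χ ∈ B, (dec hM χ c : ℂ) = ∑ g : G, (E g : ℂ) * regRes p (χ : G → ℂ) g := by
  obtain ⟨E, hE, hEc⟩ := exists_lift c.out.2.idem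
  refine ⟨fun g => E.coeff g, fun χ hχ => ?_⟩
  have hdec : ∀ ψ : IrrCharacter G, (dec hM ψ c : ℂ) = ∑ g : G, (E.coeff g : ℂ) * (ψ : G → ℂ) g :=
    fun ψ => by
      rw [← dec_spec hM, ← hEc, trBar_red hM hE]
      simp [H40.trAt]
  refine mul_left_cancel₀ (pow_ne_zero (Cfsg.blockDefect p B)
    (Nat.cast_ne_zero.2 hp.out.ne_zero : (p : ℂ) ≠ 0)) ?_
  have h := congrArg (fun z : ℤ => (z : ℂ)) (sum_scaledReg_dec hM hB hχ c)
  push_cast at h
  rw [← h, Finset.mul_sum]
  simp only [hdec, Finset.mul_sum]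
  rw [Finset.sum_comm]
  refine Finset.sum_congr rfl fun g _ => ?_
  rw [mul_left_comm, regRes_eq_scaled hM hB hχ g, Finset.mul_sum]
  exact Finset.sum_congr rfl fun _ _ => by ring

include hM hB in
/-- The block rank is one when the scaled kernel of the block is local on regular elements. -/
theorem blockRank_eq_one_aux (hK : ∀ g t : G, ¬ p ∣ orderOf g → ¬ p ∣ orderOf t →
    (∑ χ ∈ blockFinset B, (χ : G → ℂ) g * (χ : G → ℂ) t) / (p : ℂ) ^ Cfsg.blockDefect p B ∈
      localRing M) : Cfsg.blockRank p B = 1 := by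
  refine le_antisymm ((blockRank_le_card_pts hM).trans (card_pts_le_one hM hB fun c _ c' _ => ?_))
    (H23.OneSubsection.blockRank_pos (p := p) hB)
  refine pow_dvd_of_mem (M := M) ?_
  obtain ⟨E, hE⟩ := exists_dec_eq_regular hM hB c
  obtain ⟨E', hE'⟩ := exists_dec_eq_regular hM hB c'
  have h : ((cm hM B c c' : ℤ) : ℂ) / (p : ℂ) ^ Cfsg.blockDefect p B =
      ∑ g : G, ∑ t : G, (E g : ℂ) * (E' t : ℂ) * ((∑ χ ∈ blockFinset B,
        regRes p (χ : G → ℂ) g * regRes p (χ : G → ℂ) t) / (p : ℂ) ^ Cfsg.blockDefect p B) := by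
    simp only [Finset.sum_div, Finset.mul_sum]
    rw [cm]
    push_cast
    rw [Finset.sum_div, Finset.sum_congr rfl fun (g : G) _ => Finset.sum_comm, Finset.sum_comm]
    refine Finset.sum_congr rfl fun χ hχ => ?_
    rw [hE χ (mem_blockFinset.1 hχ), hE' χ (mem_blockFinset.1 hχ), Finset.sum_mul_sum,
      Finset.sum_div]
    refine Finset.sum_congr rfl fun g _ => ?_
    rw [Finset.sum_div]
    exact Finset.sum_congr rfl fun t _ => by ring
  rw [h]
  refine sum_mem fun g _ => sum_mem fun t _ =>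
    mul_mem (mul_mem (SetLike.coe_mem _) (SetLike.coe_mem _)) ?_
  by_cases hg : p ∣ orderOf g
  · simp [H42.regRes_of_singular hg]
  by_cases ht : p ∣ orderOf t
  · simp [H42.regRes_of_singular ht]
  simp only [H42.regRes_of_regular hg, H42.regRes_of_regular ht]
  exact hK g t hg ht

include hB in
/-- A block of equal degrees and heights zero has one point and as many members as the order of
its defect groups. -/
theorem equal_degree (h0 : ∀ χ ∈ B, Cfsg.blockHeight p B (χ : G → ℂ) = 0) {d₀ : ℕ}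
    (hd : ∀ χ ∈ B, Cfsg.charDegree (χ : G → ℂ) = d₀) :
    ∃ c, pts hM B = {c} ∧ deg hM c = d₀ ∧ (∀ χ ∈ B, dec hM χ c = 1) ∧
      Nat.card B = p ^ Cfsg.blockDefect p B := by
  obtain ⟨ξ, hξ⟩ := H41.IsPBlock.nonempty hB
  have hd0 : 0 < d₀ := hd ξ hξ ▸ H42.charDegree_pos ξ
  set T := pts hM B with hT
  have hdeg : ∀ χ, χ ∈ B → Cfsg.charDegree (χ : G → ℂ) = ∑ c ∈ T, deg hM c * dec hM χ c :=
    fun χ hχ => by
      rw [charDegree_eq_sum hM χ]
      exact (Finset.sum_subset (Finset.subset_univ T)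
        fun c _ hc => by rw [dec_eq_zero_of_notMem_pts hM hχ hc, mul_zero]).symm
  have hgd : ∀ c ∈ T, deg hM c = d₀ := by
    intro c hc
    have h1 : (deg hM c : ℤ) = ∑ χ ∈ blockFinset B,
        zc hM c χ * (Cfsg.charDegree (χ : G → ℂ) : ℤ) := by
      rw [Finset.sum_congr rfl fun χ hχ => by rw [hdeg χ (mem_blockFinset.1 hχ)]]
      push_cast
      simp only [Finset.mul_sum]
      rw [Finset.sum_comm, Finset.sum_congr rfl fun c' hc' => show _ =
        (deg hM c' : ℤ) * if c = c' then 1 else 0 by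
          rw [← sum_zc_dec hM hB hc', Finset.mul_sum]
          exact Finset.sum_congr rfl fun χ _ => by ring]
      simp [hc]
    have hdvd : d₀ ∣ deg hM c := Int.natCast_dvd_natCast.1 (h1 ▸ Finset.dvd_sum fun χ hχ =>
      Dvd.dvd.mul_left (by rw [hd χ (mem_blockFinset.1 hχ)]) _)
    obtain ⟨χ, hχ, hne⟩ := (mem_pts hM).1 hc
    refine le_antisymm ?_ (Nat.le_of_dvd (deg_pos hM c) hdvd)
    rw [← hd χ hχ, hdeg χ hχ]
    exact (Nat.le_mul_of_pos_right _ (Nat.pos_of_ne_zero hne)).trans
      (Finset.single_le_sum (f := fun c => deg hM c * dec hM χ c) (fun _ _ => Nat.zero_le _) hc)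
  have hsum1 : ∀ χ ∈ B, ∑ c ∈ T, dec hM χ c = 1 := fun χ hχ => by
    have h := hdeg χ hχ
    rw [hd χ hχ, Finset.sum_congr rfl fun c hc => by rw [hgd c hc], ← Finset.mul_sum] at h
    exact Nat.eq_of_mul_eq_mul_left hd0 (by rw [mul_one]; exact h.symm)
  -- off-diagonal Cartan numbers vanish
  have hmul : ∀ χ ∈ B, ∀ c ∈ T, ∀ c' ∈ T, c ≠ c' →
      (dec hM χ c : ℤ) * dec hM χ c' = 0 := by
    intro χ hχ c hc c' hc' hne
    by_contra h
    rw [mul_eq_zero, not_or] at h
    have h2 := Finset.add_le_sum (f := dec hM χ) (fun _ _ => Nat.zero_le _) hc hc' hne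
    rw [hsum1 χ hχ] at h2
    have h3 : dec hM χ c ≠ 0 := by exact_mod_cast h.1
    have h4 : dec hM χ c' ≠ 0 := by exact_mod_cast h.2
    omega
  have hcm : ∀ c ∈ T, ∀ c' ∈ T, c ≠ c' → cm hM B c c' = 0 := fun c hc c' hc' hne =>
    Finset.sum_eq_zero fun χ hχ => hmul χ (mem_blockFinset.1 hχ) c hc c' hc' hne
  have hq : ∀ a, ∀ c ∈ T, qm hM B a c * cm hM B c c =
      if a = c then (p : ℤ) ^ Cfsg.blockDefect p B else 0 := by
    intro a c hc
    rw [← sum_qm_cm hM hB hc, Finset.sum_eq_single c (fun c' hc' hne => by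
      rw [hcm c' hc' c hc hne, mul_zero]) (fun h => absurd hc h)]
  have hk : ∀ c ∈ T, cm hM B c c ≠ 0 := by
    intro c hc
    obtain ⟨χ, hχ, hne⟩ := (mem_pts hM).1 hc
    refine ne_of_gt (Finset.sum_pos' (fun _ _ => mul_self_nonneg _)
      ⟨χ, mem_blockFinset.2 hχ, ?_⟩)
    positivity
  -- one point
  have hpp : Prime (p : ℤ) := Nat.prime_iff_prime_int.1 hp.out
  have hone : ∀ a ∈ T, ∀ c ∈ T, a = c := by
    intro a ha c hc
    by_contra hne
    obtain ⟨ψ, hψ, hψa⟩ := (mem_pts hM).1 ha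
    obtain ⟨η, hη, hηc⟩ := (mem_pts hM).1 hc
    have hz : scaledReg p B ψ η = 0 := by
      rw [scaledReg_eq_qm hM hB hψ hη]
      refine Finset.sum_eq_zero fun a' ha' => Finset.sum_eq_zero fun c' hc' => ?_
      rcases eq_or_ne a' a with rfl | hne'
      · rcases eq_or_ne c' c with rfl | hne''
        · have := hq a' c' hc'
          rw [if_neg hne] at this
          rw [(mul_eq_zero.1 this).resolve_right (hk c' hc'), mul_zero]
        · have := hmul η hη c' hc' c hc hne''
          rw [(mul_eq_zero.1 this).resolve_right (by exact_mod_cast hηc), mul_zero, zero_mul]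
      · have := hmul ψ hψ a' ha' a ha hne'
        rw [(mul_eq_zero.1 this).resolve_right (by exact_mod_cast hψa), zero_mul, zero_mul]
    have h := H32.dvd_scaledReg_rank_one hM hB hψ hη hψ
    rw [hz, zero_mul, zero_mul, zero_sub, dvd_neg] at h
    rcases hpp.dvd_or_dvd h with h | h
    · rcases hpp.dvd_or_dvd h with h | h
      · exact H32.not_dvd_scaledReg_self hM hB hψ (h0 ψ hψ) h
      · exact H32.not_dvd_scaledDeg hψ (h0 ψ hψ) h
    · exact H32.not_dvd_scaledDeg hη (h0 η hη) h
  obtain ⟨c, hc⟩ : ∃ c, c ∈ T := by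
    by_contra h
    push Not at h
    have := hsum1 ξ hξ
    rw [Finset.eq_empty_of_forall_notMem h, Finset.sum_empty] at this
    exact zero_ne_one this
  have hTc : T = {c} := Finset.eq_singleton_iff_unique_mem.2 ⟨hc, fun a ha => hone a ha c hc⟩
  have hdec : ∀ χ ∈ B, dec hM χ c = 1 := fun χ hχ => by
    have := hsum1 χ hχ
    rwa [hTc, Finset.sum_singleton] at this
  refine ⟨c, hTc, hgd c hc, hdec, ?_⟩
  have hcard : cm hM B c c = (Nat.card B : ℤ) := by
    rw [cm, Finset.sum_congr rfl fun χ hχ => by rw [hdec χ (mem_blockFinset.1 hχ)]]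
    simp [H42.card_blockFinset]
  have hdvd : Nat.card B ∣ p ^ Cfsg.blockDefect p B := by
    have := hq c c hc
    rw [if_pos rfl, hcard] at this
    exact Int.natCast_dvd_natCast.1 (by push_cast; exact ⟨qm hM B c c, by rw [← this]; ring⟩)
  obtain ⟨j, -, hj⟩ := (Nat.dvd_prime_pow hp.out).1 hdvd
  have hfac := H42.factorization_sum_sq_degree (p := p) hM hB
  rw [Finset.sum_congr rfl fun χ hχ => by rw [hd χ (mem_blockFinset.1 hχ)], Finset.sum_const,
    smul_eq_mul, H42.card_blockFinset, hj,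
    Nat.factorization_mul (pow_ne_zero _ hp.out.ne_zero) (pow_ne_zero _ hd0.ne'),
    Finsupp.add_apply, Nat.Prime.factorization_pow hp.out, Finsupp.single_eq_same,
    Nat.factorization_pow, Finsupp.smul_apply, smul_eq_mul] at hfac
  have hva := (H42.blockHeight_eq_zero_iff (p := p) hB hξ).1 (h0 ξ hξ)
  rw [hd ξ hξ] at hva
  rw [hj, show j = Cfsg.blockDefect p B by omega]

end Setting

/-- The block rank is one when the scaled kernel of the block is local on regular elements. -/
theorem blockRank_eq_one (hM : Cfsg.IsPModular p M) {B : Set (IrrCharacter G)}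
    (hB : Cfsg.IsPBlock M B) (hK : ∀ g t : G, ¬ p ∣ orderOf g → ¬ p ∣ orderOf t →
      (∑ χ ∈ blockFinset B, (χ : G → ℂ) g * (χ : G → ℂ) t) / (p : ℂ) ^ Cfsg.blockDefect p B ∈
        localRing M) : Cfsg.blockRank p B = 1 := by
  haveI := Cfsg.Agent.H41.IsPModular.charP hM
  haveI := H43.D1.isAlgClosed_resField M
  haveI : FiniteDimensional (ResField M) (MonoidAlgebra (ResField M) G) :=
    Module.Finite.equiv (MonoidAlgebra.coeffLinearEquiv (ResField M)).symm
  haveI := H22.AlgPoints.finite_point (ResField M) (B := MonoidAlgebra (ResField M) G)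
  haveI := Fintype.ofFinite (Point (MonoidAlgebra (ResField M) G))
  exact blockRank_eq_one_aux hM hB hK

end Cfsg.Agent.H22.EqDeg
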