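import Cfsg.Agent.H22.EqDegCartan
import Mathlib.RingTheory.Nakayama

/-!
# The kernel of a block of equal degrees and heights zero

Such a block has one point and decomposition numbers one, so its values are computed in a corner
of the local group algebra on which every member is multiplicative. Hence the kernel of the block
is divisible by the order of a defect group at all pairs of elements.
-/

set_option autoImplicit false
set_option linter.unusedSectionVars false

namespace Cfsg.Agent.H22.EqDeg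

open Cfsg (IrrCharacter)
open Cfsg.Agent.H41 (ResField localRing res)
open Cfsg.Agent.H41.BrauerChar
open Cfsg.Agent.H40 (trAt trBar redG)
open Cfsg.Agent.H22.AlgPoints (Point IsPrimIdem pointOf)
open Cfsg.Agent.H42 (blockFinset mem_blockFinset)
open scoped ComplexConjugate Classical

universe u

variable {G : Type u} [Group G] [Fintype G] {p : ℕ} [hp : Fact p.Prime] {M : Ideal Cfsg.AlgInt}
  [M.IsMaximal]

theorem trAt_smul (χ : G → ℂ) (r : localRing M) (a : MonoidAlgebra (localRing M) G) :
    trAt 1 χ (r • a) = (r : ℂ) * trAt 1 χ a := by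
  simp [trAt, Finset.mul_sum, mul_assoc]

theorem trAt_comm (χ : IrrCharacter G) (a b : MonoidAlgebra (localRing M) G) :
    trAt 1 (χ : G → ℂ) (a * b) = trAt 1 (χ : G → ℂ) (b * a) :=
  H40.trAt_mul_comm (H40.isLocTrace_irr (M := M) χ).comm (mem_invAlg_one a) b

theorem trAt_mem (χ : IrrCharacter G) (a : MonoidAlgebra (localRing M) G) :
    trAt 1 (χ : G → ℂ) a ∈ localRing M :=
  sum_mem fun g _ => mul_mem (SetLike.coe_mem _) ((H40.isLocTrace_irr χ).mem _)

theorem trAt_of (χ : G → ℂ) (g : G) :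
    trAt 1 χ (MonoidAlgebra.single g (1 : localRing M)) = χ g := by
  simp only [trAt, mul_one]
  rw [Finset.sum_eq_single g]
  · simp
  · intro x _ hx
    simp [Finsupp.single_apply, Ne.symm hx]
  · simp

theorem exists_red (y : MonoidAlgebra (ResField M) G) :
    ∃ X : MonoidAlgebra (localRing M) G, redG M G X = y := by
  choose f hf using fun g => H41.res_surjective (M := M) (y.coeff g)
  exact ⟨H40.ofFun f, H40.ext_coeff fun g => by simp [redG, hf]⟩

/-- An idempotent of trace one makes the trace multiplicative on its corner. -/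
theorem trace_corner {V : Type*} [AddCommGroup V] [Module ℂ V] [FiniteDimensional ℂ V]
    {P : Module.End ℂ V} (hP : P * P = P) (h1 : LinearMap.trace ℂ V P = 1)
    (X Y : Module.End ℂ V) :
    LinearMap.trace ℂ V (P * X * P * (P * Y * P)) =
      LinearMap.trace ℂ V (P * X * P) * LinearMap.trace ℂ V (P * Y * P) := by
  have hproj : LinearMap.IsProj (LinearMap.range P) P := ⟨fun x => LinearMap.mem_range_self P x,
    fun x hx => by
      obtain ⟨y, rfl⟩ := hx
      exact LinearMap.congr_fun hP y⟩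
  have hfr : Module.finrank ℂ (LinearMap.range P) = 1 := by
    have h := hproj.trace
    rw [h1] at h
    exact_mod_cast h.symm
  obtain ⟨w, -, hw⟩ := (finrank_eq_one_iff' (K := ℂ)).1 hfr
  have key : ∀ Z : Module.End ℂ V, ∃ r : ℂ, P * Z * P = r • P := by
    intro Z
    obtain ⟨r, hr⟩ := hw ⟨P (Z w), LinearMap.mem_range_self P _⟩
    refine ⟨r, LinearMap.ext fun v => ?_⟩
    obtain ⟨s, hs⟩ := hw ⟨P v, LinearMap.mem_range_self P _⟩
    have hr' := congrArg Subtype.val hr
    have hs' := congrArg Subtype.val hs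
    simp only [SetLike.val_smul] at hr' hs'
    simp only [Module.End.mul_apply, LinearMap.smul_apply]
    rw [← hs', map_smul, map_smul, ← hr', smul_comm]
  obtain ⟨r, hr⟩ := key X
  obtain ⟨s, hs⟩ := key Y
  simp only [hr, hs, smul_mul_smul_comm, hP, map_smul, h1, smul_eq_mul, mul_one]

/-- A trace-one idempotent of the local group algebra makes a character multiplicative. -/
theorem trAt_corner (χ : IrrCharacter G) {E : MonoidAlgebra (localRing M) G} (hE : E * E = E)
    (h1 : trAt 1 (χ : G → ℂ) E = 1) (a b : MonoidAlgebra (localRing M) G) :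
    trAt 1 (χ : G → ℂ) (E * a * E * (E * b * E)) =
      trAt 1 (χ : G → ℂ) (E * a * E) * trAt 1 (χ : G → ℂ) (E * b * E) := by
  obtain ⟨n, ρ, hρ⟩ := H26.irr_isCharacter χ
  let A : MonoidAlgebra (localRing M) G →+* Module.End ℂ (Fin n → ℂ) :=
    (MonoidAlgebra.lift ℂ (Module.End ℂ (Fin n → ℂ)) G ρ).toRingHom.comp
      (MonoidAlgebra.mapRingHom G (localRing M).subtype)
  have hA : ∀ x, trAt 1 (χ : G → ℂ) x = LinearMap.trace ℂ _ (A x) := by
    intro x
    conv_rhs => rw [H40.eq_sum_single x, map_sum, map_sum]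
    refine Finset.sum_congr rfl fun g _ => ?_
    have : A (MonoidAlgebra.single g (x.coeff g)) = (x.coeff g : ℂ) • ρ g := by
      simp [A]
    rw [this, map_smul, smul_eq_mul, mul_one, ← hρ]
    rfl
  rw [hA] at h1
  simp only [hA, map_mul]
  exact trace_corner (by rw [← map_mul, hE]) h1 (A a) (A b)

/-- The trace functions of the members of a block on the local group algebra. -/
noncomputable def tau (B : Set (IrrCharacter G)) :
    MonoidAlgebra (localRing M) G →ₗ[localRing M] (blockFinset B → localRing M) where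
  toFun a χ := ⟨trAt 1 (χ.1 : G → ℂ) a, trAt_mem χ.1 a⟩
  map_add' a b := funext fun χ => Subtype.ext (H40.trAt_add _ _ _ _)
  map_smul' r a := funext fun χ => Subtype.ext (trAt_smul _ _ _)

theorem ker_res_le_jacobson :
    RingHom.ker (res M) ≤ Ideal.jacobson (⊥ : Ideal (localRing M)) := fun x hx =>
  Ideal.mem_jacobson_bot.2 fun y => H41.isUnit_iff_res_ne_zero.2 (by
    rw [map_add, map_mul, RingHom.mem_ker.1 hx, zero_mul, zero_add, map_one]
    exact one_ne_zero)

section Setting

variable [IsAlgClosed (ResField M)] [CharP (ResField M) p]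
  [FiniteDimensional (ResField M) (MonoidAlgebra (ResField M) G)]
  [Fintype (Point (MonoidAlgebra (ResField M) G))]
  (hM : Cfsg.IsPModular p M) {B : Set (IrrCharacter G)} (hB : Cfsg.IsPBlock M B)

include hM hB in
/-- When a block has one point with unit decomposition numbers, every vector of values of the
block is taken on the corner of an idempotent of rank one. -/
theorem exists_corner {c : Pt M G} (hpts : pts hM B = {c}) (hdec : ∀ χ ∈ B, dec hM χ c = 1) :
    ∃ E : MonoidAlgebra (localRing M) G, E * E = E ∧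
      (∀ χ ∈ B, trAt (M := M) 1 (χ : G → ℂ) E = 1) ∧
      ∀ a : MonoidAlgebra (localRing M) G, ∃ a' : MonoidAlgebra (localRing M) G, ∀ χ ∈ B,
        trAt (M := M) 1 (χ : G → ℂ) (E * a' * E) = trAt (M := M) 1 (χ : G → ℂ) a := by
  obtain ⟨E₀, hE₀, hE₀c⟩ := exists_lift c.out.2.idem
  set E := E₀ * bElem hB with hEdef
  have hE : E * E = E := by
    rw [hEdef, mul_assoc, ← mul_assoc (bElem hB) E₀, ← bElem_comm hB E₀,
      mul_assoc E₀ (bElem hB) (bElem hB), bElem_mul_self hB, ← mul_assoc, hE₀]
  have hEtr : ∀ χ : IrrCharacter G, trAt 1 (χ : G → ℂ) E = if χ ∈ B then 1 else 0 := by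
    intro χ
    rw [hEdef, trAt_mul_bElem]
    split_ifs with h
    · rw [← trBar_red hM hE₀, hE₀c, dec_spec hM, hdec χ h, Nat.cast_one]
    · rfl
  obtain ⟨χ₁, hχ₁⟩ := H41.IsPBlock.nonempty hB
  have hEc : redG M G E = c.out.1 := by
    have hcomm : c.out.1 * redG M G (bElem hB) = redG M G (bElem hB) * c.out.1 := by
      rw [← hE₀c, ← map_mul, ← map_mul, bElem_comm]
    have hin : H22.AlgPoints.InCorner c.out.1 (redG M G E) := by
      rw [hEdef, map_mul, hE₀c]
      refine ⟨by rw [← mul_assoc, c.out.2.idem], ?_⟩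
      rw [mul_assoc, ← hcomm, ← mul_assoc, c.out.2.idem]
    refine (c.out.2.prim _ (by rw [← map_mul, hE]) hin).resolve_left fun h => ?_
    have h1 := trBar_red hM (χ := χ₁) hE
    rw [h, H40.trBar_zero hM orderOf_one_eq (H40.isLocTrace_irr χ₁), hEtr, if_pos hχ₁] at h1
    exact zero_ne_one h1
  refine ⟨E, hE, fun χ hχ => by rw [hEtr, if_pos hχ], ?_⟩
  let Φ : MonoidAlgebra (localRing M) G →ₗ[localRing M] MonoidAlgebra (localRing M) G :=
    LinearMap.mulLeft (localRing M) E ∘ₗ LinearMap.mulRight (localRing M) E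
  set N := LinearMap.range ((tau B).comp Φ) with hN
  have hΦ : ∀ y, tau B (y * E) = (tau B).comp Φ y := by
    intro y
    funext χ
    apply Subtype.ext
    show trAt 1 (χ.1 : G → ℂ) (y * E) = trAt 1 (χ.1 : G → ℂ) (E * (y * E))
    rw [trAt_comm χ.1 E, mul_assoc, hE]
  set eB := redG M G (bElem hB) with heBdef
  have heB : eB * eB = eB := by rw [heBdef, ← map_mul, bElem_mul_self]
  have hP : ∀ f : MonoidAlgebra (ResField M) G, f * f = f → f * eB = f →
      ∃ W, redG M G W = f ∧ ∀ a, tau B (a * W) ∈ N := by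
    intro f hf
    refine H22.AlgPoints.idem_induction (ResField M) (P := fun f => f * eB = f →
      ∃ W, redG M G W = f ∧ ∀ a, tau B (a * W) ∈ N) ?_ ?_ ?_ hf
    · exact fun _ => ⟨0, map_zero _, fun a => by rw [mul_zero, map_zero]; exact zero_mem _⟩
    · intro f g hff hgg hfg hgf ihf ihg h
      have hf' : f * (f + g) = f := by rw [mul_add, hff, hfg, add_zero]
      have hg' : g * (f + g) = g := by rw [mul_add, hgg, hgf, zero_add]
      obtain ⟨W, hW, hWN⟩ := ihf (by rw [← hf', mul_assoc, h, hf'])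
      obtain ⟨W', hW', hWN'⟩ := ihg (by rw [← hg', mul_assoc, h, hg'])
      exact ⟨W + W', by rw [map_add, hW, hW'], fun a => by
        rw [mul_add, map_add]; exact add_mem (hWN a) (hWN' a)⟩
    · intro j hj hje
      obtain ⟨F, hF, hFj⟩ := exists_lift hj.idem
      set c' := pointOf hj with hc'
      obtain ⟨x, y, hxy, hyx⟩ := (H22.AlgPoints.pointOf_eq_iff c'.out.2 hj).1 c'.out_eq
      have htr : ∀ χ : IrrCharacter G, trBar (M := M) (1 : G) (χ : G → ℂ) j = dec hM χ c' := by
        intro χ
        rw [← dec_spec hM χ c']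
        refine ((congrArg (trBar (M := M) (1 : G) (χ : G → ℂ)) hyx).symm.trans
          (H40.trBar_equiv hM orderOf_one_eq (H40.isLocTrace_irr χ) (H41.BrauerChar.supp_one x)
            (H41.BrauerChar.supp_one y)
            ?_ ?_).symm).trans (congrArg (trBar (M := M) (1 : G) (χ : G → ℂ)) hxy)
        · rw [hxy]; exact c'.out.2.idem
        · rw [hyx]; exact hj.idem
      have hcc : c' = c := by
        by_contra hne
        have hz : ∀ χ : IrrCharacter G, dec hM χ c' = 0 := by
          intro χ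
          by_cases hχ : χ ∈ B
          · exact dec_eq_zero_of_notMem_pts hM hχ (by rw [hpts]; simpa using hne)
          · have hFb : F * bElem hB * (F * bElem hB) = F * bElem hB := by
              rw [mul_assoc, ← mul_assoc (bElem hB) F, ← bElem_comm hB F,
                mul_assoc F (bElem hB) (bElem hB), bElem_mul_self hB, ← mul_assoc, hF]
            have h := trBar_red hM (χ := χ) hFb
            rw [map_mul, hFj, ← heBdef, hje, htr, trAt_mul_bElem, if_neg hχ] at h
            exact_mod_cast h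
        have h := linv_spec hM c' c'
        simp [hz] at h
      rw [hcc] at hxy
      obtain ⟨X, hX⟩ := exists_red y
      obtain ⟨Y, hY⟩ := exists_red x
      refine ⟨X * E * Y, ?_, fun a => ⟨Y * (a * X), ?_⟩⟩
      · rw [map_mul, map_mul, hX, hY, hEc, ← hxy, ← mul_assoc, hyx, mul_assoc, hyx, hj.idem]
      · rw [← hΦ]
        funext χ
        apply Subtype.ext
        show trAt 1 (χ.1 : G → ℂ) (Y * (a * X) * E) = trAt 1 (χ.1 : G → ℂ) (a * (X * E * Y))
        rw [mul_assoc Y (a * X) E, trAt_comm χ.1 Y, ← mul_assoc a (X * E) Y, mul_assoc a X E]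
  obtain ⟨W, hW, hWN⟩ := hP eB heB heB
  have hb : ∀ a, tau B (a * bElem hB) = tau B a := by
    intro a
    funext χ
    apply Subtype.ext
    show trAt 1 (χ.1 : G → ℂ) (a * bElem hB) = trAt 1 (χ.1 : G → ℂ) a
    rw [trAt_mul_bElem, if_pos (mem_blockFinset.1 χ.2)]
  have hle : LinearMap.range (tau (M := M) B) ≤ N := by
    haveI : Module.Finite (localRing M) (MonoidAlgebra (localRing M) G) :=
      Module.Finite.equiv (MonoidAlgebra.coeffLinearEquiv (localRing M)).symm
    refine Submodule.le_of_le_smul_of_le_jacobson_bot ?_ (ker_res_le_jacobson (M := M)) ?_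
    · rw [LinearMap.range_eq_map]
      exact Module.Finite.fg_top.map _
    rintro _ ⟨a, rfl⟩
    rw [← hb a, ← sub_add_cancel (bElem hB) W, mul_add, map_add]
    refine add_mem (Submodule.mem_sup_right ?_) (Submodule.mem_sup_left (hWN a))
    set D := bElem hB - W with hD
    have hD0 : ∀ g, D.coeff g ∈ RingHom.ker (res M) := by
      intro g
      have h := congrArg (fun f : MonoidAlgebra (ResField M) G => f.coeff g)
        (show redG M G D = 0 by rw [hD, map_sub, hW, sub_self])
      simpa [redG] using h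
    rw [H40.eq_sum_single D, Finset.mul_sum, map_sum]
    refine Submodule.sum_mem _ fun g _ => ?_
    rw [show MonoidAlgebra.single g (D.coeff g) =
      D.coeff g • MonoidAlgebra.single g (1 : localRing M) by simp, mul_smul_comm, map_smul]
    exact Submodule.smul_mem_smul (hD0 g) (LinearMap.mem_range_self _ _)
  intro a
  obtain ⟨a', ha'⟩ := hle (LinearMap.mem_range_self (tau B) a)
  refine ⟨a', fun χ hχ => ?_⟩
  have h := congrArg Subtype.val (congrFun ha' ⟨χ, mem_blockFinset.2 hχ⟩)
  rw [mul_assoc]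
  exact h

include hM hB in
/-- The kernel of a block of equal degrees and heights zero is divisible by the order of a defect
group. -/
theorem kernel_mem_aux (h0 : ∀ χ ∈ B, Cfsg.blockHeight p B (χ : G → ℂ) = 0) {d₀ : ℕ}
    (hd : ∀ χ ∈ B, Cfsg.charDegree (χ : G → ℂ) = d₀) (g t : G) :
    (∑ χ ∈ blockFinset B, (χ : G → ℂ) g * (χ : G → ℂ) t) / (p : ℂ) ^ Cfsg.blockDefect p B ∈
      localRing M := by
  obtain ⟨c, hpts, -, hdec, -⟩ := equal_degree hM hB h0 hd
  obtain ⟨E, hE, hE1, hsur⟩ := exists_corner hM hB hpts hdec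
  obtain ⟨a, ha⟩ := hsur (MonoidAlgebra.single g 1)
  obtain ⟨b, hb⟩ := hsur (MonoidAlgebra.single t 1)
  set w := E * a * E * (E * b * E) with hw
  have hterm : ∀ χ ∈ blockFinset B, (χ : G → ℂ) g * (χ : G → ℂ) t = trAt 1 (χ : G → ℂ) w := by
    intro χ hχ
    rw [mem_blockFinset] at hχ
    rw [hw, trAt_corner χ hE (hE1 χ hχ), ha χ hχ, hb χ hχ, trAt_of, trAt_of]
  obtain ⟨ξ, hξ⟩ := H41.IsPBlock.nonempty hB
  have hd0 : 0 < d₀ := hd ξ hξ ▸ H42.charDegree_pos ξ
  set v := d₀.factorization p with hv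
  set u := d₀ / p ^ v with hu
  set D := Cfsg.blockDefect p B with hDdef
  set m := Nat.card G / p ^ (Nat.card G).factorization p with hm
  have hva : v + D = (Nat.card G).factorization p := by
    have h := (H42.blockHeight_eq_zero_iff (p := p) hB hξ).1 (h0 ξ hξ)
    rwa [hd ξ hξ] at h
  have hdu : (d₀ : ℂ) = (p : ℂ) ^ v * (u : ℂ) := by
    exact_mod_cast (Nat.ordProj_mul_ordCompl_eq_self d₀ p).symm
  have hGm : (Nat.card G : ℂ) = (p : ℂ) ^ v * (p : ℂ) ^ D * (m : ℂ) := by
    rw [← pow_add, hva]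
    exact_mod_cast (Nat.ordProj_mul_ordCompl_eq_self (Nat.card G) p).symm
  have hu0 : ¬ p ∣ u := Nat.not_dvd_ordCompl hp.out hd0.ne'
  have hu1 : (u : ℂ) ≠ 0 := Nat.cast_ne_zero.2 fun e => hu0 (e ▸ dvd_zero _)
  have hp0 : (p : ℂ) ≠ 0 := Nat.cast_ne_zero.2 hp.out.ne_zero
  have key : ∀ x : G, (∑ χ ∈ blockFinset B, (χ : G → ℂ) x) / (p : ℂ) ^ D =
      (m : ℂ) * (u : ℂ)⁻¹ * Cfsg.blockCoeff B x⁻¹ := by
    intro x
    have h1 : ∀ χ ∈ blockFinset B, (χ : G → ℂ) 1 * conj ((χ : G → ℂ) x⁻¹) =
        (d₀ : ℂ) * (χ : G → ℂ) x := fun χ hχ => by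
      rw [H42.irr_one_eq, hd χ (mem_blockFinset.1 hχ), ← H26.irr_inv, inv_inv]
    rw [H40.blockCoeff_eq_sum, show ∑ χ ∈ Finset.univ.filter (· ∈ B),
      (χ : G → ℂ) 1 * conj ((χ : G → ℂ) x⁻¹) = ∑ χ ∈ blockFinset B, (d₀ : ℂ) * (χ : G → ℂ) x from
        Finset.sum_congr (by ext; simp) h1, ← Finset.mul_sum, hdu, hGm]
    have hm0 : (m : ℂ) ≠ 0 := Nat.cast_ne_zero.2 fun e => by
      rw [e, Nat.cast_zero, mul_zero] at hGm
      exact Nat.card_pos.ne' (by exact_mod_cast hGm)
    field_simp
  rw [Finset.sum_congr rfl hterm]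
  simp only [trAt, mul_one]
  rw [Finset.sum_comm, Finset.sum_div]
  refine sum_mem fun x _ => ?_
  rw [← Finset.mul_sum, mul_div_assoc, key x]
  exact mul_mem (SetLike.coe_mem _) (mul_mem (mul_mem (natCast_mem _ _) (H41.IsPModular.inv_natCast_mem hM hu0))
    (H41.blockCoeff_mem hB _))

end Setting

/-- The kernel of a block of equal degrees and heights zero is divisible by the order of a defect
group. -/
theorem kernel_mem (hM : Cfsg.IsPModular p M) {B : Set (IrrCharacter G)}
    (hB : Cfsg.IsPBlock M B) (h0 : ∀ χ ∈ B, Cfsg.blockHeight p B (χ : G → ℂ) = 0) {d₀ : ℕ}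
    (hd : ∀ χ ∈ B, Cfsg.charDegree (χ : G → ℂ) = d₀) (g t : G) :
    (∑ χ ∈ blockFinset B, (χ : G → ℂ) g * (χ : G → ℂ) t) / (p : ℂ) ^ Cfsg.blockDefect p B ∈
      localRing M := by
  haveI := Cfsg.Agent.H41.IsPModular.charP hM
  haveI := H43.D1.isAlgClosed_resField M
  haveI : FiniteDimensional (ResField M) (MonoidAlgebra (ResField M) G) :=
    Module.Finite.equiv (MonoidAlgebra.coeffLinearEquiv (ResField M)).symm
  haveI := H22.AlgPoints.finite_point (ResField M) (B := MonoidAlgebra (ResField M) G)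
  haveI := Fintype.ofFinite (Point (MonoidAlgebra (ResField M) G))
  exact kernel_mem_aux hM hB h0 hd g t

/-- The number of members of a block of equal degrees and heights zero. -/
theorem card_eq (hM : Cfsg.IsPModular p M) {B : Set (IrrCharacter G)}
    (hB : Cfsg.IsPBlock M B) (h0 : ∀ χ ∈ B, Cfsg.blockHeight p B (χ : G → ℂ) = 0) {d₀ : ℕ}
    (hd : ∀ χ ∈ B, Cfsg.charDegree (χ : G → ℂ) = d₀) :
    Nat.card B = p ^ Cfsg.blockDefect p B := by
  haveI := Cfsg.Agent.H41.IsPModular.charP hM
  haveI := H43.D1.isAlgClosed_resField M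
  haveI : FiniteDimensional (ResField M) (MonoidAlgebra (ResField M) G) :=
    Module.Finite.equiv (MonoidAlgebra.coeffLinearEquiv (ResField M)).symm
  haveI := H22.AlgPoints.finite_point (ResField M) (B := MonoidAlgebra (ResField M) G)
  haveI := Fintype.ofFinite (Point (MonoidAlgebra (ResField M) G))
  obtain ⟨-, -, -, -, h⟩ := equal_degree hM hB h0 hd
  exact h

end Cfsg.Agent.H22.EqDeg
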