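import Cfsg.Agent.H22.EqDegLocal
import Cfsg.Agent.H56.SubsectionContrib

/-!
# Blocks of centralisers below a block of equal degrees and heights zero

Such a block, if it has the same defect as the block it induces, has rank one.
-/

set_option autoImplicit false
set_option linter.unusedSectionVars false

namespace Cfsg.Agent.H22.EqDeg

open Cfsg (IrrCharacter)
open Cfsg.Agent.H41 (localRing)
open Cfsg.Agent.H42 (blockFinset mem_blockFinset)
open Cfsg.Agent.H56.Subsec (CZ theta bpart mem' mem_mem')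
open scoped ComplexConjugate Classical

universe u

variable {G : Type u} [Group G] [Fintype G] {p : ℕ} [hp : Fact p.Prime] {M : Ideal Cfsg.AlgInt}
  [M.IsMaximal]

theorem conj_blockCoeff_mem {B : Set (IrrCharacter G)} (hB : Cfsg.IsPBlock M B) (k : G) :
    conj (Cfsg.blockCoeff B k) ∈ localRing M := by
  have h : conj (Cfsg.blockCoeff B k) = Cfsg.blockCoeff B k⁻¹ := by
    rw [H40.blockCoeff_eq_sum, H40.blockCoeff_eq_sum, map_mul, map_inv₀, map_natCast, map_sum]
    refine congrArg _ (Finset.sum_congr rfl fun χ _ => ?_)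
    rw [map_mul, H26.irr_inv, H42.irr_one_eq, map_natCast]
  exact h ▸ H41.blockCoeff_mem hB _

/-- A block of the centraliser of a `p`-element with the defect of the block it induces has rank
one when the kernel of the induced block is divisible by the order of its defect groups. -/
theorem blockRank_centralizer (hM : Cfsg.IsPModular p M) {B : Set (IrrCharacter G)}
    (hB : Cfsg.IsPBlock M B) (hK : ∀ g t : G,
      (∑ χ ∈ blockFinset B, (χ : G → ℂ) g * (χ : G → ℂ) t) / (p : ℂ) ^ Cfsg.blockDefect p B ∈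
        localRing M) {u : G} (hu : ∃ k : ℕ, orderOf u = p ^ k)
    {b : Set (IrrCharacter (CZ u))} (hind : Cfsg.IsInducedBlock M (CZ u) b B)
    (hd : Cfsg.blockDefect p b = Cfsg.blockDefect p B) : Cfsg.blockRank p b = 1 := by
  refine blockRank_eq_one hM hind.1 fun g t hg ht => ?_
  have hcl : ∀ χ : IrrCharacter G, Cfsg.IsClassFunction (CZ u) (theta u χ) := fun χ => by
    rw [H56.Subsec.theta_eq]
    intro x y
    simp only [Finset.sum_apply, Pi.smul_apply, smul_eq_mul, H26.irr_conj]
  have hbp : ∀ (χ : IrrCharacter G) (x : CZ u), ¬ p ∣ orderOf x →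
      bpart p u b χ x = ∑ k : CZ u, Cfsg.blockCoeff b k * theta u χ (k * x) := fun χ x hx => by
    rw [bpart, ← H32.pRegularPart_blockPart]
    simp only [Cfsg.pRegularPart, Cfsg.IsPRegular, hx, not_false_eq_true, if_true]
    exact H40.blockPart_eq_sum b (hcl χ) x
  have hkey : ∑ φ ∈ blockFinset b, (φ : CZ u → ℂ) g * (φ : CZ u → ℂ) t =
      ∑ χ ∈ mem' B, bpart p u b χ g * conj (bpart p u b χ t⁻¹) := by
    rw [H56.Subsec.sum_bpart_mul hM hu hind g t⁻¹, H32.projKernel, Matrix.of_apply,
      if_pos (show Cfsg.IsPRegular p g from hg), ← mul_assoc,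
      mul_inv_cancel₀ (Nat.cast_ne_zero.2 Nat.card_pos.ne'), one_mul]
    refine Finset.sum_congr (by ext; simp) fun φ _ => ?_
    rw [H26.irr_inv, Complex.conj_conj]
  rw [hd, hkey]
  have hexp : ∀ χ : IrrCharacter G, bpart p u b χ g * conj (bpart p u b χ t⁻¹) =
      ∑ k : CZ u, ∑ l : CZ u, (Cfsg.blockCoeff b k * conj (Cfsg.blockCoeff b l)) *
        ((χ : G → ℂ) (u * ((k * g : CZ u) : G)) *
          (χ : G → ℂ) (u * ((l * t⁻¹ : CZ u) : G))⁻¹) := by
    intro χ
    rw [hbp χ g hg, hbp χ t⁻¹ (by rwa [orderOf_inv]), map_sum, Finset.sum_mul_sum]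
    refine Finset.sum_congr rfl fun k _ => Finset.sum_congr rfl fun l _ => ?_
    rw [map_mul, H26.irr_inv]
    simp only [theta]
    ring
  rw [Finset.sum_congr rfl fun χ _ => hexp χ, Finset.sum_comm, Finset.sum_div]
  refine sum_mem fun k _ => ?_
  rw [Finset.sum_comm, Finset.sum_div]
  refine sum_mem fun l _ => ?_
  rw [← Finset.mul_sum, mul_div_assoc]
  refine mul_mem (mul_mem (H41.blockCoeff_mem hind.1 _) (conj_blockCoeff_mem hind.1 _)) ?_
  rw [show mem' B = blockFinset B by ext; simp [mem_mem']]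
  exact hK _ _

/-- The same for the centraliser of the element. -/
theorem blockRank_subsection (hM : Cfsg.IsPModular p M) {B : Set (IrrCharacter G)}
    (hB : Cfsg.IsPBlock M B) (hK : ∀ g t : G,
      (∑ χ ∈ blockFinset B, (χ : G → ℂ) g * (χ : G → ℂ) t) / (p : ℂ) ^ Cfsg.blockDefect p B ∈
        localRing M) {u : G} (hu : ∃ k : ℕ, orderOf u = p ^ k)
    {L : Subgroup G} (hL : L = CZ u) {b : Set (IrrCharacter L)}
    (hind : Cfsg.IsInducedBlock M L b B)
    (hd : Cfsg.blockDefect p b = Cfsg.blockDefect p B) : Cfsg.blockRank p b = 1 := by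
  subst hL
  exact blockRank_centralizer hM hB hK hu hind hd

end Cfsg.Agent.H22.EqDeg
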