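import Cfsg.Agent.H94.Prod.Contains
import Cfsg.Agent.H35.ProdLift
import Cfsg.Agent.H93.FamilyClimb

/-!
A saturated system over `R` between `E` and `F` with hyperfocal subgroup in `T`, whose automorphisms of order prime
to `p` of subgroups of `T` lie in `E`, contains the generators of the product.
-/

set_option autoImplicit false
set_option linter.unusedSectionVars false

namespace Cfsg.Agent.H22.ProdClosed

open Cfsg Cfsg.FusionSystem
open Cfsg.Agent.H93 (Mor)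
open Cfsg.Agent.H94.Meet (TCentric exists_conjAut)
open Cfsg.Agent.H24.Balance

variable {Ω : Type*} [Group Ω] {S T R : Subgroup Ω} {F : FusionSystem S} {E : FusionSystem T} {p : ℕ}
  [Finite S] [Fact p.Prime]

/-- A map of a subsystem is a map of the ambient system. -/
theorem mor_of_sub {X : FusionSystem R} (h : X.IsSubsystemOf F) {P P' : Subgroup Ω} {f : Ω → Ω}
    (hf : Mor X P P' f) : Mor F P P' f := by
  obtain ⟨φ, hφ, hr, hv⟩ := hf
  exact ⟨φ, h _ hφ, hr, hv⟩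

/-- Good automorphisms of a subgroup whose part in `T` is fully normalized centric lie in the system. -/
theorem mem_of_good (hS : IsPGroup p S) (hE : E.IsNormalIn F p) (hTR : T ≤ R) (hRS : R ≤ S)
    {X : FusionSystem R} (hXs : X.IsSaturated p) (hXF : X.IsSubsystemOf F) (hEX : E.IsSubsystemOf X)
    (hhyp : X.hyperfocalSubgroup p ≤ T) {U W : Subgroup Ω} (hU : U ≤ R) (hUW : U ⊓ T = W)
    (hUN : U ≤ normalizerIn R W) (hW : X.IsFullyNormalized W) (hc : TCentric F T W)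
    {a : MulAut U} (ha : GoodAut p F E U a) : a ∈ X.autGroup U := by
  have hI := hE.1.2.2
  have hT := hI.2.1
  have hUS : U ≤ S := hU.trans hRS
  have hWT : W ≤ T := hc.1
  have hWR : W ≤ R := hWT.trans hTR
  have hWU : W ≤ U := hUW ▸ inf_le_left
  have := H96.finite_of_le hRS
  have := H96.finite_of_le hUS
  have hcU : TCentric F T (U ⊓ T) := hUW.symm ▸ hc
  obtain ⟨haF, hac, hin⟩ := H35.ProdLift.goodAut_centric hcU ha
  have hap := ha.coprime
  obtain ⟨fW, hfW, hfWe⟩ := hin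
  rw [hUW] at hfW
  have hfW' : ∀ x : W, fW x = ((a ⟨x, hWU x.2⟩ : U) : Ω) := fun x => hfWe ⟨x, hWU x.2⟩ (hWT x.2)
  have hfWX : Mor X W W fW := by
    obtain ⟨φ, hφ, hr, hv⟩ := id hfW
    exact ⟨φ, hEX _ hφ, hr, hv⟩
  obtain ⟨aW, haW, haWe⟩ := hfWX.exists_aut
  have haWp : (orderOf aW).Coprime p :=
    coprime_of_intertwine (f := fun x : ↥W => (⟨x, hWU x.2⟩ : U))
      (fun x y e => Subtype.ext (congrArg (fun z : U => (z : Ω)) e))
      (fun x => Subtype.ext (((haWe x).trans (hfW' x)).symm)) hap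
  -- extension to the join with the centralizer
  have hrec := (H94.fullyNormalized_spec (hS.to_le hRS) hXs hW).2
  obtain ⟨M, hM⟩ : ∃ M, M = U ⊔ centralizerIn R W := ⟨_, rfl⟩
  have hUM : U ≤ M := hM ▸ le_sup_left
  have hCM : centralizerIn R W ≤ M := hM ▸ le_sup_right
  have hMR : M ≤ R := hM ▸ sup_le hU inf_le_left
  have hWM : W ≤ M := hWU.trans hUM
  have hMN : M ≤ normalizerIn R W :=
    hM ▸ sup_le hUN (le_inf inf_le_left (inf_le_right.trans (Subgroup.centralizer_le_normalizer _)))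
  have key : ∀ m ∈ M, ∃ t ∈ M, ∀ x ∈ W, fW (m * x * m⁻¹) = t * fW x * t⁻¹ := by
    let K : Subgroup Ω :=
      { carrier := {m | m ∈ normalizerIn R W ∧ ∃ t ∈ M, ∀ x ∈ W, fW (m * x * m⁻¹) = t * fW x * t⁻¹}
        one_mem' := ⟨one_mem _, 1, M.one_mem, fun x _ => by simp⟩
        mul_mem' := by
          rintro m₁ m₂ ⟨hm₁, t₁, ht₁, h₁⟩ ⟨hm₂, t₂, ht₂, h₂⟩
          refine ⟨mul_mem hm₁ hm₂, t₁ * t₂, M.mul_mem ht₁ ht₂, fun x hx => ?_⟩
          rw [show m₁ * m₂ * x * (m₁ * m₂)⁻¹ = m₁ * (m₂ * x * m₂⁻¹) * m₁⁻¹ by group,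
            h₁ _ (H93.mem_normalizerIn_conj hm₂ hx), h₂ x hx]
          group
        inv_mem' := by
          rintro m ⟨hm, t, ht, h⟩
          refine ⟨inv_mem hm, t⁻¹, M.inv_mem ht, fun x hx => ?_⟩
          have h' := h _ (H93.mem_normalizerIn_conj (inv_mem hm) hx)
          rw [show m * (m⁻¹ * x * m⁻¹⁻¹) * m⁻¹ = x by group] at h'
          rw [h']
          group }
    have hle : M ≤ K := by
      intro m hm
      rw [hM] at hm
      refine sup_le (a := U) (b := centralizerIn R W) (fun u hu => ?_) (fun c hc => ?_) hm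
      · refine ⟨hUN hu, ((a ⟨u, hu⟩ : U) : Ω), hUM (a _).2, fun x hx => ?_⟩
        have hux := H93.mem_normalizerIn_conj (hUN hu) hx
        rw [hfW' ⟨_, hux⟩, hfW' ⟨x, hx⟩,
          show (⟨u * x * u⁻¹, hWU hux⟩ : U) = ⟨u, hu⟩ * ⟨x, hWU hx⟩ * ⟨u, hu⟩⁻¹ from rfl,
          map_mul, map_mul, map_inv]
        rfl
      · refine ⟨hMN (hCM hc), 1, M.one_mem, fun x hx => ?_⟩
        rw [(H93.mem_centralizerIn.1 hc).2 x hx]
        simp
    exact fun m hm => (hle hm).2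
  obtain ⟨f, M', hf, hfv, -⟩ := hfWX.extend (M := M) hrec fun m hm =>
    ⟨hMN hm, by obtain ⟨t, ht, h⟩ := key m hm; exact ⟨t, hMR ht, h⟩⟩
  rw [sup_eq_right.2 hWM] at hf
  have hfM : ∀ m ∈ M, f m ∈ M := by
    intro m hm
    obtain ⟨t, ht, h⟩ := key m hm
    have : t⁻¹ * f m ∈ centralizerIn R W := by
      refine H93.mem_centralizerIn.2 ⟨R.mul_mem (R.inv_mem (hMR ht)) (hf.le_right (hf.map_mem hm)), fun y hy => ?_⟩
      obtain ⟨x, hx, rfl⟩ := hfW.surj hy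
      have h1 := hf.map_conj hm (hWM hx)
      rw [hfv _ (H93.mem_normalizerIn_conj (hMN hm) hx), h x hx, hfv x hx] at h1
      calc t⁻¹ * f m * fW x * (t⁻¹ * f m)⁻¹ = t⁻¹ * (f m * fW x * (f m)⁻¹) * t := by group
        _ = fW x := by rw [← h1]; group
    have := M.mul_mem ht (hCM this)
    rwa [mul_inv_cancel_left] at this
  have := H96.finite_of_le hMR
  obtain rfl : M' = M := Subgroup.eq_of_le_of_card_ge (fun y hy => by
    obtain ⟨x, hx, rfl⟩ := hf.surj hy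
    exact hfM x hx) hf.card_eq.le
  obtain ⟨b₀, hb₀, hb₀e⟩ := hf.exists_aut
  have : Finite (MulAut M') := Finite.of_injective (fun e : MulAut M' => (e : _ → _)) DFunLike.coe_injective
  obtain ⟨m, hbp, hbW⟩ := H24.Meet.exists_coprime_pow (p := p) (fun x : ↥W => (⟨x, hWM x.2⟩ : M'))
    (a := aW) (b := b₀) (fun x => Subtype.ext ((hb₀e _).trans ((hfv x x.2).trans (haWe x).symm))) haWp
  obtain ⟨b, hbdef⟩ : ∃ b, b = b₀ ^ m := ⟨_, rfl⟩
  rw [← hbdef] at hbp hbW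
  have hbX : b ∈ X.autGroup M' := hbdef ▸ pow_mem hb₀ m
  have hbc : CongT T M' b := fun x => hhyp (H94.inv_mul_apply_mem_hyperfocal hMR
    ⟨⟨b, hbX⟩, Subgroup.subset_closure (by rw [Set.mem_ofPred_eq, ← Subgroup.orderOf_coe]; exact hbp), rfl⟩ x)
  obtain ⟨g, hg, hge⟩ := H93.exists_mor_of_aut hMR hbX
  have hgW : ∀ x : W, g x = ((a ⟨x, hWU x.2⟩ : U) : Ω) := fun x =>
    (hge ⟨x, hWM x.2⟩).trans ((congrArg Subtype.val (hbW x)).trans ((haWe x).trans (hfW' x)))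
  -- it stabilizes `U`
  have hgU : ∀ z ∈ U, g z ∈ U := by
    intro z hz
    have hd : ((a ⟨z, hz⟩ : U) : Ω)⁻¹ * g z ∈ W := by
      refine hc.2 _ (H93.isConj_refl F (hWR.trans hRS)) (H93.mem_centralizerIn.2 ⟨?_, fun q hq => ?_⟩)
      · refine cong_trans (cong_symm (hac ⟨z, hz⟩)) ?_
        rw [hge ⟨z, hUM hz⟩]
        exact hbc ⟨z, hUM hz⟩
      · obtain ⟨w, hw, rfl⟩ := hfW.surj hq
        have hzw : z * w * z⁻¹ ∈ W := H93.mem_normalizerIn_conj (hUN hz) hw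
        have h1 := hg.map_conj (hUM hz) (hWM hw)
        rw [hgW ⟨w, hw⟩, hgW ⟨_, hzw⟩,
          show (⟨z * w * z⁻¹, hWU hzw⟩ : U) = ⟨z, hz⟩ * ⟨w, hWU hw⟩ * ⟨z, hz⟩⁻¹ from rfl,
          map_mul, map_mul, map_inv, Subgroup.coe_mul, Subgroup.coe_mul, Subgroup.coe_inv, ← hfW' ⟨w, hw⟩] at h1
        calc ((a ⟨z, hz⟩ : U) : Ω)⁻¹ * g z * fW w * (((a ⟨z, hz⟩ : U) : Ω)⁻¹ * g z)⁻¹
            = ((a ⟨z, hz⟩ : U) : Ω)⁻¹ * (g z * fW w * (g z)⁻¹) * ((a ⟨z, hz⟩ : U) : Ω) := by group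
          _ = fW w := by rw [← h1]; group
    have := U.mul_mem (a ⟨z, hz⟩).2 (hWU hd)
    rwa [mul_inv_cancel_left] at this
  obtain ⟨U', -, hgUm⟩ := hg.restrict hUM
  obtain rfl : U' = U := Subgroup.eq_of_le_of_card_ge (fun y hy => by
    obtain ⟨x, hx, rfl⟩ := hgUm.surj hy
    exact hgU x hx) hgUm.card_eq.le
  obtain ⟨a', ha', ha'e⟩ := hgUm.exists_aut
  have ha'F : a' ∈ F.autGroup U' := (H96.mem_autGroup F hUS).2 (hXF _ ((H96.mem_autGroup X hU).1 ha'))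
  have ha'c : CongT T U' a' := fun x => by
    rw [ha'e, hge ⟨x, hUM x.2⟩]
    exact hbc ⟨x, hUM x.2⟩
  have ha'p : (orderOf a').Coprime p :=
    coprime_of_intertwine (f := fun x : U' => (⟨x, hUM x.2⟩ : M'))
      (fun x y e => Subtype.ext (congrArg (fun z : M' => (z : Ω)) e))
      (fun x => Subtype.ext ((hge _).symm.trans (ha'e x).symm)) hbp
  have hagree : ∀ x : U', (x : Ω) ∈ W → a x = a' x := fun x hx =>
    Subtype.ext (((ha'e x).trans (hgW ⟨x, hx⟩)).symm)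
  have ha'E : InE E U' a' := by
    refine ⟨fW, by rwa [hUW], fun x hx => ?_⟩
    have hxW : (x : Ω) ∈ W := hUW ▸ ⟨x.2, hx⟩
    rw [hfW' ⟨x, hxW⟩, ← hagree x hxW]
  obtain ⟨z, hzW, -, hza⟩ := H35.ProdLift.good_eq_conj hS hE hc hUW.ge
    (fun x hx => ⟨hUS hx, (hUN hx).2⟩) hcU ha (GoodAut.base hcU ha'F hUS ha'c ha'p ha'E) hagree
  -- the given one differs by an inner automorphism
  obtain ⟨c, hcc, hce⟩ := (H93.mor_conj X hU (H93.le_normalizerIn hU (hWU hzW))).exists_aut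
  have : a = a' * c := MulEquiv.ext fun x => by
    rw [MulAut.mul_apply]
    exact hza x _ (hce x)
  exact this ▸ mul_mem ha' hcc

/-- The system contains the generators of the product. -/
theorem closed_of_residual (hS : IsPGroup p S) (hE : E.IsNormalIn F p) (hTR : T ≤ R) (hRS : R ≤ S)
    {X : FusionSystem R} (hXs : X.IsSaturated p) (hXF : X.IsSubsystemOf F) (hEX : E.IsSubsystemOf X)
    (hhyp : X.hyperfocalSubgroup p ≤ T)
    (_hres : ∀ W : Subgroup Ω, W ≤ T → ∀ a ∈ X.autGroup W, (orderOf a).Coprime p → a ∈ E.autGroup W) :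
    H94.Prod.Closed p F E X := by
  rintro U a ⟨hU, hc, ha⟩
  have hI := hE.1.2.2
  have hT := hI.2.1
  have hTX : X.StronglyClosed T := ⟨hTR, fun Q hQ ψ hψ x => hT.2 Q hQ ψ (hXF Q hψ) x⟩
  have hUS : U ≤ S := hU.trans hRS
  have hWS : U ⊓ T ≤ S := inf_le_left.trans hUS
  have := H96.finite_of_le hRS
  have := H96.finite_of_le hWS
  have hRp : IsPGroup p R := hS.to_le hRS
  obtain ⟨W₁, hW₁, hW₁n⟩ := H93.exists_isFullyNormalized X (inf_le_left.trans hU : U ⊓ T ≤ R)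
  obtain ⟨hA, hrec⟩ := H94.fullyNormalized_spec hRp hXs hW₁n
  obtain ⟨φ, M, hφ, hM, hφW⟩ := H93.exists_mor_normalizer hRp hA hrec hW₁
  have hUN : U ≤ normalizerIn R (U ⊓ T) := fun x hx =>
    ⟨hU hx, H94.mem_normalizer_of_forall_conj_mem fun y hy =>
      ⟨U.mul_mem (U.mul_mem hx hy.1) (U.inv_mem hx), H93.StronglyClosed.conj_mem hT (hUS hx) hy.2⟩⟩
  obtain ⟨U₁, hU₁M, hφU⟩ := hφ.restrict hUN
  have hU₁T : U₁ ⊓ T = W₁ := Core.eq_of_mor (F := X) (mor_inf hTX hφU) hφW fun _ _ => rfl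
  have hφF : Mor F U U₁ φ := mor_of_sub hXF hφU
  obtain ⟨a₁, ha₁⟩ := exists_conjAut hφF a
  have hg₁ : GoodAut p F E U₁ a₁ := ha.conj hI hφF ha₁
  have hc₁ : TCentric F T W₁ := hc.of_mor hT (mor_of_sub hXF hφW)
  have hU₁R : U₁ ≤ R := hφU.le_right
  have ha₁X : a₁ ∈ X.autGroup U₁ := mem_of_good hS hE hTR hRS hXs hXF hEX hhyp hU₁R hU₁T
    (hU₁M.trans hM) hW₁n hc₁ hg₁
  -- back to `U`
  obtain ⟨φi, hφi, hφi1, -⟩ := hφU.exists_inv
  obtain ⟨f₁, hf₁, hf₁e⟩ := H93.exists_mor_of_aut hU₁R ha₁X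
  have hm : Mor X U U (fun x => φi (f₁ (φ x))) := hφi.comp (hf₁.comp hφU)
  obtain ⟨a', ha', ha'e⟩ := hm.exists_aut
  have : a = a' := MulEquiv.ext fun x => Subtype.ext (by
    rw [ha'e]
    show _ = φi (f₁ (φ x))
    rw [show f₁ (φ x) = _ from hf₁e ⟨φ x, hφU.map_mem x.2⟩, ← ha₁ x, hφi1 _ (a x).2])
  exact (H96.mem_autGroup X hU).1 (this ▸ ha')

end Cfsg.Agent.H22.ProdClosed
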