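import Cfsg.Agent.H94.PPowerIndex
import Cfsg.Agent.H93.NormalCongruence
import Cfsg.Agent.H24.Balance.Basic
import Cfsg.Prelude.Def_FusionComponents

/-!
The residual subsystem of `p`-power index of a normal subsystem is normal in the ambient system.
-/

set_option autoImplicit false
set_option linter.unusedSectionVars false

namespace Cfsg.Agent.H22.ResidualNormalIn

open Cfsg Cfsg.FusionSystem
open Cfsg.Agent.H93 (Mor)
open Cfsg.Agent.H94.Meet (hull le_hull centralizerIn_le_hull hull_le TCentric)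
open Cfsg.Agent.H24.Balance (CongT congT_of_coprime)
open Cfsg.Agent.H96 (res res_mem mem_autGroup mem_congr exists_autGroup_of_mem)

variable {Ω : Type*} [Group Ω] {S T : Subgroup Ω} [Finite S] {F : FusionSystem S} {p : ℕ} [Fact p.Prime]
  {E : FusionSystem T}

/-- An element of a join with a normalizing subgroup is a product. -/
theorem exists_mul_of_mem_sup {A B : Subgroup Ω} (h : B ≤ Subgroup.normalizer (A : Set Ω)) {x : Ω}
    (hx : x ∈ A ⊔ B) : ∃ a ∈ A, ∃ b ∈ B, a * b = x :=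
  Set.mem_mul.1 ((Subgroup.coe_mul_of_right_le_normalizer_left A B h).le hx)

omit [Finite S] in
theorem centralizerIn_le_normalizer (W A : Subgroup Ω) :
    centralizerIn W A ≤ Subgroup.normalizer (A : Set Ω) :=
  inf_le_right.trans (Subgroup.centralizer_le_normalizer _)

/-- A subgroup mapped onto itself by every map is fully normalized. -/
theorem isFullyNormalized_of_range_eq {P : Subgroup Ω} (hP : P ≤ S)
    (h : ∀ φ ∈ F.Hom P, φ.range = P) : F.IsFullyNormalized P :=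
  ⟨hP, fun R hR => by obtain ⟨φ, hφ, rfl⟩ := hR; rw [h φ hφ]⟩

/-- The hull of a subgroup mapped onto itself by every map is mapped onto itself by every map. -/
theorem hull_range_eq {W X : Subgroup Ω} (hW : W ≤ S) (hWc : F.StronglyClosed W) (hX : X ≤ W)
    (h : ∀ φ ∈ F.Hom X, ∀ x : X, φ x ∈ X) {φ : ↥(hull W X) →* Ω} (hφ : φ ∈ F.Hom (hull W X))
    (y : hull W X) : φ y ∈ hull W X := by
  have hXS := hX.trans hW
  have := H96.finite_of_le hXS
  have h1 : ∀ (x : Ω) (hx : x ∈ X), φ ⟨x, le_hull W X hx⟩ ∈ X := fun x hx =>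
    h _ (res_mem F hφ (le_hull W X)) ⟨x, hx⟩
  have h2 : ∀ u ∈ X, ∃ (x : Ω) (hx : x ∈ X), φ ⟨x, le_hull W X hx⟩ = u := fun u hu => by
    have hr := H96.range_eq_of_forall_mem F (res_mem F hφ (le_hull W X)) fun x => h1 x x.2
    obtain ⟨x, hx⟩ := hr.ge hu
    exact ⟨x, x.2, hx⟩
  obtain ⟨a, ha, c, hc, hac⟩ := exists_mul_of_mem_sup (centralizerIn_le_normalizer W X) y.2
  rw [show y = ⟨a, le_hull W X ha⟩ * ⟨c, centralizerIn_le_hull W X hc⟩ from Subtype.ext hac.symm, map_mul]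
  refine Subgroup.mul_mem _ (le_hull W X (h1 a ha)) (centralizerIn_le_hull W X ⟨?_, ?_⟩)
  · exact H94.apply_mem_of_stronglyClosed hWc hφ (x := ⟨c, centralizerIn_le_hull W X hc⟩) hc.1
  · refine Subgroup.mem_centralizer_iff.2 fun u hu => ?_
    obtain ⟨x, hx, rfl⟩ := h2 u hu
    rw [← map_mul, ← map_mul]
    exact congrArg φ (Subtype.ext (Subgroup.mem_centralizer_iff.1 hc.2 x hx))

/-- The image of `U` under an automorphism of `T` in the system. -/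
theorem exists_transport (hI : E.IsInvariantIn F) {β : MulAut T} (hβ : β ∈ F.autGroup T)
    {U : Subgroup Ω} (hU : U ≤ T) :
    ∃ (V : Subgroup Ω) (hV : V ≤ T) (e : U ≃* V), (∀ x : U, (e x : Ω) = ((β ⟨x, hU x.2⟩ : T) : Ω)) ∧
      V = (U.subgroupOf T).map (T.subtype.comp β.toMonoidHom) ∧
      ∀ a ∈ E.autGroup U, MulAut.congr e a ∈ E.autGroup V := by
  have hTS := hI.2.1.1
  have hfF : res (T.subtype.comp β.toMonoidHom) hU ∈ F.Hom U :=
    res_mem F ((mem_autGroup F hTS).1 hβ) hU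
  set V := (res (T.subtype.comp β.toMonoidHom) hU).range
  have hV : V ≤ T := by rintro _ ⟨x, rfl⟩; exact (β _).2
  have hVeq : V = (U.subgroupOf T).map (T.subtype.comp β.toMonoidHom) :=
    (H96.map_subgroupOf_eq_range _ hU).symm
  set e : U ≃* V := H94.homEquiv (res (T.subtype.comp β.toMonoidHom) hU) (F.injective_of_mem hfF) rfl
  refine ⟨V, hV, e, fun x => rfl, hVeq, fun a ha => ?_⟩
  obtain ⟨χ, hχ, hχe⟩ := hI.2.2.1 U hU _ ((mem_autGroup E hU).1 ha) β hβ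
  refine (mem_autGroup E hV).2 (H93.mem_of_eq hχ hVeq fun y hy hy' => ?_)
  obtain ⟨x, hx⟩ := e.surjective ⟨y, hy⟩
  have hxy : ((β ⟨x, hU x.2⟩ : T) : Ω) = y := congrArg Subtype.val hx
  have h1 := hχe x (hU (a x).2) (hxy.symm ▸ hy')
  show ((MulAut.congr e a ⟨y, hy⟩ : V) : Ω) = χ ⟨y, hy'⟩
  rw [← hx, show MulAut.congr e a (e x) = e (a x) by simp [MulAut.congr]]
  exact h1.symm.trans (congrArg χ (Subtype.ext hxy))

/-- Automorphisms of `T` in the system preserve the hyperfocal subgroup of the subsystem. -/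
theorem apply_mem_hyperfocal (hI : E.IsInvariantIn F) {β : MulAut T} (hβ : β ∈ F.autGroup T)
    (x : T) (hx : (x : Ω) ∈ E.hyperfocalSubgroup p) : ((β x : T) : Ω) ∈ E.hyperfocalSubgroup p := by
  let K : Subgroup Ω := (((E.hyperfocalSubgroup p).subgroupOf T).comap β.toMonoidHom).map T.subtype
  suffices h : E.hyperfocalSubgroup p ≤ K by
    obtain ⟨z, hz, hzx⟩ := h hx
    rw [Subtype.ext hzx] at hz
    exact hz
  refine (Subgroup.closure_le _).2 ?_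
  rintro _ ⟨P, α, z, hP, hα, rfl⟩
  obtain ⟨V, hV, e, he, -, hgen⟩ := exists_transport hI hβ hP
  let c : E.autGroup P →* E.autGroup V :=
    ((MulAut.congr e).toMonoidHom.comp (E.autGroup P).subtype).codRestrict _ fun a => hgen a a.2
  refine ⟨(⟨z, hP z.2⟩ : T)⁻¹ * ⟨((α : MulAut P) z : P), hP (Subtype.mem _)⟩, ?_, rfl⟩
  show ((β ((⟨z, hP z.2⟩ : T)⁻¹ * ⟨((α : MulAut P) z : P), hP (Subtype.mem _)⟩) : T) : Ω) ∈
    E.hyperfocalSubgroup p
  refine Subgroup.subset_closure ⟨V, c α, e z, hV, H50.map_pResidual_le p c ⟨α, hα, rfl⟩, ?_⟩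
  rw [map_mul, map_inv, Subgroup.coe_mul, Subgroup.coe_inv,
    show ((c α : MulAut V) (e z)) = e ((α : MulAut P) z) by simp [c, MulAut.congr], he, he]

/-- The residual subsystem is stable under automorphisms of `T` in the system. -/
theorem exists_transport_residual (hS : IsPGroup p S) (hE : E.IsNormalIn F p)
    {T₀ : Subgroup Ω} {E₁ : FusionSystem T₀} (hT₀T : T₀ ≤ T) (h₁ : E₁.IsSaturated p ∧ E₁.HasPPowerIndexIn E p)
    {β : MulAut T} (hβ : β ∈ F.autGroup T)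
    (hinv : ∀ x : T, (x : Ω) ∈ T₀ → ((β x : T) : Ω) ∈ T₀) {P : Subgroup Ω} {φ : P →* Ω} (hφ : φ ∈ E₁.Hom P) :
    ∀ (hP : P ≤ T) (hφT : ∀ x, φ x ∈ T),
      ∃ χ ∈ E₁.Hom ((P.subgroupOf T).map (T.subtype.comp β.toMonoidHom)),
        ∀ (x : P) (hx : ((β ⟨x, hP x.2⟩ : T) : Ω) ∈ (P.subgroupOf T).map (T.subtype.comp β.toMonoidHom)),
          χ ⟨_, hx⟩ = ((β ⟨φ x, hφT x⟩ : T) : Ω) := by
  have hI := hE.1.2.2
  have hTS := hI.2.1.1
  have := H96.finite_of_le hTS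
  have := H96.finite_of_le hT₀T
  have hT₀p : IsPGroup p T₀ := hS.to_le (hT₀T.trans hTS)
  refine H94.alperin_induction hT₀p h₁.1 (fun P φ => ∀ (hP : P ≤ T) (hφT : ∀ x, φ x ∈ T),
      ∃ χ ∈ E₁.Hom ((P.subgroupOf T).map (T.subtype.comp β.toMonoidHom)),
        ∀ (x : P) (hx : ((β ⟨x, hP x.2⟩ : T) : Ω) ∈ (P.subgroupOf T).map (T.subtype.comp β.toMonoidHom)),
          χ ⟨_, hx⟩ = ((β ⟨φ x, hφT x⟩ : T) : Ω)) ?_ ?_ ?_ hφ
  · intro P R h φ hφ hC hR hφT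
    obtain ⟨χ, hχ, hχe⟩ := hC ((E₁.le_of_mem hφ).1.trans hT₀T) fun x => hT₀T ((E₁.le_of_mem hφ).2 x)
    have hle : (R.subgroupOf T).map (T.subtype.comp β.toMonoidHom) ≤
        (P.subgroupOf T).map (T.subtype.comp β.toMonoidHom) := by
      rintro _ ⟨x, hx, rfl⟩; exact ⟨x, h hx, rfl⟩
    exact ⟨res χ hle, res_mem E₁ hχ hle, fun x hx => hχe ⟨x, h x.2⟩ (hle hx)⟩
  · intro P Q φ ψ hφ hψ h1 h2 hh hP hφT
    have hQ : Q ≤ T := (E₁.le_of_mem hψ).1.trans hT₀T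
    obtain ⟨χ, hχ, hχe⟩ := h1 hP fun x => hT₀T ((E₁.le_of_mem hφ).2 x)
    obtain ⟨η, hη, hηe⟩ := h2 hQ fun x => hT₀T ((E₁.le_of_mem hψ).2 x)
    have hval : ∀ y, χ y ∈ (Q.subgroupOf T).map (T.subtype.comp β.toMonoidHom) := by
      rintro ⟨_, x, hx, rfl⟩
      exact (hχe ⟨x, hx⟩ ⟨x, hx, rfl⟩).symm ▸ ⟨⟨φ ⟨x, hx⟩, hQ (hh _)⟩, hh _, rfl⟩
    obtain ⟨ζ, hζ, hζe⟩ := H96.exists_comp E₁ hχ hη hval
    refine ⟨ζ, hζ, fun x hx => ?_⟩
    rw [hζe]
    refine Eq.trans ?_ (hηe ⟨φ x, hh x⟩ ⟨⟨φ x, hQ (hh x)⟩, hh x, rfl⟩)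
    exact congrArg η (Subtype.ext (hχe x hx))
  · intro U hU _ _ a ha hP hφT
    obtain ⟨hA, -⟩ := H94.fullyNormalized_spec hT₀p h₁.1 hU
    obtain ⟨k, hk, b, hb, rfl⟩ := H94.exists_pResidual_mul_of_fullyAutomized hA ha
    obtain ⟨t, ht, hte⟩ := H96.mem_autInducedBy.1 hb
    obtain ⟨V, hV, e, he, hVeq, hgen⟩ := exists_transport hI hβ (hU.1.trans hT₀T)
    have hV₀ : V ≤ T₀ := by
      intro y hy
      obtain ⟨x, hx⟩ := e.surjective ⟨y, hy⟩
      rw [show y = (e x : Ω) from (congrArg Subtype.val hx).symm, he]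
      exact hinv _ (hU.1 x.2)
    have hle : E₁.autGroup U ≤ E.autGroup U := fun c hc =>
      (mem_autGroup E (hU.1.trans hT₀T)).2 (h₁.2.1 U ((mem_autGroup E₁ hU.1).1 hc))
    let c : E₁.autGroup U →* E.autGroup V :=
      ((MulAut.congr e).toMonoidHom.comp (E₁.autGroup U).subtype).codRestrict _ fun a => hgen a (hle a.2)
    obtain ⟨κ, hκ, rfl⟩ := hk
    have g1 : MulAut.congr e (κ : MulAut U) ∈ E₁.autGroup V :=
      h₁.2.2.2 V hV₀ ⟨c κ, H50.map_pResidual_le p c ⟨κ, hκ, rfl⟩, rfl⟩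
    have htT : ((β ⟨t, hT₀T ht⟩ : T) : Ω) ∈ T₀ := hinv _ ht
    have g2 : MulAut.congr e b ∈ E₁.autGroup V :=
      (mem_autGroup E₁ hV₀).2 (mem_congr E₁ (E₁.conj_mem hV₀ htT) fun y => by
        obtain ⟨x, rfl⟩ := e.surjective y
        show ((MulAut.congr e b (e x) : V) : Ω) = _
        rw [show MulAut.congr e b (e x) = e (b x) by simp [MulAut.congr], he]
        show _ = ((β ⟨t, hT₀T ht⟩ : T) : Ω) * (e x : Ω) * ((β ⟨t, hT₀T ht⟩ : T) : Ω)⁻¹
        rw [he]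
        simp only [← Subgroup.coe_mul, ← Subgroup.coe_inv, ← map_mul, ← map_inv]
        exact congrArg (fun w : T => ((β w : T) : Ω)) (Subtype.ext (hte x)))
    have g3 := (mem_autGroup E₁ hV₀).1 (mul_mem g1 g2)
    refine ⟨_, res_mem E₁ g3 hVeq.ge, fun x hx => ?_⟩
    show (((MulAut.congr e (κ : MulAut U) * MulAut.congr e b) _ : V) : Ω) = _
    rw [show (Subgroup.inclusion hVeq.ge ⟨_, hx⟩ : V) = e x from Subtype.ext (he x).symm,
      show (MulAut.congr e (κ : MulAut U) * MulAut.congr e b) (e x) = e ((κ : MulAut U) (b x)) by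
        simp [MulAut.congr, MulAut.mul_apply], he]
    rfl

/-- An automorphism of order prime to `p` of the residual subsystem extends with the congruence property. -/
theorem exists_ext_coprime (hS : IsPGroup p S) (hE : E.IsNormalIn F p)
    {T₀ : Subgroup Ω} {E₁ : FusionSystem T₀} (hT₀T : T₀ ≤ T)
    (hT₀ : F.StronglyClosed T₀) (hN₁ : E₁.IsNormalIn E p)
    {γ : MulAut ↥(T₀)} (hγ : γ ∈ E₁.autGroup (T₀))
    (hord : (orderOf γ).Coprime p) :
    ∃ β ∈ F.autGroup (T₀ ⊔ centralizerIn S (T₀)),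
      (∀ x : T₀, ((β (Subgroup.inclusion le_sup_left x) :
          ↥(T₀ ⊔ centralizerIn S (T₀))) : Ω) = ((γ x :
          T₀) : Ω)) ∧
      ∀ c : ↥(T₀ ⊔ centralizerIn S (T₀)),
        (c : Ω) ∈ centralizerIn S (T₀) →
        (c : Ω)⁻¹ * ((β c : ↥(T₀ ⊔ centralizerIn S (T₀))) : Ω) ∈
          T₀ ⊓ Subgroup.centralizer ((T₀ : Subgroup Ω) : Set Ω) := by
  have hI := hE.1.2.2
  have hF := hE.1.2.1
  have hEs := hE.1.1
  have hT := hI.2.1
  have hTS := hT.1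
  have := H96.finite_of_le hTS
  have hTp := hS.to_le hTS
  have hT₀S := hT₀T.trans hTS
  have := H96.finite_of_le hT₀S
  -- the first step: congruence modulo `T₀` on the hull in `T`
  set Q := T₀ ⊔ centralizerIn T T₀
  have hQT : Q ≤ T := hull_le hT₀T
  have hQS := hQT.trans hTS
  have := H96.finite_of_le hQS
  have : Finite (MulAut ↥Q) := Finite.of_injective (fun e : MulAut ↥Q => (e : _ → _)) DFunLike.coe_injective
  have hT₀Q : T₀ ≤ Q := le_hull T T₀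
  obtain ⟨b₁, hb₁, hb₁e, hb₁c⟩ := hN₁.2 γ hγ
  have hb₁e' : ∀ x : T₀, b₁ (Subgroup.inclusion hT₀Q x) = Subgroup.inclusion hT₀Q (γ x) := fun x =>
    Subtype.ext (hb₁e x)
  obtain ⟨m, hm, hbm⟩ := H24.Meet.exists_coprime_pow (p := p) _ hb₁e' hord
  set b : MulAut Q := b₁ ^ m
  have hb : b ∈ E.autGroup Q := pow_mem hb₁ m
  have hbγ : ∀ x : T₀, ((b (Subgroup.inclusion hT₀Q x) : Q) : Ω) = ((γ x : T₀) : Ω) := fun x =>
    congrArg Subtype.val (hbm x)
  have hcong₁ : CongT T₀ Q b₁ := by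
    intro x
    obtain ⟨t, ht, c, hc, htc⟩ := exists_mul_of_mem_sup (centralizerIn_le_normalizer T T₀) x.2
    have hx : x = Subgroup.inclusion hT₀Q ⟨t, ht⟩ * ⟨c, centralizerIn_le_hull T T₀ hc⟩ :=
      Subtype.ext htc.symm
    have h1 : c⁻¹ * ((t : Ω)⁻¹ * ((γ ⟨t, ht⟩ : T₀) : Ω)) * c⁻¹⁻¹ ∈ T₀ :=
      (Subgroup.mem_normalizer_iff.1 (Subgroup.inv_mem _ (centralizerIn_le_normalizer T T₀ hc)) _).1
        (T₀.mul_mem (T₀.inv_mem ht) (γ ⟨t, ht⟩).2)
    have h2 : c⁻¹ * ((b₁ ⟨c, centralizerIn_le_hull T T₀ hc⟩ : Q) : Ω) ∈ T₀ :=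
      (hb₁c ⟨c, centralizerIn_le_hull T T₀ hc⟩ hc).1
    have h3 := T₀.mul_mem h1 h2
    rw [hx, map_mul, Subgroup.coe_mul, Subgroup.coe_mul, hb₁e', Subgroup.coe_inclusion,
      Subgroup.coe_inclusion]
    convert h3 using 1
    group
  have hcongQ : CongT T₀ Q b := hcong₁.pow m
  -- `Q` is mapped onto itself by every map
  have hQwc : ∀ φ ∈ F.Hom Q, ∀ x : Q, φ x ∈ Q := fun φ hφ x =>
    hull_range_eq hTS hT hT₀T (fun ψ hψ y => H94.apply_mem_of_stronglyClosed hT₀ hψ y.2) hφ x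
  have hQr : ∀ φ ∈ F.Hom Q, φ.range = Q := fun φ hφ =>
    H96.range_eq_of_forall_mem F hφ (hQwc φ hφ)
  have hQcent : ∀ z ∈ centralizerIn T Q, z ∈ Q := fun z hz =>
    centralizerIn_le_hull T T₀ ⟨hz.1, Subgroup.centralizer_le hT₀Q hz.2⟩
  have hQc : E.IsCentric Q := ⟨hQT, fun R hR => by
    obtain ⟨φ, hφ, rfl⟩ := hR
    rw [hQr φ (hI.1 Q hφ)]
    exact hQcent⟩
  have hQfc : F.IsFullyCentralized Q :=
    H93.IsFullyNormalized.isFullyCentralized hS hF (isFullyNormalized_of_range_eq hQS hQr)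
  -- the second step: congruence modulo `T` on the hull of `Q`
  obtain ⟨f, hf, hfb, hfc⟩ := H93.NormalCongruence.congAt_of_autGroup hS hE hQc (Mor.id F hQS) hQfc hb
  set H := hull S Q
  have hHS : H ≤ S := hull_le hQS
  have := H96.finite_of_le hHS
  have : Finite (MulAut ↥H) := Finite.of_injective (fun e : MulAut ↥H => (e : _ → _)) DFunLike.coe_injective
  have hQH : Q ≤ H := le_hull S Q
  obtain ⟨g₀, hg₀, hg₀e⟩ := hf.exists_aut
  have hg₀b : ∀ x : Q, g₀ (Subgroup.inclusion hQH x) = Subgroup.inclusion hQH (b x) := fun x =>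
    Subtype.ext ((hg₀e _).trans (hfb x))
  obtain ⟨m', hm', hgm⟩ := H24.Meet.exists_coprime_pow (p := p) _ hg₀b hm
  set g : MulAut H := g₀ ^ m'
  have hg : g ∈ F.autGroup H := pow_mem hg₀ m'
  have hgb : ∀ x : Q, g (Subgroup.inclusion hQH x) = Subgroup.inclusion hQH (b x) := hgm
  have hgT : CongT T H g := by
    refine CongT.pow ?_ m'
    intro y
    rw [hg₀e]
    exact hfc y y.2
  have hHT : ∀ y ∈ H, y ∈ T → y ∈ Q := by
    intro y hy hyT
    obtain ⟨q, hq, c, hc, rfl⟩ := exists_mul_of_mem_sup (centralizerIn_le_normalizer S Q) hy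
    exact Q.mul_mem hq (hQcent c ⟨(Subgroup.mul_mem_cancel_left T (hQT hq)).1 hyT, hc.2⟩)
  have hgQ : CongT Q H g := fun y => hHT _ (H.mul_mem (H.inv_mem y.2) (g y).2) (hgT y)
  -- `S` normalizes `Q` and `H`
  have hSQ : ∀ s ∈ S, s ∈ normalizerIn S Q := fun s hs =>
    ⟨hs, H94.mem_normalizer_of_forall_conj_mem fun r hr => hQwc _ (F.conj_mem hQS hs) ⟨r, hr⟩⟩
  have hHwc : ∀ φ ∈ F.Hom H, ∀ x : H, φ x ∈ H := fun φ hφ x =>
    hull_range_eq le_rfl (H96.stronglyClosed_top F) hQS hQwc hφ x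
  have hSH : ∀ s ∈ S, s ∈ normalizerIn S H := fun s hs =>
    ⟨hs, H94.mem_normalizer_of_forall_conj_mem fun r hr => hHwc _ (F.conj_mem hHS hs) ⟨r, hr⟩⟩
  -- conjugates by `C_S(T₀)`
  have hkey : ∀ c ∈ centralizerIn S T₀, ∃ z ∈ H, ∀ y y' : H, (y' : Ω) = c * y * c⁻¹ →
      ((g y' : H) : Ω) = z * c * (g y : H) * (z * c)⁻¹ := by
    intro c hc
    obtain ⟨γQ, hγQ, hγQe, hγQi⟩ := H24.Meet.exists_conj_aut F hQS (hSQ c hc.1)
    obtain ⟨γH, hγH, hγHe, hγHi⟩ := H24.Meet.exists_conj_aut F hHS (hSH c hc.1)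
    have hfix : ∀ x : T₀, c * (x : Ω) * c⁻¹ = x := fun x => by
      rw [← Subgroup.mem_centralizer_iff.1 hc.2 x x.2, mul_inv_cancel_right]
    set dQ : MulAut Q := b * (γQ * b⁻¹ * γQ⁻¹)
    have hdQ : dQ ∈ E.autGroup Q :=
      mul_mem hb (H94.autGroup_conj_mem (H94.stronglyInvariant_of_invariant hI) hTS hQT hγQ (inv_mem hb))
    have hdQfix : ∀ y : Q, (y : Ω) ∈ T₀ → dQ y = y := by
      intro y hy
      set x : T₀ := ⟨y, hy⟩
      have e1 : γQ⁻¹ y = y := Subtype.ext (by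
        rw [hγQi]
        conv_lhs => rw [← hfix x]
        simp only [x]
        group)
      have e2 : b⁻¹ y = Subgroup.inclusion hT₀Q (γ⁻¹ x) := by
        show b.symm y = _
        rw [MulEquiv.symm_apply_eq]
        exact Subtype.ext ((hbγ _).trans (congrArg Subtype.val (γ.apply_symm_apply x))).symm
      have e3 : γQ (Subgroup.inclusion hT₀Q (γ⁻¹ x)) = Subgroup.inclusion hT₀Q (γ⁻¹ x) :=
        Subtype.ext ((hγQe _).trans (hfix _))
      show b (γQ (b⁻¹ (γQ⁻¹ y))) = y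
      rw [e1, e2, e3]
      exact Subtype.ext ((hbγ _).trans (congrArg Subtype.val (γ.apply_symm_apply x)))
    have hdQmod : ∀ y : Q, (y : Ω)⁻¹ * ((dQ y : Q) : Ω) ∈ T₀ := by
      refine CongT.mul hcongQ fun y => ?_
      show (y : Ω)⁻¹ * ((γQ (b⁻¹ (γQ⁻¹ y)) : Q) : Ω) ∈ T₀
      have h1 := hcongQ.inv (γQ⁻¹ y)
      have h2 : c * (((γQ⁻¹ y : Q) : Ω)⁻¹ * ((b⁻¹ (γQ⁻¹ y) : Q) : Ω)) * c⁻¹ ∈ T₀ :=
        (Subgroup.mem_normalizer_iff.1 (centralizerIn_le_normalizer S T₀ hc) _).1 h1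
      rw [hγQe]
      rw [hγQi] at h2
      convert h2 using 1
      group
    obtain ⟨e, he, hee⟩ := H24.Meet.stabilizer_eq_conj (S := T) (U := T₀) hTp hEs
      (H93.IsFullyNormalized.isFullyCentralized hTp hEs (isFullyNormalized_of_range_eq hT₀T fun φ hφ =>
        H96.range_eq_of_forall_mem E hφ fun x => H94.apply_mem_of_stronglyClosed hT₀ (hI.1 _ hφ) x.2))
      hdQ hdQfix hdQmod
    have heQ : e ∈ Q := centralizerIn_le_hull T T₀ he
    obtain ⟨εH, hεH, hεHe, hεHi⟩ := H24.Meet.exists_conj_aut F hHS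
      (hSH e (hQS heQ))
    set d : MulAut H := g * (γH * g⁻¹ * γH⁻¹)
    have hd : d ∈ F.autGroup H := mul_mem hg (mul_mem (mul_mem hγH (inv_mem hg)) (inv_mem hγH))
    have hdres : ∀ y : Q, d (Subgroup.inclusion hQH y) = Subgroup.inclusion hQH (dQ y) := by
      intro y
      have e1 : γH⁻¹ (Subgroup.inclusion hQH y) = Subgroup.inclusion hQH (γQ⁻¹ y) :=
        Subtype.ext ((hγHi _).trans (hγQi y).symm)
      have e2 : g⁻¹ (Subgroup.inclusion hQH (γQ⁻¹ y)) = Subgroup.inclusion hQH (b⁻¹ (γQ⁻¹ y)) := by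
        show g.symm _ = _
        rw [MulEquiv.symm_apply_eq, hgb]
        exact congrArg _ (b.apply_symm_apply _).symm
      have e3 : γH (Subgroup.inclusion hQH (b⁻¹ (γQ⁻¹ y))) =
          Subgroup.inclusion hQH (γQ (b⁻¹ (γQ⁻¹ y))) :=
        Subtype.ext ((hγHe _).trans (hγQe _).symm)
      show g (γH (g⁻¹ (γH⁻¹ _))) = _
      rw [e1, e2, e3, hgb]
      rfl
    have hdmod : CongT Q H d := by
      refine CongT.mul hgQ fun y => ?_
      show (y : Ω)⁻¹ * ((γH (g⁻¹ (γH⁻¹ y)) : H) : Ω) ∈ Q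
      have h1 := hgQ.inv (γH⁻¹ y)
      have h2 : c * (((γH⁻¹ y : H) : Ω)⁻¹ * ((g⁻¹ (γH⁻¹ y) : H) : Ω)) * c⁻¹ ∈ Q :=
        (Subgroup.mem_normalizer_iff.1 (hSQ c hc.1).2 _).1 h1
      rw [hγHe]
      rw [hγHi] at h2
      convert h2 using 1
      group
    obtain ⟨e', he', hee'⟩ := H24.Meet.stabilizer_eq_conj hS hF hQfc
      (δ := εH⁻¹ * d) (mul_mem (inv_mem hεH) hd)
      (fun y hy => by
        apply Subtype.ext
        rw [MulAut.mul_apply, hεHi, show y = Subgroup.inclusion hQH ⟨y, hy⟩ from rfl, hdres]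
        rw [Subgroup.coe_inclusion, show ((dQ ⟨y, hy⟩ : ↥Q) : Ω) = e * y * e⁻¹ from hee ⟨y, hy⟩]
        simp only [Subgroup.coe_inclusion]
        group)
      (fun y => by
        rw [MulAut.mul_apply, hεHi]
        have hn : ∀ q ∈ Q, (y : Ω)⁻¹ * q * y ∈ Q := fun q hq => by
          have := (Subgroup.mem_normalizer_iff.1 (Subgroup.inv_mem _ (hSQ y (hHS y.2)).2) q).1 hq
          rwa [inv_inv] at this
        have h1 := Q.mul_mem (Q.mul_mem (hn e⁻¹ (Q.inv_mem heQ)) (hdmod y)) heQ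
        convert h1 using 1
        group)
    refine ⟨e * e', H.mul_mem (hQH heQ) (centralizerIn_le_hull S Q he'), fun y y' hy => ?_⟩
    have ey : y' = γH y := Subtype.ext (hy.trans (hγHe y).symm)
    have ed : g y' = εH ((εH⁻¹ * d) (γH (g y))) := by
      rw [MulAut.mul_apply, MulAut.apply_inv_self]
      show _ = g (γH (g⁻¹ (γH⁻¹ (γH (g y)))))
      rw [MulAut.inv_apply_self, MulAut.inv_apply_self, ey]
    rw [ed, hεHe, hee', hγHe]
    group
  -- extension to `U`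
  set U := T₀ ⊔ centralizerIn S T₀
  have hUS : U ≤ S := sup_le hT₀S inf_le_left
  have := H96.finite_of_le hUS
  have : Finite (MulAut ↥U) := Finite.of_injective (fun e : MulAut ↥U => (e : _ → _)) DFunLike.coe_injective
  have hT₀U : T₀ ≤ U := le_sup_left
  have hCU : centralizerIn S T₀ ≤ U := le_sup_right
  have hQU : Q ≤ U := sup_le hT₀U fun z hz => hCU ⟨hTS hz.1, hz.2⟩
  have hHU : H ≤ U := sup_le hQU fun z hz => hCU ⟨hz.1, Subgroup.centralizer_le hT₀Q hz.2⟩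
  have hUE : U ≤ extender S H (H.subtype.comp g.toMonoidHom) := by
    refine sup_le ((hT₀Q.trans hQH).trans (H94.le_extender_aut hHS g)) fun c hc => ?_
    obtain ⟨z, hz, hze⟩ := hkey c hc
    exact H96.mem_extender.2 ⟨hc.1, (hSH c hc.1).2, z * c, S.mul_mem (hHS hz) hc.1,
      fun x hx => hze x ⟨_, hx⟩ rfl⟩
  have hgF : H.subtype.comp g.toMonoidHom ∈ F.Hom H := (mem_autGroup F hHS).1 hg
  obtain ⟨ψ, hψ, hψe⟩ := (H24.Meet.hull_isReceptive hS hF hQfc).2 H _ hgF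
    (H96.range_eq_of_forall_mem F hgF fun x => (g x).2)
  have hUwc : ∀ φ ∈ F.Hom U, ∀ x : U, φ x ∈ U := fun φ hφ x =>
    hull_range_eq le_rfl (H96.stronglyClosed_top F) hT₀S
      (fun ψ hψ y => H94.apply_mem_of_stronglyClosed hT₀ hψ y.2) hφ x
  obtain ⟨a₀, ha₀, ha₀e⟩ := exists_autGroup_of_mem F (res_mem F hψ hUE) (hUwc _ (res_mem F hψ hUE))
  have ha₀g : ∀ y : H, a₀ (Subgroup.inclusion hHU y) = Subgroup.inclusion hHU (g y) := fun y =>
    Subtype.ext ((ha₀e _).trans (hψe y y.2 _))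
  obtain ⟨m'', hm'', ham⟩ := H24.Meet.exists_coprime_pow (p := p) _ ha₀g hm'
  set a : MulAut U := a₀ ^ m''
  have ha : a ∈ F.autGroup U := pow_mem ha₀ m''
  have hag : ∀ y : H, ((a (Subgroup.inclusion hHU y) : U) : Ω) = ((g y : H) : Ω) := fun y =>
    congrArg Subtype.val (ham y)
  have haγ : ∀ x : T₀, ((a (Subgroup.inclusion hT₀U x) : U) : Ω) = ((γ x : T₀) : Ω) := fun x => by
    refine (hag (Subgroup.inclusion (hT₀Q.trans hQH) x)).trans ?_
    refine (congrArg Subtype.val (hgb (Subgroup.inclusion hT₀Q x))).trans ?_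
    exact hbγ x
  -- displacement in `H`
  have hdisp : ∀ x : U, (x : Ω)⁻¹ * ((a x : U) : Ω) ∈ H := by
    intro x
    obtain ⟨t, ht, c, hc, htc⟩ := exists_mul_of_mem_sup (centralizerIn_le_normalizer S T₀) x.2
    obtain ⟨z, hz, hze⟩ := hkey c hc
    have hx : x = Subgroup.inclusion hT₀U ⟨t, ht⟩ * ⟨c, hCU hc⟩ := Subtype.ext htc.symm
    set u : Ω := ((a ⟨c, hCU hc⟩ : U) : Ω)
    have hk : (z * c)⁻¹ * u ∈ centralizerIn S Q := by
      refine ⟨S.mul_mem (S.inv_mem (S.mul_mem (hHS hz) hc.1)) (hUS (a _).2),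
        Subgroup.mem_centralizer_iff.2 fun q hq => ?_⟩
      obtain ⟨y, hy⟩ := g.surjective ⟨q, hQH hq⟩
      have hcy : c * (y : Ω) * c⁻¹ ∈ H := (Subgroup.mem_normalizer_iff.1 (hSH c hc.1).2 _).1 y.2
      have h1 := hze y ⟨_, hcy⟩ rfl
      have h2 : ((g ⟨_, hcy⟩ : H) : Ω) = u * ((g y : H) : Ω) * u⁻¹ := by
        rw [← hag, ← hag, show Subgroup.inclusion hHU ⟨_, hcy⟩ =
          ⟨c, hCU hc⟩ * Subgroup.inclusion hHU y * (⟨c, hCU hc⟩ : U)⁻¹ from rfl, map_mul, map_mul, map_inv]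
        rfl
      have hq' : ((g y : H) : Ω) = q := congrArg Subtype.val hy
      rw [h2, hq'] at h1
      calc q * ((z * c)⁻¹ * u) = (z * c)⁻¹ * (z * c * q * (z * c)⁻¹) * u := by group
        _ = (z * c)⁻¹ * (u * q * u⁻¹) * u := by rw [h1]
        _ = (z * c)⁻¹ * u * q := by group
    have hn : ∀ w ∈ H, c⁻¹ * w * c ∈ H := fun w hw => by
      have := (Subgroup.mem_normalizer_iff.1 (Subgroup.inv_mem _ (hSH c hc.1).2) w).1 hw
      rwa [inv_inv] at this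
    have h3 := H.mul_mem (hn _ ((hT₀Q.trans hQH) (T₀.mul_mem (T₀.inv_mem ht) (γ ⟨t, ht⟩).2)))
      (H.mul_mem (hn z hz) (centralizerIn_le_hull S Q hk))
    rw [hx, map_mul, Subgroup.coe_mul, Subgroup.coe_mul, haγ, Subgroup.coe_inclusion]
    convert h3 using 1
    simp only [u]
    group
  have hUT : ∀ x ∈ U, x ∈ Subgroup.normalizer (T : Set Ω) := fun x hx =>
    H94.le_normalizer_of_stronglyClosed hT (hUS hx)
  have haF := (mem_autGroup F hUS).1 ha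
  have hcongT : CongT T U a := by
    refine congT_of_coprime hS hUS hHU hm'' (fun x hx => ?_)
      (fun x => ⟨_, hdisp x, 1, T.one_mem, (mul_one _).symm⟩) hUT
      (fun x hx => H94.apply_mem_of_stronglyClosed hT haF hx)
    rw [show x = Subgroup.inclusion hHU ⟨x, hx⟩ from rfl, hag]
    exact hgT ⟨x, hx⟩
  have hUTQ : ∀ w ∈ U, w ∈ T → w ∈ Q := fun w hw hwT => by
    obtain ⟨t, ht, c, hc, rfl⟩ := exists_mul_of_mem_sup (centralizerIn_le_normalizer S T₀) hw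
    exact Q.mul_mem (hT₀Q ht)
      (centralizerIn_le_hull T T₀ ⟨(Subgroup.mul_mem_cancel_left T (hT₀T ht)).1 hwT, hc.2⟩)
  have hcong₀ : CongT T₀ U a := by
    refine congT_of_coprime hS hUS hQU hm'' (fun x hx => ?_)
      (fun x => ⟨_, hUTQ _ (U.mul_mem (U.inv_mem x.2) (a x).2) (hcongT x), 1, T₀.one_mem, (mul_one _).symm⟩)
      (fun x hx => H94.le_normalizer_of_stronglyClosed hT₀ (hUS hx))
      (fun x hx => H94.apply_mem_of_stronglyClosed hT₀ haF hx)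
    rw [show x = Subgroup.inclusion hHU (Subgroup.inclusion hQH ⟨x, hx⟩) from rfl, hag, hgb]
    exact hcongQ ⟨x, hx⟩
  refine ⟨a, ha, haγ, fun c hc => ⟨hcong₀ c, Subgroup.mul_mem _ (Subgroup.inv_mem _ hc.2) ?_⟩⟩
  refine Subgroup.mem_centralizer_iff.2 fun t ht => ?_
  have h1 := haγ (γ⁻¹ ⟨t, ht⟩)
  rw [MulAut.apply_inv_self] at h1
  rw [show t = _ from h1.symm, ← Subgroup.coe_mul, ← Subgroup.coe_mul, ← map_mul, ← map_mul]
  exact congrArg (fun w : U => ((a w : U) : Ω))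
    (Subtype.ext (Subgroup.mem_centralizer_iff.1 hc.2 _ (γ⁻¹ ⟨t, ht⟩).2))

end Cfsg.Agent.H22.ResidualNormalIn

namespace Cfsg.Agent.H22

open Cfsg Cfsg.FusionSystem Cfsg.Agent.H22.ResidualNormalIn
open Cfsg.Agent.H96 (res res_mem mem_autGroup mem_congr exists_autGroup_of_mem)

/-- The residual subsystem of `p`-power index of a normal subsystem is normal in the ambient system. -/
theorem residual_isNormalIn_aux {Ω : Type*} [Group Ω] {S T : Subgroup Ω} [Finite S] {p : ℕ} [Fact p.Prime]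
    {F : FusionSystem S} (hS : IsPGroup p S) {E : FusionSystem T} (hE : E.IsNormalIn F p)
    {T₀ : Subgroup Ω} {E₁ : FusionSystem T₀} (h₀ : T₀ = E.hyperfocalSubgroup p)
    (h₁ : E₁.IsSaturated p ∧ E₁.HasPPowerIndexIn E p) : E₁.IsNormalIn F p := by
  have hI := hE.1.2.2
  have hF := hE.1.2.1
  have hEs := hE.1.1
  have hTS := hI.2.1.1
  have := H96.finite_of_le hTS
  have hTp := hS.to_le hTS
  have hinv : ∀ β ∈ F.autGroup T, ∀ x : T, (x : Ω) ∈ T₀ → ((β x : T) : Ω) ∈ T₀ := by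
    subst h₀
    exact fun β hβ => apply_mem_hyperfocal hI hβ
  have hT₀T : T₀ ≤ T := h₀.le.trans (H94.hyperfocal_le E p)
  have hT₀S := hT₀T.trans hTS
  have := H96.finite_of_le hT₀S
  have hn : ∀ s ∈ T, ∀ t ∈ T₀, s * t * s⁻¹ ∈ T₀ := by
    subst h₀
    exact fun s hs t ht => H94.conj_mem_hyperfocal hs ht
  have hT₀E : E.StronglyClosed T₀ := H94.stronglyClosed_of_hyperfocal_le hTp hEs hT₀T hn h₀.ge
  have hT₀F : F.StronglyClosed T₀ := by
    refine ⟨hT₀S, fun R hR φ hφ x => ?_⟩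
    obtain ⟨β, hβ, φ₀, hφ₀, he⟩ := hI.2.2.2 R (hR.trans hT₀T) φ hφ
    rw [he x ((E.le_of_mem hφ₀).2 x)]
    exact hinv β hβ _ (hT₀E.2 R hR φ₀ hφ₀ x)
  have hN₁ : E₁.IsNormalIn E p := H94.pPowerIndex_isNormalIn hTp hEs hT₀T hn h₁.1 h₁.2
  have hsub : E₁.IsSubsystemOf F := fun P φ hφ => hI.1 P (h₁.2.1 P hφ)
  refine ⟨⟨h₁.1, hF, hsub, hT₀F, fun P hP φ hφ α hα => ?_, fun P hP φ hφ => ?_⟩, fun α hα => ?_⟩
  · -- invariance
    obtain ⟨β, hβ, φ₀, hφ₀, he⟩ := hI.2.2.2 T₀ hT₀T _ ((mem_autGroup F hT₀S).1 hα)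
    have hφ₀T₀ : ∀ x, φ₀ x ∈ T₀ := fun x => hT₀E.2 T₀ le_rfl φ₀ hφ₀ x
    obtain ⟨α₀, hα₀, hα₀e⟩ := exists_autGroup_of_mem E hφ₀ hφ₀T₀
    have hαe : ∀ x : T₀, ((α x : T₀) : Ω) =
        ((β ⟨((α₀ x : T₀) : Ω), hT₀T (α₀ x).2⟩ : T) : Ω) := fun x => by
      refine (he x (hT₀T (hφ₀T₀ x))).trans (congrArg (fun w : T => ((β w : T) : Ω)) ?_)
      exact Subtype.ext (hα₀e x).symm
    obtain ⟨χ₀, hχ₀, hχ₀e⟩ := hN₁.1.2.2.2.2.1 P hP φ hφ α₀ hα₀
    obtain ⟨χ, hχ, hχe⟩ := exists_transport_residual hS hE hT₀T h₁ hβ (hinv β hβ) hχ₀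
      ((E₁.le_of_mem hχ₀).1.trans hT₀T) fun x => hT₀T ((E₁.le_of_mem hχ₀).2 x)
    have heq : (P.subgroupOf T₀).map (T₀.subtype.comp α.toMonoidHom) =
        (((P.subgroupOf T₀).map (T₀.subtype.comp α₀.toMonoidHom)).subgroupOf T).map
          (T.subtype.comp β.toMonoidHom) := by
      ext y
      constructor
      · rintro ⟨x, hx, rfl⟩
        exact ⟨⟨((α₀ x : T₀) : Ω), hT₀T (α₀ x).2⟩, ⟨x, hx, rfl⟩, (hαe x).symm⟩
      · rintro ⟨w, ⟨x, hx, hxw⟩, rfl⟩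
        refine ⟨x, hx, (hαe x).trans ?_⟩
        exact congrArg (fun w : T => ((β w : T) : Ω)) (Subtype.ext hxw)
    refine ⟨res χ heq.le, res_mem E₁ hχ _, fun x hφx hαx => ?_⟩
    refine Eq.trans ?_ (hαe ⟨φ x, hφx⟩).symm
    refine Eq.trans ?_ ((hχe ⟨((α₀ ⟨x, hP x.2⟩ : T₀) : Ω), ⟨⟨x, hP x.2⟩, x.2, rfl⟩⟩
      ((hαe ⟨x, hP x.2⟩) ▸ heq.le hαx)).trans ?_)
    · exact congrArg χ (Subtype.ext (hαe _))
    · exact congrArg (fun w : T => ((β w : T) : Ω))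
        (Subtype.ext (hχ₀e x hφx ⟨⟨x, hP x.2⟩, x.2, rfl⟩))
  · -- Frattini decomposition
    obtain ⟨β, hβ, φ₁, hφ₁, he⟩ := hI.2.2.2 P (hP.trans hT₀T) φ hφ
    obtain ⟨α₁, hα₁, φ₀, hφ₀, he₁⟩ := hN₁.1.2.2.2.2.2 P hP φ₁ hφ₁
    obtain ⟨β₀, hβ₀, hβ₀e⟩ := exists_autGroup_of_mem F
      (res_mem F ((mem_autGroup F hTS).1 hβ) hT₀T) fun x => hinv β hβ _ x.2
    refine ⟨β₀ * α₁, mul_mem hβ₀ ((mem_autGroup F hT₀S).2 (hI.1 _ ((mem_autGroup E hT₀T).1 hα₁))),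
      φ₀, hφ₀, fun x hx => ?_⟩
    rw [he x ((E.le_of_mem hφ₁).2 x), MulAut.mul_apply, hβ₀e]
    exact congrArg (fun w : T => ((β w : T) : Ω)) (Subtype.ext (he₁ x hx))
  · -- extension condition
    set U := T₀ ⊔ centralizerIn S T₀
    have hUS : U ≤ S := sup_le hT₀S inf_le_left
    let good : MulAut T₀ → Prop := fun a => ∃ β ∈ F.autGroup U,
      (∀ x : T₀, ((β (Subgroup.inclusion le_sup_left x) : U) : Ω) = ((a x : T₀) : Ω)) ∧
        ∀ c : U, (c : Ω) ∈ centralizerIn S T₀ →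
          (c : Ω)⁻¹ * ((β c : U) : Ω) ∈ T₀ ⊓ Subgroup.centralizer (T₀ : Set Ω)
    have hone : good 1 := ⟨1, one_mem _, fun x => rfl, fun c _ => by simp⟩
    have hmul : ∀ a b, good a → good b → good (a * b) := by
      rintro a b ⟨β₁, g₁, e₁, c₁⟩ ⟨β₂, g₂, e₂, c₂⟩
      exact ⟨β₁ * β₂, mul_mem g₁ g₂, H94.ext_condition_mul e₁ c₁ e₂ c₂⟩
    have hA : E₁.IsFullyAutomized p T₀ :=
      (H94.fullyNormalized_spec (hS.to_le hT₀S) h₁.1 (H93.isFullyNormalized_top E₁)).1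
    obtain ⟨k, hk, b, hb, rfl⟩ := H94.exists_pResidual_mul_of_fullyAutomized hA hα
    refine hmul _ _ ?_ ?_
    · obtain ⟨κ, hκ, rfl⟩ := hk
      clear hα
      induction hκ using Subgroup.closure_induction_left with
      | one => exact hone
      | mul_left y hy z _ hz =>
        exact hmul _ _ (exists_ext_coprime hS hE hT₀T hT₀F hN₁ y.2
          (by rw [Subgroup.orderOf_coe]; exact hy)) hz
      | inv_mul_cancel y hy z _ hz =>
        exact hmul _ _ (exists_ext_coprime hS hE hT₀T hT₀F hN₁ (y⁻¹).2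
          (by rw [Subgroup.orderOf_coe, orderOf_inv]; exact hy)) hz
    · obtain ⟨t, ht, hte⟩ := H96.mem_autInducedBy.1 hb
      obtain ⟨β, hβ, hβe⟩ := H94.exists_autInducedBy (P := U) (hT₀S ht)
        (Subgroup.le_normalizer ((le_sup_left : T₀ ≤ U) ht))
      refine ⟨β, H96.autInducedBy_le_autGroup F hUS hβ, fun x => (hβe _).trans (hte x).symm, fun c hc => ?_⟩
      have : (c : Ω)⁻¹ * ((β c : U) : Ω) = 1 := by
        rw [hβe, Subgroup.mem_centralizer_iff.1 hc.2 t ht]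
        simp
      rw [this]
      exact one_mem _

/-- The residual subsystem of `p`-power index of a normal subsystem is normal in the ambient system. -/
theorem residual_isNormalIn {Ω : Type*} [Group Ω] {S T : Subgroup Ω} [Finite S] {p : ℕ} [Fact p.Prime]
    {F : FusionSystem S} (hS : IsPGroup p S) {E : FusionSystem T} (hE : E.IsNormalIn F p)
    {E₁ : FusionSystem (E.hyperfocalSubgroup p)} (h₁ : E.IsPResidual p E₁) : E₁.IsNormalIn F p :=
  residual_isNormalIn_aux hS hE rfl h₁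

end Cfsg.Agent.H22
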