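import Cfsg.Agent.H22.DihedralSmall
import Cfsg.Agent.H22.StarNonzero

/-!
# Involutions of a dihedral defect group when the block has rank three

When the kernel of the restriction to the regular elements is spanned by the functions living at
the central involution, the columns of the other sections vanish; so every involution of the defect
group is conjugate to the central one.
-/

set_option autoImplicit false
set_option linter.unusedSectionVars false

open scoped ComplexConjugate Classical

namespace Cfsg.Agent.H22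

open Cfsg
open Cfsg.Agent.H41 (ResField)

universe u

/-- The block part at a regular element only sees the regular elements. -/
theorem blockPart_eq_zero_of_regular {K : Type u} [Group K] [Fintype K] {p : ℕ} [Fact p.Prime]
    {M : Ideal AlgInt} [M.IsMaximal] [CharP (ResField M) p] (hM : IsPModular p M)
    {b : Set (IrrCharacter K)} (hb : IsPBlock M b) {θ : K → ℂ}
    (h0 : ∀ w, ¬ p ∣ orderOf w → θ w = 0) {y : K} (hy : ¬ p ∣ orderOf y) :
    blockPart b θ y = 0 := by
  rw [H32.blockPart_eq_sum]
  simp only [classInner, Finset.mul_sum, Finset.sum_mul]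
  rw [Finset.sum_comm]
  refine Finset.sum_eq_zero fun w _ => ?_
  by_cases hw : p ∣ orderOf w
  · have h := H40.sum_block_mul_conj_eq_zero hM hb (x := y) (y := w) hy hw
    calc _ = (Nat.card K : ℂ)⁻¹ * θ w * ∑ φ ∈ Finset.univ.filter (· ∈ b),
          (φ : K → ℂ) y * conj ((φ : K → ℂ) w) := by
          rw [Finset.mul_sum]
          refine Finset.sum_congr (by ext; simp [H56.Subsec.mem']) fun φ _ => ?_
          ring
      _ = 0 := by rw [h, mul_zero]
  · exact Finset.sum_eq_zero fun φ _ => by rw [h0 w hw]; ring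

namespace Dihedral

variable {G : Type u} [Group G] [Fintype G]

section Mult

variable [Fact (Nat.Prime 2)] {M : Ideal AlgInt} [M.IsMaximal] [CharP (ResField M) 2]
  {z : G} {B : Set (IrrCharacter G)} {c : Set (IrrCharacter (CZ z))}
  {P : Subgroup (CZ z)} {e : MonoidAlgebra (ResField M) (CZ z)} {ξ₀ : IrrCharacter (CZ z)}
  (S : TICore.Setup M B z c P e ξ₀) {s : P} {hzP : TICore.zC z ∈ P} {h : ℕ}
  (hc : DihFun.Cyc P s h) (hs : s ^ h = (⟨TICore.zC z, hzP⟩ : P))

include S hc hs

/-- A singular column orthogonal to the functions at `z` vanishes. -/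
theorem column_eq_zero (hl : h + blockRank 2 B = Nat.card B) {g : G} (hg : 2 ∣ orderOf g)
    (hout : ∀ x : G, ∀ k : CZ z, (k : G) = x⁻¹ * g * x → z ∉ Subgroup.zpowers (k : G))
    {χ : IrrCharacter G} (hχ : χ ∈ B) : (χ : G → ℂ) g = 0 := by
  let L : ({χ // χ ∈ B} → ℂ) →ₗ[ℂ] (G → ℂ) :=
    Fintype.linearCombination ℂ fun χ : {χ // χ ∈ B} => pRegularPart 2 ((χ : IrrCharacter G) : G → ℂ)
  have hrange : LinearMap.range L =
      Submodule.span ℂ ((fun χ : IrrCharacter G => pRegularPart 2 (χ : G → ℂ)) '' B) := by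
    rw [Fintype.range_linearCombination]
    congr 1
    ext f
    simp
  let v : Fin h → ({χ // χ ∈ B} → ℂ) := fun i χ =>
    classInner (DihFun.dl hc (i + 1)) (TICore.Phi M P e ξ₀ ((χ : IrrCharacter G) : G → ℂ))
  have hsupp : ∀ i : Fin h, ∀ g : P, s ^ h ∉ Subgroup.zpowers g →
      DihFun.dl hc (i + 1) g = 0 := fun i g hg =>
    DihFun.dl_eq_zero hc (Nat.succ_pos _) (Nat.succ_le_of_lt i.2) g hg
  have hker : ∀ i, v i ∈ LinearMap.ker L := by
    intro i
    rw [LinearMap.mem_ker, Fintype.linearCombination_apply]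
    funext g
    rw [Finset.sum_apply]
    by_cases hg : IsPRegular 2 g
    · have := TICore.sum_classInner_smul S (DihFun.dl_class hc (i + 1)) (supp hc hs (hsupp i)) g
      rw [TICore.indFun_eq_zero_regular S (supp hc hs (hsupp i)) hg,
        Finset.sum_subtype (p := (· ∈ B)) (H42.blockFinset B) (fun x => H42.mem_blockFinset)] at this
      rw [Pi.zero_apply, ← this]
      exact Finset.sum_congr rfl fun χ _ => by simp [v, pRegularPart, hg]
    · exact Finset.sum_eq_zero fun χ _ => by simp [pRegularPart, hg]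
  have hli : LinearIndependent ℂ v := by
    rw [Fintype.linearIndependent_iff]
    intro a ha k
    have h1 : ∑ i, a i * ∑ χ, v i χ * conj (v k χ) = 0 := by
      simp only [Finset.mul_sum]
      rw [Finset.sum_comm]
      refine Finset.sum_eq_zero fun χ _ => ?_
      have hχ : ∑ i, a i * v i χ = 0 := by simpa [Finset.sum_apply] using congrFun ha χ
      rw [Finset.sum_congr rfl fun i _ => (mul_assoc (a i) (v i χ) (conj (v k χ))).symm,
        ← Finset.sum_mul, hχ, zero_mul]
    have hin : ∀ i, ∑ χ, v i χ * conj (v k χ) =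
        classInner (DihFun.dl hc (i + 1)) (DihFun.dl hc (k + 1)) := fun i => by
      rw [← TICore.sum_classInner_mul S (DihFun.dl_class hc _) (DihFun.dl_class hc _)
        (supp hc hs (hsupp i)) (supp hc hs (hsupp k)),
        Finset.sum_subtype (p := (· ∈ B)) (H42.blockFinset B) (fun x => H42.mem_blockFinset)]
    simp only [hin] at h1
    rw [Finset.sum_eq_single k (fun i _ hne => by
      rw [(DihFun.inner_dl hc (Nat.succ_pos _) (Nat.succ_le_of_lt i.2) (Nat.succ_pos _)
        (Nat.succ_le_of_lt k.2)).2 (by simpa using Fin.val_ne_of_ne hne), mul_zero])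
      (fun e => absurd (Finset.mem_univ _) e)] at h1
    refine (mul_eq_zero.1 h1).resolve_right fun h0 => ?_
    exact (DihFun.inner_dl hc (Nat.succ_pos _) (Nat.succ_le_of_lt k.2) (Nat.succ_pos _)
      (Nat.succ_le_of_lt k.2)).1 h0 rfl
  have hspan : Submodule.span ℂ (Set.range v) = LinearMap.ker L := by
    refine Submodule.eq_of_le_of_finrank_eq (Submodule.span_le.2 (Set.range_subset_iff.2 hker)) ?_
    have hsum := LinearMap.finrank_range_add_finrank_ker L
    rw [Module.finrank_fintype_fun_eq_card, hrange, ← blockRank, ← Nat.card_eq_fintype_card] at hsum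
    rw [finrank_span_eq_card hli, Fintype.card_fin]
    rw [show Nat.card B = Nat.card {χ // χ ∈ B} from rfl] at hl
    omega
  let u : {χ // χ ∈ B} → ℂ := fun χ => conj (((χ : IrrCharacter G) : G → ℂ) g)
  have hu : u ∈ Submodule.span ℂ (Set.range v) := by
    rw [hspan, LinearMap.mem_ker, Fintype.linearCombination_apply]
    funext x
    rw [Finset.sum_apply]
    by_cases hx : IsPRegular 2 x
    · have h1 := H40.sum_block_mul_conj_eq_zero S.hM S.ind.2.1 (x := x) (y := g) hx hg
      rw [Finset.sum_subtype (p := (· ∈ B)) (Finset.univ.filter (· ∈ B)) (fun x => by simp)] at h1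
      rw [Pi.zero_apply, ← h1]
      exact Finset.sum_congr rfl fun χ _ => by simp [u, pRegularPart, hx, mul_comm]
    · exact Finset.sum_eq_zero fun χ _ => by simp [pRegularPart, hx]
  obtain ⟨a, ha⟩ := (Submodule.mem_span_range_iff_exists_fun ℂ).1 hu
  have hF : ∀ i, ∑ χ : {χ // χ ∈ B}, v i χ * ((χ : IrrCharacter G) : G → ℂ) g = 0 := by
    intro i
    have h1 := TICore.sum_classInner_smul S (DihFun.dl_class hc (i + 1)) (supp hc hs (hsupp i)) g
    rw [Finset.sum_subtype (p := (· ∈ B)) (H42.blockFinset B) (fun x => H42.mem_blockFinset)] at h1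
    refine h1.trans ?_
    rw [H25.indFun_apply]
    refine mul_eq_zero_of_right _ (Finset.sum_eq_zero fun x _ => ?_)
    by_cases hx : x⁻¹ * g * x ∈ CZ z
    swap
    · exact H25.extendByZero_of_notMem _ _ hx
    rw [H25.extendByZero_of_mem _ _ hx]
    exact TICore.gfun_eq_zero_off S (supp hc hs (hsupp i)) (hout x ⟨_, hx⟩ rfl)
  have hnorm : ∑ χ : {χ // χ ∈ B},
      ((Complex.normSq (((χ : IrrCharacter G) : G → ℂ) g) : ℝ) : ℂ) = 0 := by
    calc _ = ∑ χ : {χ // χ ∈ B}, u χ * ((χ : IrrCharacter G) : G → ℂ) g :=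
          Finset.sum_congr rfl fun χ _ => Complex.normSq_eq_conj_mul_self
      _ = ∑ i, a i * ∑ χ : {χ // χ ∈ B}, v i χ * ((χ : IrrCharacter G) : G → ℂ) g := by
          simp only [← ha, Finset.sum_apply, Pi.smul_apply, smul_eq_mul, Finset.sum_mul,
            Finset.mul_sum]
          rw [Finset.sum_comm]
          exact Finset.sum_congr rfl fun i _ => Finset.sum_congr rfl fun χ _ => by ring
      _ = 0 := Finset.sum_eq_zero fun i _ => by rw [hF i, mul_zero]
  rw [← Complex.ofReal_sum, Complex.ofReal_eq_zero,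
    Finset.sum_eq_zero_iff_of_nonneg fun χ _ => Complex.normSq_nonneg _] at hnorm
  exact Complex.normSq_eq_zero.1 (hnorm ⟨χ, hχ⟩ (Finset.mem_univ _))

/-- Every involution of the defect group is conjugate to `z`. -/
theorem isConj_involution (hl : h + blockRank 2 B = Nat.card B) {D : Subgroup G}
    (hD : IsDefectGroup 2 M B D) {t : G} (htD : t ∈ D) (ht : orderOf t = 2) : IsConj z t := by
  by_contra hno
  obtain ⟨e₀, hm⟩ := H40.NilpotentBlocks.exists_isMaxEl_of_defect S.hM S.ind.2.1 hD
  obtain ⟨c', hc', -, hbel⟩ := exists_carried_block S.ind.2.1 hm htD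
  obtain ⟨χ, hχ, h0⟩ := H41.exists_height_zero (p := 2) (H41.IsPBlock.nonempty S.ind.2.1)
  have hx : orderOf t = 2 ^ 1 := by rw [ht, pow_one]
  obtain ⟨y, hy, hne⟩ :=
    exists_blockPart_sec_ne_zero_of_height_zero S.hM S.ind.2.1 hχ h0 hx hc' hbel
  refine hne (blockPart_eq_zero_of_regular S.hM hc' (fun w hw => ?_) hy)
  show (χ : G → ℂ) (t * (w : G)) = 0
  have hpp : pp 2 (t * (w : G)) = t := pp_eq (isPPart_mul_regular hx w hw)
  refine column_eq_zero S hc hs hl ?_ (fun x k hk hz => hno ?_) hχ
  · have h2 : orderOf (pp 2 (t * (w : G))) ∣ orderOf (t * (w : G)) := orderOf_pow_dvd _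
    rwa [hpp, ht] at h2
  · have h2 := zpowers_pp_conj (x := x) (by rw [hpp]; exact ht) S.order (hk ▸ hz)
    rw [hpp] at h2
    exact isConj_iff.2 ⟨x, by rw [h2]; group⟩
where
  zpowers_pp_conj {g x : G} (hg : orderOf (pp 2 g) = 2) (hz : orderOf z = 2)
      (hk : z ∈ Subgroup.zpowers (x⁻¹ * g * x)) : z = x⁻¹ * pp 2 g * x := by
    refine TICore.eq_of_mem_zpowers (g := x⁻¹ * g * x) ?_ hz ?_ hk
    · rw [show x⁻¹ * pp 2 g * x = MulAut.conj x⁻¹ (pp 2 g) by simp, MulEquiv.orderOf_eq, hg]
    · have := pp_conj 2 x⁻¹ g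
      rw [inv_inv] at this
      rw [← this, pp]
      exact Subgroup.pow_mem _ (Subgroup.mem_zpowers _) _

end Mult

end Dihedral

end Cfsg.Agent.H22
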