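import Cfsg.Agent.H40.AbelianSubsections
import Cfsg.Agent.H22.PairFusion
import Cfsg.Agent.H23.OneSubsection

/-!
# A lower bound from Brauer's count

Elements of a maximal pair not fused by the pair give distinct subsections.
-/

set_option autoImplicit false
set_option linter.unusedSectionVars false
set_option linter.style.haveILetI false

open scoped Classical

namespace Cfsg.Agent.H22

open Cfsg
open Cfsg.Agent.H41 (ResField)

universe u

variable {G : Type u} [Group G] [Fintype G] {p : ℕ} [Fact p.Prime] {M : Ideal AlgInt}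
  [M.IsMaximal] [CharP (ResField M) p]

/-- The rank does not depend on the name of the subgroup. -/
theorem blockRank_eq_of_el_eq {K K' : Subgroup G} (hK : K = K') {b : Set (IrrCharacter K)}
    {b' : Set (IrrCharacter K')} (hb : IsPBlock M b) (hb' : IsPBlock M b')
    (h : el M K b = el M K' b') : blockRank p b = blockRank p b' := by
  subst hK
  rw [el_inj hb hb' h]

variable {B : Set (IrrCharacter G)} {P : Subgroup G} {e : MonoidAlgebra (ResField M) G}

/-- The block at an element below a maximal pair induces `B`. -/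
theorem isInducedBlock_subAt (hM : IsPModular p M) (hB : IsPBlock M B)
    (hm : IsMaxEl p ⊤ (elTop M B) (P, e)) {u : G}
    {b : Set (IrrCharacter (Subgroup.centralizer ({u} : Set G)))}
    (h : H40.SubAt p M P e u b) :
    IsInducedBlock M (Subgroup.centralizer ({u} : Set G)) b B := by
  refine (H40.isInducedBlock_iff_below hM hB (Q := Subgroup.zpowers u)
    (hm.pair.pGroup.to_le h.2.le) ?_ _ (H40.centralizer_zpowers_eq u).symm h.1).2
      ((h.2.below_iff (isBlockEl_elTop hB)).2 hm.below)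
  rw [H40.centralizer_zpowers_eq, Subgroup.zpowers_le, Subgroup.mem_centralizer_singleton_iff]

/-- `k(B)` is at least `l(B)` plus the ranks at non-fused non-trivial elements. -/
theorem blockRank_add_sum_le (hM : IsPModular p M) (hB : IsPBlock M B)
    (hm : IsMaxEl p ⊤ (elTop M B) (P, e)) (s : Finset G) (hs : ∀ u ∈ s, u ∈ P ∧ u ≠ 1)
    (b : ∀ u : G, Set (IrrCharacter (Subgroup.centralizer ({u} : Set G))))
    (hb : ∀ u ∈ s, H40.SubAt p M P e u (b u))
    (hfus : ∀ u ∈ s, ∀ v ∈ s, ∀ g, Carry p (P, e) (Subgroup.zpowers u) g →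
      g * u * g⁻¹ = v → u = v) :
    blockRank p B + ∑ u ∈ s, blockRank p (b u) ≤ Nat.card B := by
  let r : G → G := fun g => if IsConj g 1 then 1 else Quotient.out (ConjClasses.mk g)
  have hr : ∀ g, IsConj g (r g) := fun g => by
    simp only [r]
    split_ifs with h
    · exact h
    · exact (ConjClasses.mk_eq_mk_iff_isConj.1 (Quotient.out_eq (ConjClasses.mk g))).symm
  have hrr : ∀ g g', IsConj g g' → r g = r g' := fun g g' h => by
    simp only [r]
    by_cases hg : IsConj g 1
    · rw [if_pos hg, if_pos (h.symm.trans hg)]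
    · rw [if_neg hg, if_neg fun h' => hg (h.trans h'), ConjClasses.mk_eq_mk_iff_isConj.2 h]
  let X : Finset G := (Finset.univ.filter fun g : G => ∃ k : ℕ, orderOf g = p ^ k).image r
  have hX : ∀ x ∈ X, ∃ k : ℕ, orderOf x = p ^ k := by
    intro x hx
    obtain ⟨g, hg, rfl⟩ := Finset.mem_image.1 hx
    obtain ⟨c, hc⟩ := isConj_iff.1 (hr g)
    obtain ⟨k, hk⟩ := (Finset.mem_filter.1 hg).2
    exact ⟨k, by rw [← hc, ← MulAut.conj_apply, MulEquiv.orderOf_eq, hk]⟩
  have hXrep : ∀ g : G, (∃ k : ℕ, orderOf g = p ^ k) → ∃! x, x ∈ X ∧ IsConj g x := by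
    refine fun g hg => ⟨r g, ⟨Finset.mem_image.2 ⟨g, Finset.mem_filter.2 ⟨Finset.mem_univ _, hg⟩,
      rfl⟩, hr g⟩, ?_⟩
    rintro y ⟨hy, hgy⟩
    obtain ⟨g', -, rfl⟩ := Finset.mem_image.1 hy
    exact hrr g' g ((hr g').trans hgy.symm)
  have hpu : ∀ u ∈ s, ∃ k : ℕ, orderOf u = p ^ k := fun u hu => by
    obtain ⟨k, hk⟩ := IsPGroup.iff_orderOf.1 hm.pair.pGroup ⟨u, (hs u hu).1⟩
    exact ⟨k, by rwa [Subgroup.orderOf_mk] at hk⟩
  choose gof hgof using fun u => isConj_iff.1 (hr u)
  have hcs : ∀ u, cS (gof u) (Subgroup.centralizer ({u} : Set G)) =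
      Subgroup.centralizer ({r u} : Set G) := fun u => by
    rw [cS_centralizer_singleton, hgof]
  let Φ : G → (Σ x : G, Set (IrrCharacter (Subgroup.centralizer ({x} : Set G)))) := fun u =>
    ⟨r u, conjSet (gof u) _ _ (hcs u) (b u)⟩
  let I : Finset (Σ x : G, Set (IrrCharacter (Subgroup.centralizer ({x} : Set G)))) :=
    X.sigma fun x => (Set.toFinite {b' : Set (IrrCharacter (Subgroup.centralizer ({x} : Set G))) |
      IsInducedBlock M (Subgroup.centralizer ({x} : Set G)) b' B}).toFinset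
  have hcount : Nat.card B = ∑ i ∈ I, blockRank p i.2 := by
    rw [H32.card_eq_sum_blockRank hM hB hX hXrep, Finset.sum_sigma]
    exact Finset.sum_congr rfl fun x _ => finsum_mem_eq_finite_toFinset_sum _ _
  have helΦ : ∀ u, el M (Subgroup.centralizer ({(Φ u).1} : Set G)) (Φ u).2 =
      cj (gof u) (el M (Subgroup.centralizer ({u} : Set G)) (b u)) := fun u =>
    el_conjSet _ _ _ (hcs u) _
  have hz : ∀ (g u : G), cS g (Subgroup.zpowers u) = Subgroup.zpowers (g * u * g⁻¹) :=
    fun g u => MonoidHom.map_zpowers _ _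
  have hblkΦ : ∀ u ∈ s, IsPBlock M (Φ u).2 := fun u hu =>
    isPBlock_conjSet (hcs u) (hb u hu).1
  have hmapsto : ∀ u ∈ s, Φ u ∈ I := by
    intro u hu
    refine Finset.mem_sigma.2 ⟨Finset.mem_image.2 ⟨u, Finset.mem_filter.2
      ⟨Finset.mem_univ _, hpu u hu⟩, rfl⟩, (Set.Finite.mem_toFinset _).2 ?_⟩
    obtain ⟨k, hk⟩ := hpu u hu
    have h1 := ((hb u hu).2.below_iff (isBlockEl_elTop hB)).2 hm.below
    have h2 := h1.conj (gof u)
    dsimp only at h2
    rw [hz, hgof, ← helΦ, (isBlockEl_elTop hB).cent.inv _ (Subgroup.mem_top _)] at h2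
    refine (H40.isInducedBlock_iff_below hM hB (Q := Subgroup.zpowers (r u))
      (IsPGroup.of_card (n := k) (by
        rw [Nat.card_zpowers, ← hgof u, ← MulAut.conj_apply, MulEquiv.orderOf_eq, hk])) ?_ _
      (H40.centralizer_zpowers_eq _).symm (hblkΦ u hu)).2 h2
    rw [H40.centralizer_zpowers_eq, Subgroup.zpowers_le, Subgroup.mem_centralizer_singleton_iff]
  have hinj : ∀ u ∈ s, ∀ v ∈ s, Φ u = Φ v → u = v := by
    intro u hu v hv h
    have hx : r u = r v := congrArg Sigma.fst h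
    have he : cj (gof u) (el M (Subgroup.centralizer ({u} : Set G)) (b u)) =
        cj (gof v) (el M (Subgroup.centralizer ({v} : Set G)) (b v)) := by
      rw [← helΦ, ← helΦ, h]
    have hgu : (gof v)⁻¹ * gof u * u * ((gof v)⁻¹ * gof u)⁻¹ = v := by
      calc _ = (gof v)⁻¹ * (gof u * u * (gof u)⁻¹) * gof v := by group
        _ = (gof v)⁻¹ * (gof v * v * (gof v)⁻¹) * gof v := by rw [hgof, hgof, hx]
        _ = _ := by group
    refine hfus u hu v hv ((gof v)⁻¹ * gof u) ⟨_, (hb u hu).2, ?_⟩ hgu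
    rw [hz, hgu, cj_mul_apply, he, cj_inv_cj]
    exact (hb v hv).2
  -- the identity
  have h1X : (1 : G) ∈ X := Finset.mem_image.2
    ⟨1, Finset.mem_filter.2 ⟨Finset.mem_univ _, 0, by simp⟩, if_pos (IsConj.refl 1)⟩
  obtain ⟨b₁, hb₁⟩ := H23.OneSubsection.exists_isInducedBlock_of_mem hM hB
    ((isDefectGroup_top_iff hM hB).2 (hm.isDefEl (split M G) (isBlockEl_elTop hB)))
    (one_mem P)
  have hrank1 : blockRank p b₁ = blockRank p B := by
    refine H40.blockRank_eq_of_top p _ ?_ hb₁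
    ext z
    simp [Subgroup.mem_centralizer_singleton_iff]
  have hi₁ : (⟨1, b₁⟩ : Σ x : G, Set (IrrCharacter (Subgroup.centralizer ({x} : Set G)))) ∈ I :=
    Finset.mem_sigma.2 ⟨h1X, (Set.Finite.mem_toFinset _).2 hb₁⟩
  have hne : (⟨1, b₁⟩ : Σ x : G, Set (IrrCharacter (Subgroup.centralizer ({x} : Set G)))) ∉
      s.image Φ := by
    intro hmem
    obtain ⟨u, hu, he⟩ := Finset.mem_image.1 hmem
    have h1 : r u = 1 := congrArg Sigma.fst he
    exact (hs u hu).2 (isConj_one_left.1 (h1 ▸ hr u))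
  rw [hcount, ← Finset.add_sum_erase I _ hi₁, hrank1, add_le_add_iff_left]
  calc ∑ u ∈ s, blockRank p (b u) = ∑ u ∈ s, blockRank p (Φ u).2 :=
        Finset.sum_congr rfl fun u _ => (H40.blockRank_image p _ _).symm
    _ = ∑ i ∈ s.image Φ, blockRank p i.2 := by
        rw [Finset.sum_image fun u hu v hv h => hinj u hu v hv h]
    _ ≤ _ := by
        refine Finset.sum_le_sum_of_subset fun i hi => Finset.mem_erase.2 ⟨fun e => hne (e ▸ hi), ?_⟩
        obtain ⟨u, hu, rfl⟩ := Finset.mem_image.1 hi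
        exact hmapsto u hu

end Cfsg.Agent.H22
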