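import Cfsg.Agent.H22.SemiDihedralData
import Cfsg.Agent.H22.SubsectionCount
import Cfsg.Agent.H40.NilpotentBlocks
import Cfsg.Agent.H22.DihedralLocal

/-!
# Fusion among the rotations of a semidihedral defect group
-/

set_option autoImplicit false
set_option linter.unusedSectionVars false
set_option linter.style.haveILetI false

namespace Cfsg.Agent.H22.SemiDihedral

open Cfsg
open Cfsg.Agent.H41 (ResField)

universe u

variable {k : Type*} [Field k] {G : Type u} [Group G] [Finite G] [Fact (Nat.Prime 2)] [CharP k 2]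
  {bb e : MonoidAlgebra k G} {D : Subgroup G} {σ τ : G} {h : ℕ}

/-- A subgroup normal in the maximal pair has the whole of it in the stabiliser of its pair. -/
theorem isDefEl_stab (hS : Split k G) (hb : IsBlockEl ⊤ bb) (hm : IsMaxEl 2 ⊤ bb (D, e))
    {R : Subgroup G} {f : MonoidAlgebra k G} (hle : PLe 2 ⊤ (R, f) (D, e))
    (hn : ∀ d ∈ D, d ∈ Subgroup.normalizer (R : Set G)) :
    IsDefEl 2 (pairStab R f) f (D ⊓ pairStab R f) := by
  have hblk : IsBlockEl (Subgroup.centralizer (R : Set G)) f := by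
    simpa using (hle.left hm.pair).block
  have hall : D ≤ pairStab R f := fun d hd =>
    ⟨hn d hd, inv_inf_normalizer hS hm.pair hle d ⟨hd, hn d hd⟩⟩
  refine (defect_iff_max hS hb hm hle (T := pairStab R f) inf_le_left
    (isBlockEl_pairStab (hle.left hm.pair).pGroup hblk)).2 fun g _ => ?_
  rw [inf_eq_left.2 hall]
  exact Subgroup.card_le_of_le inf_le_left

/-- Rotations of order at least four are fused only by the defect group. -/
theorem eq_or_eq_of_carry (hS : Split k G) (hb : IsBlockEl ⊤ bb) (hm : IsMaxEl 2 ⊤ bb (D, e))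
    (hd : SDData D σ τ h) {u v : G} (hu : u ∈ Subgroup.zpowers σ)
    (hv : v ∈ Subgroup.zpowers σ) {g : G} (hg : Carry 2 (D, e) (Subgroup.zpowers u) g)
    (huv : g * u * g⁻¹ = v) : v = u ∨ v = τ * u * τ⁻¹ := by
  haveI : Fintype G := Fintype.ofFinite G
  set A := Subgroup.zpowers σ with hA
  have hAD : A ≤ D := zpowers_le hd
  have hF : IsPairFS 2 e (pairFS hS hm.pair) := fun _ _ => Iff.rfl
  set F := pairFS hS hm.pair with hFdef
  have hnorm : ∀ w ∈ A, ∀ d ∈ D, d * w * d⁻¹ ∈ Subgroup.zpowers w := by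
    intro w hw d hdD
    by_cases hdA : d ∈ A
    · obtain ⟨i, rfl⟩ := hdA
      obtain ⟨j, rfl⟩ := hw
      refine ⟨1, ?_⟩
      show (σ ^ j) ^ (1 : ℤ) = σ ^ i * σ ^ j * (σ ^ i)⁻¹
      group
    · obtain ⟨j, -, rfl⟩ := exists_pow hd hw
      rw [conj_of_notMem hd hdD hdA, mul_comm, pow_mul]
      exact Subgroup.pow_mem _ (Subgroup.mem_zpowers _) _
  have hstab : ∀ w ∈ A, ∀ d ∈ D, d ∈ Subgroup.normalizer (Subgroup.zpowers w : Set G) := by
    intro w hw d hdD
    refine mem_normalizer_of_cS (Subgroup.eq_of_le_of_card_ge ?_ (card_cS _ _).ge)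
    rw [cS, MonoidHom.map_zpowers, Subgroup.zpowers_le]
    exact hnorm w hw d hdD
  -- extend the conjugation to the rotations
  obtain ⟨fv, hfv, -⟩ := existsUnique_ple hS hm.pair (Subgroup.zpowers v)
    (Subgroup.zpowers_le.2 (hAD hv))
  have hrec := receptive_of_defect hS hm hF hfv (isDefEl_stab hS hb hm hfv (hstab v hv))
  set Q := Subgroup.zpowers u
  obtain ⟨ψ, hψ, hψeq⟩ := hrec.2 Q (conjHom Q g) ((hF _ _).2 ⟨g, fun _ => rfl, hg⟩) (by
    rw [range_eq_cS (g := g) fun _ => rfl, cS, MonoidHom.map_zpowers]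
    simp [huv])
  have hAN : A ≤ FusionSystem.extender D Q (conjHom Q g) := by
    intro a ha
    have hcom : ∀ w ∈ Q, a * w * a⁻¹ = w := by
      rintro w ⟨j, rfl⟩
      obtain ⟨i, rfl⟩ := ha
      obtain ⟨l, rfl⟩ := hu
      group
    refine Subgroup.subset_closure ⟨hAD ha, hstab u hu a (hAD ha), 1, one_mem D, fun w hw => ?_⟩
    rw [one_mul, _root_.inv_one, mul_one]
    exact congrArg _ (Subtype.ext (hcom w w.2))
  obtain ⟨y, hy, hyc⟩ := (hF _ _).1 hψ
  have hyu : y * u * y⁻¹ = v := by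
    have h1 := hψeq u (Subgroup.mem_zpowers u) (hAN hu)
    rw [hy] at h1
    exact h1.trans huv
  obtain ⟨fN, hfN, hfN'⟩ := hyc
  obtain ⟨fA, hfA, -⟩ := existsUnique_ple hS hm.pair A hAD
  have hσy : y * σ * y⁻¹ ∈ A :=
    mem_of_order hd (hfN'.le (conj_mem_cS (hAN (Subgroup.mem_zpowers σ))))
      (by rw [← MulAut.conj_apply, MulEquiv.orderOf_eq, hd.order])
  have hyA : cS y A = A := by
    refine Subgroup.eq_of_le_of_card_ge ?_ (card_cS _ _).ge
    rw [cS, hA, MonoidHom.map_zpowers, Subgroup.zpowers_le]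
    exact hσy
  have hyT : y ∈ pairStab A fA := by
    have h1 : PLe 2 ⊤ (A, fA) (FusionSystem.extender D Q (conjHom Q g), fN) :=
      ple_of_le hS hm.pair hfA hfN hAN
    have h2 := h1.conj_mem (Subgroup.mem_top y)
    exact mem_pairStab_of_carry hS hm.pair hfA ⟨fA, hfA, h2.trans hfN'⟩ hyA
  -- the automorphisms of the rotations come from `D`
  have hD' := isDefEl_stab hS hb hm hfA (fun d hdD => hA ▸ hstab σ (Subgroup.mem_zpowers σ) d hdD)
  obtain ⟨-, R, hR⟩ := fullyAutomized_of_defect hS hm hF hfA hD'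
  have hA2 : IsPGroup 2 A := hm.pair.pGroup.to_le hAD
  have hodd : ∀ t : pairStab A fA, ¬ 2 ∣ orderOf t → stabConj A fA t = 1 := by
    intro t ht
    have hto : ¬ 2 ∣ orderOf (t : G) := by rwa [Subgroup.orderOf_coe]
    have hzA : σ ^ h ∈ A := Subgroup.pow_mem _ (Subgroup.mem_zpowers σ) h
    have htz : (t : G) * σ ^ h = σ ^ h * (t : G) := by
      have h1 : (t : G) * σ ^ h * (t : G)⁻¹ = σ ^ h :=
        TICore.eq_of_mem_zpowers (g := σ) (orderOf_z hd)
          (by rw [← MulAut.conj_apply, MulEquiv.orderOf_eq]; exact orderOf_z hd) hzA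
          ((Subgroup.mem_normalizer_iff.1 t.2.1 _).1 hzA)
      rwa [mul_inv_eq_iff_eq_mul] at h1
    have hfix := H86.PPrime.cyclic_fix hA2 hto t.2.1 (w := σ ^ h) hzA
      (fun e => by have := orderOf_z hd; rw [e, orderOf_one] at this; omega) htz
    refine MulEquiv.ext fun w => Subtype.ext ?_
    rw [coe_stabConj, hfix w w.2, mul_inv_cancel_right]
    rfl
  have hp2 : IsPGroup 2 (F.autGroup A) := by
    rw [IsPGroup.iff_orderOf]
    rintro ⟨α, hα⟩
    rw [← range_stabConj hS hm.pair hF hfA] at hα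
    obtain ⟨t, rfl⟩ := hα
    obtain ⟨i, m, hm', hto⟩ := Nat.exists_eq_pow_mul_and_not_dvd (orderOf_pos t).ne' 2 (by norm_num)
    have h1 : (stabConj A fA t) ^ 2 ^ i = 1 := by
      rw [← map_pow]
      refine hodd _ ?_
      rw [orderOf_pow' t (pow_ne_zero _ two_ne_zero), hto, Nat.gcd_eq_right (dvd_mul_right _ _),
        Nat.mul_div_cancel_left _ (pow_pos two_pos i)]
      exact hm'
    obtain ⟨j, -, hj⟩ := (Nat.dvd_prime_pow Nat.prime_two).1 (orderOf_dvd_of_pow_eq_one h1)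
    exact ⟨j, by rw [Subgroup.orderOf_mk]; exact hj⟩
  have hRtop : (R : Subgroup (F.autGroup A)) = ⊤ :=
    (R.is_maximal' (hp2.to_subgroup ⊤) le_top).symm
  have hαF : stabConj A fA ⟨y, hyT⟩ ∈ F.autGroup A := by
    rw [← range_stabConj hS hm.pair hF hfA]
    exact ⟨_, rfl⟩
  have hmem : (⟨_, hαF⟩ : F.autGroup A) ∈ (autInducedBy D A).subgroupOf (F.autGroup A) := by
    rw [← hR, hRtop]
    exact Subgroup.mem_top _
  obtain ⟨d, hdD, hd'⟩ := H96.mem_autInducedBy.1 (Subgroup.mem_subgroupOf.1 hmem)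
  have h1 := hd' ⟨u, hu⟩
  rw [coe_stabConj] at h1
  simp only [hyu] at h1
  obtain ⟨i, -, rfl⟩ := exists_pow hd hu
  by_cases hdA : d ∈ A
  · left
    obtain ⟨j, rfl⟩ := hdA
    rw [h1]
    group
  · right
    rw [h1, conj_of_notMem hd hdD hdA, conj_pow hd]

end Cfsg.Agent.H22.SemiDihedral
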