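import Cfsg.Agent.H22.TameSolvable
import Cfsg.Agent.H40.BlockBasic
import Cfsg.Agent.H25.SolvablePSolvable

/-!
# The centre and non-solvability from fused involutions
-/

set_option autoImplicit false
set_option linter.unusedSectionVars false
set_option linter.style.haveILetI false

namespace Cfsg.Agent.H22.TameRankThree

open Cfsg

universe u

/-- The defect group has a central involution, unique among those, with two non-commuting
conjugates. -/
def Fused {G : Type u} [Group G] (D : Subgroup G) : Prop :=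
  ∃ z : G, orderOf z = 2 ∧ z ∈ D ∧ (∀ d ∈ D, d * z = z * d) ∧
    (∀ w ∈ D, (∀ d ∈ D, d * w = w * d) → orderOf w = 2 → w = z) ∧
    ∃ t ∈ D, ∃ t' ∈ D, IsConj z t ∧ IsConj z t' ∧ t * t' ≠ t' * t

theorem odd_center {G : Type u} [Group G] [Finite G] {M : Ideal AlgInt} (hM : IsPModular 2 M)
    {B : Set (IrrCharacter G)} (hB : IsPBlock M B) {D : Subgroup G}
    (hD : IsDefectGroup 2 M B D) (hF : Fused D) : Odd (Nat.card (Subgroup.center G)) := by
  haveI : Fintype G := Fintype.ofFinite G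
  haveI : Fact (Nat.Prime 2) := ⟨Nat.prime_two⟩
  haveI : M.IsMaximal := hM.2.1
  obtain ⟨z, hz, hzD, -, huniq, t, -, t', -, ht, ht', hne⟩ := hF
  rw [← Nat.not_even_iff_odd, even_iff_two_dvd]
  intro h2
  obtain ⟨w, hw⟩ := exists_prime_orderOf_dvd_card' 2 h2
  have hw2 : orderOf (w : G) = 2 := by rw [Subgroup.orderOf_coe, hw]
  have hcom : ∀ g : G, g * (w : G) = (w : G) * g := Subgroup.mem_center_iff.1 w.2
  haveI : (Subgroup.zpowers (w : G)).Normal := ⟨fun x hx g => by
    obtain ⟨i, rfl⟩ := hx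
    refine ⟨i, ?_⟩
    show (w : G) ^ i = g * (w : G) ^ i * g⁻¹
    rw [((show Commute g (w : G) from hcom g).zpow_right i).eq, mul_inv_cancel_right]⟩
  have hwD : (w : G) ∈ D := H40.normal_le_defectGroup hM hB hD
    (IsPGroup.of_card (n := 1) (by rw [Nat.card_zpowers, hw2, pow_one]) :
      IsPGroup 2 (Subgroup.zpowers (w : G))) (Subgroup.mem_zpowers _)
  have hwz : (w : G) = z := huniq _ hwD (fun d _ => hcom d) hw2
  have hall : ∀ x : G, IsConj z x → x = z := fun x hx => by
    obtain ⟨g, rfl⟩ := isConj_iff.1 hx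
    rw [← hwz, hcom g, mul_inv_cancel_right]
  exact hne (by rw [hall t ht, hall t' ht'])

theorem not_isSolvable {M : Ideal AlgInt} (hM : IsPModular 2 M)
    (Pr : ∀ (X : Type u) [Group X], Prop)
    (hPr : ∀ (X Y : Type u) [Group X] [Group Y], (X ≃* Y) → Pr X → Pr Y)
    (hfuse : ∀ (G : Type u) [Group G] [Fintype G] (B : Set (IrrCharacter G)), IsPBlock M B →
      ∀ D : Subgroup G, IsDefectGroup 2 M B D → Pr D → 3 ≤ blockRank 2 B → Fused D)
    {G : Type u} [Group G] [Finite G] {B : Set (IrrCharacter G)} (hB : IsPBlock M B)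
    {D : Subgroup G} (hD : IsDefectGroup 2 M B D) (hP : Pr D) (hl : 3 ≤ blockRank 2 B) :
    ¬ Group.IsSolvable G := by
  intro hsol
  haveI : Fintype G := Fintype.ofFinite G
  haveI : Fact (Nat.Prime 2) := ⟨Nat.prime_two⟩
  refine TameSolvable.false_of_solvable (p := 2) M hM Pr hPr 3 (fun X _ _ B' hB' D' hD' h1 h2 => ?_)
    (Nat.card G) G rfl (H25.isPSolvable_of_isSolvable Nat.prime_two _ G rfl hsol) B hB D hD hP hl
  obtain ⟨z, -, hzD, hz, -, t, ht, t', ht', h⟩ := hfuse X B' hB' D' hD' h1 h2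
  exact ⟨z, hzD, hz, t, ht, t', ht', h⟩

end Cfsg.Agent.H22.TameRankThree
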