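import Cfsg.Agent.H22.SemiDihedralFusion
import Cfsg.Agent.H22.TameRankThree
import Cfsg.Agent.H22.StarNonzero
import Cfsg.Agent.H43.IntCong
import Cfsg.Agent.H56.ContribBounds

/-!
# Blocks with semidihedral defect groups and many characters
-/

set_option autoImplicit false
set_option linter.unusedSectionVars false
set_option linter.style.haveILetI false

open scoped ComplexConjugate Classical

namespace Cfsg.Agent.H22.SemiDihedral

open Cfsg
open Cfsg.Agent.H41 (ResField localRing res)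

universe u

section Major

open Cfsg.Agent.H56.Subsec (cont bpart redCont scal mem' mult)
open Cfsg.Agent.H32 (scaledReg)

variable {G : Type u} [Group G] [Fintype G] {M : Ideal AlgInt} [M.IsMaximal] {y : G}
  {b : Set (IrrCharacter (H56.Subsec.CZ y))} {B : Set (IrrCharacter G)}

/-- At an involution the contributions are rational integers. -/
theorem exists_int_cont (hy : orderOf y = 2) (χ ψ : IrrCharacter G) :
    ∃ m : ℤ, cont 2 y b χ ψ 1 = m := by
  have h : cont 2 y b χ ψ 1 ∈ (Int.castRingHom ℂ).range := by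
    refine Subring.sum_mem _ fun φ _ => Subring.sum_mem _ fun η _ => ?_
    have hs : ∀ φ, scal y φ ∈ (Int.castRingHom ℂ).range := fun φ => by
      have h2 := H56.Subsec.scal_pow y (N := 2) (hy ▸ pow_orderOf_eq_one y) φ
      rcases sq_eq_one_iff.1 h2 with e | e <;> rw [e]
      · exact Subring.one_mem _
      · exact Subring.neg_mem _ (Subring.one_mem _)
    refine Subring.mul_mem _ (Subring.mul_mem _ (natCast_mem _ _) (intCast_mem _ _))
      (Subring.mul_mem _ (pow_mem (hs φ) _) (pow_mem ?_ _))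
    rcases sq_eq_one_iff.1 (H56.Subsec.scal_pow y (N := 2) (hy ▸ pow_orderOf_eq_one y) η)
      with e | e <;> rw [e]
    · rw [_root_.inv_one]; exact Subring.one_mem _
    · rw [inv_neg, _root_.inv_one]; exact Subring.neg_mem _ (Subring.one_mem _)
  obtain ⟨m, hm⟩ := h
  exact ⟨m, hm.symm⟩

/-- With rank one the matrix of contributions has rank one. -/
theorem cont_mul_cont_eq [Fact (Nat.Prime 2)] (hb : IsPBlock M b) (h1 : blockRank 2 b = 1)
    (χ ψ : IrrCharacter G) :
    cont 2 y b χ ψ 1 * cont 2 y b ψ χ 1 = cont 2 y b χ χ 1 * cont 2 y b ψ ψ 1 := by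
  obtain ⟨f, -, hf⟩ := finrank_eq_one_iff'.1 (show Module.finrank ℂ (Submodule.span ℂ
    ((fun φ : IrrCharacter (H56.Subsec.CZ y) =>
      pRegularPart 2 (φ : H56.Subsec.CZ y → ℂ)) '' b)) = 1 from h1)
  have hmem : ∀ ξ : IrrCharacter G, bpart 2 y b ξ ∈ Submodule.span ℂ
      ((fun φ : IrrCharacter (H56.Subsec.CZ y) =>
        pRegularPart 2 (φ : H56.Subsec.CZ y → ℂ)) '' b) := by
    intro ξ
    have e : bpart 2 y b ξ = ∑ φ ∈ mem' b, ((mult y ξ φ : ℂ) * scal y φ) •
        pRegularPart 2 (φ : H56.Subsec.CZ y → ℂ) := by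
      funext x
      rw [H56.Subsec.bpart_apply, Finset.sum_apply]
      refine Finset.sum_congr rfl fun φ _ => ?_
      simp only [Pi.smul_apply, smul_eq_mul, H42.regRes, pRegularPart, IsPRegular]
      by_cases hx : 2 ∣ orderOf x <;> simp [hx]
    rw [e]
    exact Submodule.sum_mem _ fun φ hφ => Submodule.smul_mem _ _
      (Submodule.subset_span ⟨φ, H56.Subsec.mem_mem'.1 hφ, rfl⟩)
  obtain ⟨a, ha⟩ := hf ⟨_, hmem χ⟩
  obtain ⟨a', ha'⟩ := hf ⟨_, hmem ψ⟩
  replace ha : bpart 2 y b χ = a • (f : H56.Subsec.CZ y → ℂ) := (congrArg Subtype.val ha).symm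
  replace ha' : bpart 2 y b ψ = a' • (f : H56.Subsec.CZ y → ℂ) := (congrArg Subtype.val ha').symm
  simp only [H56.Subsec.cont_one_eq hb, ha, ha', Pi.smul_apply, smul_eq_mul, map_mul,
    Finset.mul_sum, Finset.sum_mul]
  refine Finset.sum_congr rfl fun x _ => Finset.sum_congr rfl fun w _ => ?_
  ring

/-- A major subsection at an involution has rank two when the heights are large. -/
theorem two_le_blockRank [Fact (Nat.Prime 2)] [CharP (ResField M) 2] (hM : IsPModular 2 M)
    (hy : orderOf y = 2) (hind : IsInducedBlock M (H56.Subsec.CZ y) b B)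
    (hbd : blockDefect 2 b = blockDefect 2 B)
    (hsum : 2 ^ blockDefect 2 B <
      ∑ χ ∈ mem' B, 4 ^ blockHeight 2 B (χ : G → ℂ)) : 2 ≤ blockRank 2 b := by
  have hpos := H23.OneSubsection.blockRank_pos (p := 2) hind.1
  by_contra hlt
  have h1 : blockRank 2 b = 1 := by omega
  have hy' : ∃ k : ℕ, orderOf y = 2 ^ k := ⟨1, by rw [pow_one]; exact hy⟩
  obtain ⟨ψ, hψ, hψ0⟩ := H41.exists_height_zero (p := 2) (H41.IsPBlock.nonempty hind.2.1)
  choose T hT using fun χ : IrrCharacter G => exists_int_cont (b := b) hy χ χ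
  have hTnn : ∀ χ, 0 ≤ T χ := fun χ => by
    have := H56.Subsec.re_cont_self_nonneg hM hy' hind (N := 2) two_ne_zero
      (hy ▸ pow_orderOf_eq_one y) χ (k := 1) (by simp [H56.Twist.units])
    rw [hT] at this
    simpa using this
  have hodd : ∀ χ ∈ B, ¬ (2 : ℤ) ∣ T χ ∨ blockHeight 2 B (χ : G → ℂ) ≠ 0 := by
    intro χ hχ
    refine or_iff_not_imp_right.2 fun h0 hdvd => ?_
    refine H56.Subsec.res_cont_ne_zero hM hy' hind hχ (not_not.1 h0) hχ (not_not.1 h0) 1
      (H41.isIntegral_mem_localRing (H56.Subsec.isIntegral_cont χ χ 1)) ?_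
    rw [show (⟨cont 2 y b χ χ 1, _⟩ : localRing M) = ((T χ : ℤ) : localRing M) from
      Subtype.ext (by simp [hT]), map_intCast]
    exact (H41.IsPModular.intCast_eq_zero_iff hM _).2 hdvd
  have hψodd : ¬ (2 : ℤ) ∣ T ψ := (hodd ψ hψ).resolve_right (not_not.2 hψ0)
  have hge : ∀ χ ∈ B, (4 : ℤ) ^ blockHeight 2 B (χ : G → ℂ) ≤ T χ := by
    intro χ hχ
    obtain ⟨m, hm⟩ := exists_int_cont (b := b) hy ψ χ
    set t := blockHeight 2 B (χ : G → ℂ) with ht
    have hint := H56.Subsec.isIntegral_redCont hM hy' hind hbd ψ hχ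
    have he : redCont 2 y b B ψ χ = ((((m : ℚ) / ((2 : ℤ) ^ t : ℤ)) : ℚ) : ℂ) := by
      rw [H56.Subsec.redCont, hm]
      push_cast
      simp [← ht]
    have hred := H56.Subsec.res_redCont_eq_zero_iff hM hy' hind hbd hψ hχ
    rw [he] at hint
    obtain ⟨q, hq⟩ := H43.exists_int_of_isIntegral hint
    have hqm : q * 2 ^ t = m := by
      rw [eq_div_iff (by positivity)] at hq
      exact_mod_cast hq
    have hqodd : ¬ (2 : ℤ) ∣ q := by
      intro hdvd
      refine (not_iff_not.2 hred).2 (not_not.2 hψ0) ?_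
      rw [show (⟨redCont 2 y b B ψ χ, _⟩ : localRing M) = ((q : ℤ) : localRing M) from
        Subtype.ext (by show redCont 2 y b B ψ χ = _; rw [he, ← hq]; simp), map_intCast]
      exact (H41.IsPModular.intCast_eq_zero_iff hM _).2 hdvd
    have hmc : cont 2 y b χ ψ 1 = (m : ℂ) := by
      rw [← H56.Subsec.conj_cont, hm, map_intCast]
    have key : m * m = T χ * T ψ := by
      have := cont_mul_cont_eq hind.1 h1 χ ψ
      rw [hmc, hm, hT, hT] at this
      exact_mod_cast this
    have h4 : (4 : ℤ) ^ t ∣ T χ := by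
      refine IsCoprime.dvd_of_dvd_mul_right (z := T ψ) (IsCoprime.pow_left (Int.isCoprime_iff_nat_coprime.2 ?_))
        ((dvd_mul_left ((4 : ℤ) ^ t) (q * q)).trans (dvd_of_eq ?_))
      · have : Odd (T ψ) := Int.not_even_iff_odd.1 fun h => hψodd (even_iff_two_dvd.1 h)
        show Nat.Coprime (2 ^ 2) _
        exact Nat.Coprime.pow_left 2 this.natAbs.coprime_two_left
      · rw [← key, ← hqm, show (4 : ℤ) = 2 * 2 by norm_num, mul_pow]; ring
    refine Int.le_of_dvd ((hTnn χ).lt_of_ne fun h0 => ?_) h4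
    rw [← h0, zero_mul, ← hqm, mul_self_eq_zero] at key
    rcases mul_eq_zero.1 key with e | e
    · exact hqodd (e ▸ dvd_zero 2)
    · exact absurd e (by positivity)
  have hs := H56.Subsec.sum_cont_self hM hy' hind
  rw [h1, hbd, Finset.sum_congr rfl fun χ _ => hT χ, ← Int.cast_sum] at hs
  have hs' : ∑ χ ∈ mem' B, T χ = (2 : ℤ) ^ blockDefect 2 B := by
    apply Int.cast_injective (α := ℂ)
    rw [hs]
    simp
  have hle : ∑ χ ∈ mem' B, (4 : ℤ) ^ blockHeight 2 B (χ : G → ℂ) ≤ ∑ χ ∈ mem' B, T χ :=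
    Finset.sum_le_sum fun χ hχ => hge χ (H56.Subsec.mem_mem'.1 hχ)
  rw [hs'] at hle
  have : ((∑ χ ∈ mem' B, 4 ^ blockHeight 2 B (χ : G → ℂ) : ℕ) : ℤ) ≤
      ((2 ^ blockDefect 2 B : ℕ) : ℤ) := by
    push_cast
    exact hle
  omega

end Major

variable {G : Type u} [Group G] [Finite G]

/-- The count of the members forces the fusion of all the involutions. -/
theorem fused_of_invariants {M : Ideal AlgInt} (hM : IsPModular 2 M) {B : Set (IrrCharacter G)}
    (hB : IsPBlock M B) {D : Subgroup G} (hD : IsDefectGroup 2 M B D) {n : ℕ} (hn : 4 ≤ n)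
    (hcard : Nat.card D = 2 ^ n) (hsd : IsQuasiDihedral D) (hl : 3 ≤ blockRank 2 B)
    (hk : Nat.card B = 2 ^ (n - 2) + 4)
    (h0 : Nat.card {χ : IrrCharacter G // χ ∈ B ∧ blockHeight 2 B (χ : G → ℂ) = 0} = 4)
    (h1 : Nat.card {χ : IrrCharacter G // χ ∈ B ∧ blockHeight 2 B (χ : G → ℂ) = 1} =
      2 ^ (n - 2) - 1)
    (hht : ∀ χ ∈ B, blockHeight 2 B (χ : G → ℂ) = 0 ∨ blockHeight 2 B (χ : G → ℂ) = 1 ∨
      blockHeight 2 B (χ : G → ℂ) = n - 2) : TameRankThree.Fused D := by
  haveI : Fintype G := Fintype.ofFinite G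
  haveI : Fact (Nat.Prime 2) := ⟨Nat.prime_two⟩
  haveI : M.IsMaximal := hM.2.1
  haveI := H41.IsPModular.charP hM
  obtain ⟨σ, τ, hd⟩ := exists_sdData hn hcard hsd
  generalize hh : 2 ^ (n - 2) = h at hd hk h1
  have h4 := hd.four_le
  have hz := orderOf_z hd
  have hzA : σ ^ h ∈ Subgroup.zpowers σ := Subgroup.pow_mem _ (Subgroup.mem_zpowers σ) h
  have hzD : σ ^ h ∈ D := zpowers_le hd hzA
  suffices hfz : IsConj (σ ^ h) τ from
    ⟨σ ^ h, hz, hzD, fun d hdD => z_comm hd hdD, fun w hw hc ho => eq_z_of_central hd hw hc ho,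
      τ, hd.τ_mem, σ * τ * σ⁻¹, D.mul_mem (D.mul_mem hd.σ_mem hd.τ_mem) (D.inv_mem hd.σ_mem),
      hfz, hfz.trans (isConj_iff.2 ⟨σ, rfl⟩), not_commute hd⟩
  by_contra hnot
  have hS := split M G
  have hb := isBlockEl_elTop hB
  obtain ⟨e₀, hm⟩ := H40.NilpotentBlocks.exists_isMaxEl_of_defect hM hB hD
  have hex : ∀ u : G, ∃ b : Set (IrrCharacter (Subgroup.centralizer ({u} : Set G))),
      u ∈ D → H40.SubAt 2 M D e₀ u b := by
    intro u
    by_cases hu : u ∈ D
    · obtain ⟨f, hf, -⟩ := existsUnique_ple hS hm.pair (Subgroup.zpowers u)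
        (Subgroup.zpowers_le.2 hu)
      have hblk : IsBlockEl (Subgroup.centralizer ({u} : Set G)) f := by
        rw [← H40.centralizer_zpowers_eq]
        simpa using (hf.left hm.pair).block
      obtain ⟨b, hb', rfl⟩ := exists_el_eq hblk
      exact ⟨b, fun _ => ⟨hb', hf⟩⟩
    · exact ⟨∅, fun h' => absurd h' hu⟩
  choose bl hbl using hex
  have hpos : ∀ u ∈ D, 1 ≤ blockRank 2 (bl u) := fun u hu =>
    H23.OneSubsection.blockRank_pos (p := 2) (hbl u hu).1
  -- the block at the central involution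
  obtain ⟨c, hc, hcar, hbel⟩ := exists_carried_block hB hm hzD
  have hdef := blockDefect_eq_of_central hM hB hm hzD
    (Subgroup.mem_centralizer_iff.2 fun y hy => z_comm hd hy) hc hcar
  have hind := isInducedBlock_of_below hM hB (j := 1) (by rw [pow_one]; exact hz) hc hbel
  have hdefB : blockDefect 2 B = n := Nat.pow_right_injective le_rfl
    ((H40.card_defectGroup hM hB hD).symm.trans hcard)
  have hzrank : 2 ≤ blockRank 2 (bl (σ ^ h)) := by
    have hle : PLe 2 ⊤ (Subgroup.zpowers (σ ^ h), el M (CZ (σ ^ h)) c) (D, e₀) := by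
      unfold CarriesInto at hcar
      rwa [cS_one, cj_one_apply] at hcar
    rw [← blockRank_eq_of_el_eq (H40.centralizer_zpowers_eq _) hc (hbl _ hzD).1
      (ple_unique hS hm.pair hle (hbl _ hzD).2)]
    refine two_le_blockRank hM hz hind hdef ?_
    rw [hdefB]
    set P0 := (H56.Subsec.mem' B).filter fun χ : IrrCharacter G =>
      blockHeight 2 B (χ : G → ℂ) = 0
    set P1 := (H56.Subsec.mem' B).filter fun χ : IrrCharacter G =>
      blockHeight 2 B (χ : G → ℂ) = 1
    have e0 : P0.card = 4 := by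
      rw [← h0, Nat.card_eq_fintype_card, Fintype.card_subtype]
      congr 1
      ext χ
      simp [P0, H56.Subsec.mem_mem']
    have e1 : P1.card = h - 1 := by
      rw [← h1, Nat.card_eq_fintype_card, Fintype.card_subtype]
      congr 1
      ext χ
      simp [P1, H56.Subsec.mem_mem']
    have eB : (H56.Subsec.mem' B).card = h + 4 := by
      rw [← hk, Nat.card_eq_fintype_card, Fintype.card_subtype]
      rfl
    have hdis : Disjoint P0 P1 := Finset.disjoint_left.2 fun χ hx hx' => by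
      simp only [P0, P1, Finset.mem_filter] at hx hx'
      omega
    obtain ⟨χ, hχ, hχn⟩ : ∃ χ ∈ H56.Subsec.mem' B, χ ∉ P0 ∪ P1 :=
      Finset.exists_mem_notMem_of_card_lt_card (by
        rw [Finset.card_union_of_disjoint hdis, e0, e1, eB]; omega)
    have hχh : blockHeight 2 B (χ : G → ℂ) = n - 2 := by
      simp only [P0, P1, Finset.mem_union, Finset.mem_filter, hχ, true_and, not_or] at hχn
      rcases hht χ (H56.Subsec.mem_mem'.1 hχ) with e | e | e <;> omega
    calc 2 ^ n < 4 * 1 + (h - 1) * 4 + h * h := by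
          have hn2 : 2 ^ n = 4 * h := by
            rw [← hh, show 4 = 2 ^ 2 from rfl, ← pow_add]; congr 1; omega
          have : 4 * 4 ≤ h * h := Nat.mul_le_mul h4 h4
          omega
      _ = (∑ ξ ∈ P0, 4 ^ blockHeight 2 B (ξ : G → ℂ)) +
            (∑ ξ ∈ P1, 4 ^ blockHeight 2 B (ξ : G → ℂ)) + 4 ^ blockHeight 2 B (χ : G → ℂ) := by
          rw [Finset.sum_congr rfl (g := fun _ => 1) fun ξ hξ => by
              rw [(Finset.mem_filter.1 hξ).2, pow_zero],
            Finset.sum_congr rfl (s₁ := P1) (g := fun _ => 4) fun ξ hξ => by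
              rw [(Finset.mem_filter.1 hξ).2, pow_one],
            Finset.sum_const, Finset.sum_const, e0, e1, hχh, ← hh, ← mul_pow]
          simp
      _ = ∑ ξ ∈ insert χ (P0 ∪ P1), 4 ^ blockHeight 2 B (ξ : G → ℂ) := by
          rw [Finset.sum_insert hχn, Finset.sum_union hdis]; ring
      _ ≤ _ := Finset.sum_le_sum_of_subset (Finset.insert_subset hχ
          (Finset.union_subset (Finset.filter_subset _ _) (Finset.filter_subset _ _)))
  -- representatives of the rotations
  let ι : ℕ → ℕ := fun i => (h - 1) * i % (2 * h)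
  have hι : ∀ i, σ ^ ι i = τ * σ ^ i * τ⁻¹ := fun i => by
    rw [conj_pow hd, pow_eq_iff hd]
    exact Nat.mod_modEq _ _
  let S₀ : Finset ℕ := (Finset.range (2 * h)) \ {0, h}
  let F := S₀.filter fun i => i < ι i
  have hS₀ : ∀ i ∈ S₀, i < 2 * h ∧ σ ^ i ≠ 1 ∧ σ ^ i ≠ σ ^ h := by
    intro i hi
    simp only [S₀, Finset.mem_sdiff, Finset.mem_range, Finset.mem_insert, Finset.mem_singleton,
      not_or] at hi
    have hinj := pow_injOn_Iio_orderOf (x := σ)
    rw [hd.order] at hinj
    refine ⟨hi.1, fun e => hi.2.1 (hinj hi.1 (by simp only [Set.mem_Iio]; omega) (by simp [e])),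
      fun e => hi.2.2 (hinj hi.1 (by simp only [Set.mem_Iio]; omega) e)⟩
  have hιne : ∀ i ∈ S₀, ι i ≠ i := by
    intro i hi e
    obtain ⟨-, h1', h2'⟩ := hS₀ i hi
    rcases fix_pow hd (show σ ^ ((h - 1) * i) = σ ^ i by rw [← conj_pow hd, ← hι, e])
      with e' | e' <;> contradiction
  have hττ : ∀ w : G, τ * (τ * w * τ⁻¹) * τ⁻¹ = w := fun w => by
    have : τ * τ = 1 := by rw [← pow_two, ← hd.τ_two, pow_orderOf_eq_one]
    calc _ = τ * τ * w * (τ * τ)⁻¹ := by group
      _ = w := by rw [this, one_mul, _root_.inv_one, mul_one]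
  have hιι : ∀ i < 2 * h, ι (ι i) = i := fun i hi => by
    have e : σ ^ ι (ι i) = σ ^ i := by rw [hι, hι, hττ]
    rw [pow_eq_iff hd, Nat.ModEq, Nat.mod_eq_of_lt hi, Nat.mod_eq_of_lt] at e
    · exact e
    · exact Nat.mod_lt _ (by omega)
  have hFcard : h - 1 ≤ F.card := by
    have hsub : S₀ ⊆ F ∪ F.image ι := by
      intro i hi
      rw [Finset.mem_union]
      rcases lt_trichotomy i (ι i) with hlt | heq | hgt
      · exact Or.inl (Finset.mem_filter.2 ⟨hi, hlt⟩)
      · exact absurd heq.symm (hιne i hi)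
      · refine Or.inr (Finset.mem_image.2 ⟨ι i, Finset.mem_filter.2 ⟨?_, ?_⟩, hιι i (hS₀ i hi).1⟩)
        · obtain ⟨hlt, h1', h2'⟩ := hS₀ i hi
          simp only [S₀, Finset.mem_sdiff, Finset.mem_range, Finset.mem_insert,
            Finset.mem_singleton, not_or]
          refine ⟨Nat.mod_lt _ (by omega), fun e => h1' ?_, fun e => h2' ?_⟩
          · have := hι i
            rw [e, pow_zero] at this
            rw [← hττ (σ ^ i), ← this, mul_one, mul_inv_cancel]
          · have := hι i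
            rw [e] at this
            rw [← hττ (σ ^ i), ← this, z_comm hd hd.τ_mem, mul_inv_cancel_right]
        · rw [hιι i (hS₀ i hi).1]; exact hgt
    have hc' := (Finset.card_le_card hsub).trans
      ((Finset.card_union_le _ _).trans (Nat.add_le_add_left Finset.card_image_le _))
    rw [Finset.card_sdiff_of_subset (by
        intro x hx
        simp only [Finset.mem_insert, Finset.mem_singleton] at hx
        rw [Finset.mem_range]
        omega), Finset.card_range, Finset.card_pair (by omega : 0 ≠ h)] at hc'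
    omega
  set R := F.image fun i => σ ^ i with hR
  have hRcard : R.card = F.card := Finset.card_image_of_injOn fun i hi j hj e => by
    have hinj := pow_injOn_Iio_orderOf (x := σ)
    rw [hd.order] at hinj
    exact hinj (hS₀ i (Finset.mem_filter.1 hi).1).1 (hS₀ j (Finset.mem_filter.1 hj).1).1 e
  have hRmem : ∀ w ∈ R, w ∈ Subgroup.zpowers σ ∧ w ≠ 1 ∧ w ≠ σ ^ h := by
    intro w hw
    obtain ⟨i, hi, rfl⟩ := Finset.mem_image.1 hw
    exact ⟨Subgroup.pow_mem _ (Subgroup.mem_zpowers σ) i, (hS₀ i (Finset.mem_filter.1 hi).1).2⟩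
  have hRsep : ∀ u ∈ R, ∀ v ∈ R, v ≠ τ * u * τ⁻¹ := by
    intro u hu v hv e
    obtain ⟨i, hi, rfl⟩ := Finset.mem_image.1 hu
    obtain ⟨j, hj, rfl⟩ := Finset.mem_image.1 hv
    obtain ⟨hi0, hi1⟩ := Finset.mem_filter.1 hi
    obtain ⟨hj0, hj1⟩ := Finset.mem_filter.1 hj
    have hji : j = ι i := by
      rw [← hι, pow_eq_iff hd, Nat.ModEq, Nat.mod_eq_of_lt (hS₀ j hj0).1, Nat.mod_eq_of_lt] at e
      · exact e
      · exact Nat.mod_lt _ (by omega)
    rw [hji, hιι i (hS₀ i hi0).1] at hj1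
    omega
  have hτz : τ ≠ σ ^ h := fun e => hd.τ_out (e ▸ hzA)
  have hzR : σ ^ h ∉ R := fun hm' => (hRmem _ hm').2.2 rfl
  have hτR : τ ∉ R := fun hm' => hd.τ_out (hRmem _ hm').1
  set s := insert τ (insert (σ ^ h) R)
  have hsD : ∀ u ∈ s, u ∈ D ∧ u ≠ 1 := by
    intro u hu
    rcases Finset.mem_insert.1 hu with rfl | hu
    · exact ⟨hd.τ_mem, fun e => by simpa [e] using hd.τ_two⟩
    rcases Finset.mem_insert.1 hu with rfl | hu
    · exact ⟨hzD, fun e => by simp [e] at hz⟩
    · exact ⟨zpowers_le hd (hRmem u hu).1, (hRmem u hu).2.1⟩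
  have hfus : ∀ u ∈ s, ∀ v ∈ s, ∀ g, Carry 2 (D, e₀) (Subgroup.zpowers u) g →
      g * u * g⁻¹ = v → u = v := by
    intro u hu v hv g hg huv
    have ho : orderOf v = orderOf u := by rw [← huv, ← MulAut.conj_apply, MulEquiv.orderOf_eq]
    have htwo : ∀ w ∈ insert (σ ^ h) R, orderOf w = 2 → w = σ ^ h := by
      intro w hw hw2
      rcases Finset.mem_insert.1 hw with e | hw
      · exact e
      · exact TICore.eq_of_mem_zpowers (g := σ) hz hw2 hzA (hRmem w hw).1
    have hmemA : ∀ w ∈ insert (σ ^ h) R, w ∈ Subgroup.zpowers σ := by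
      intro w hw
      rcases Finset.mem_insert.1 hw with rfl | hw
      · exact hzA
      · exact (hRmem w hw).1
    rcases Finset.mem_insert.1 hu with hu | hu <;> rcases Finset.mem_insert.1 hv with hv | hv
    · rw [hu, hv]
    · exfalso
      have e := htwo v hv (by rw [ho, hu, hd.τ_two])
      exact hnot (IsConj.symm (isConj_iff.2 ⟨g, by rw [← hu, huv, e]⟩))
    · exfalso
      have e := htwo u hu (by rw [← ho, hv, hd.τ_two])
      exact hnot (isConj_iff.2 ⟨g, by rw [← e, huv, hv]⟩)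
    · rcases eq_or_eq_of_carry hS hb hm hd (hmemA u hu) (hmemA v hv) hg huv with e | e
      · exact e.symm
      · rcases Finset.mem_insert.1 hu with hu | hu
        · rw [e, hu, z_comm hd hd.τ_mem, mul_inv_cancel_right]
        · rcases Finset.mem_insert.1 hv with hv | hv
          · exfalso
            refine (hRmem u hu).2.2 ?_
            rw [← hττ u, ← e, hv, z_comm hd hd.τ_mem, mul_inv_cancel_right]
          · exact absurd e (hRsep u hu v hv)
  have hmain := blockRank_add_sum_le hM hB hm s hsD bl (fun u hu => hbl u (hsD u hu).1) hfus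
  have hsum : R.card + blockRank 2 (bl (σ ^ h)) + 1 ≤ ∑ u ∈ s, blockRank 2 (bl u) := by
    rw [Finset.sum_insert (by simp [hτz, hτR]), Finset.sum_insert hzR]
    have h' : R.card ≤ ∑ u ∈ R, blockRank 2 (bl u) := by
      rw [Finset.card_eq_sum_ones]
      exact Finset.sum_le_sum fun u hu => hpos u (zpowers_le hd (hRmem u hu).1)
    have := hpos τ hd.τ_mem
    omega
  rw [hk] at hmain
  omega

end Cfsg.Agent.H22.SemiDihedral
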