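import Cfsg.Agent.H22.AbelianSylow
import Mathlib.GroupTheory.SpecificGroups.KleinFour

/-!
# Small abelian Sylow subgroups
-/

namespace Cfsg.Agent.H22

open Subgroup

variable {G : Type*} [Group G] {p : ℕ}

/-- If a prime `q ≠ p` of `|G|` divides no `p ^ n - p ^ i`, then `N(P) ≤ C(P)` for an abelian
Sylow subgroup `P` of order `p ^ n`. -/
theorem normalizer_le_centralizer_of_primes [hp : Fact p.Prime] [Finite G] (P : Sylow p G)
    (hP : IsMulCommutative P) {n : ℕ} (hcard : Nat.card P = p ^ n)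
    (h : ∀ q : ℕ, q.Prime → q ∣ Nat.card G → q ≠ p → ∀ i < n, ¬ q ∣ p ^ n - p ^ i) :
    Subgroup.normalizer (P : Set G) ≤ Subgroup.centralizer (P : Set G) := by
  set N := Subgroup.normalizer (P : Set G)
  set C := (Subgroup.centralizer (P : Set G)).subgroupOf N with hC
  by_contra hle
  have hidx : C.index ≠ 1 := fun he => hle (subgroupOf_eq_top.mp (index_eq_one.mp he))
  obtain ⟨q, hq, hqd⟩ := Nat.exists_prime_and_dvd hidx
  have hqG : q ∣ Nat.card G := hqd.trans ((index_dvd_card C).trans (card_subgroup_dvd_card N))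
  have hPC : (P : Subgroup G).subgroupOf N ≤ C := fun x hx =>
    mem_centralizer_iff.mpr fun y hy =>
      congrArg Subtype.val (hP.is_comm.comm (⟨y, hy⟩ : P) ⟨x, hx⟩)
  have hqp : q ≠ p := fun he => P.not_dvd_index (by
    have h1 : q ∣ (P : Subgroup G).index :=
      (hqd.trans (index_dvd_of_le hPC)).trans (relIndex_dvd_index_of_le le_normalizer)
    rwa [he] at h1)
  have : Fact q.Prime := ⟨hq⟩
  obtain ⟨R⟩ := (inferInstance : Nonempty (Sylow q N))
  have hRC : ¬ (R : Subgroup N) ≤ C := fun hRC => R.not_dvd_index (hqd.trans (index_dvd_of_le hRC))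
  obtain ⟨r, hr, hrC⟩ := SetLike.not_le_iff_exists.mp hRC
  let φ : R →* MulAut P := (Subgroup.normalizerMonoidHom (P : Subgroup G)).comp (R : Subgroup N).subtype
  let _ : MulAction R P := MulAction.compHom P φ
  let F : Subgroup P :=
    { carrier := MulAction.fixedPoints R P
      one_mem' := fun g => map_one (φ g)
      mul_mem' := fun {a b} ha hb g => (map_mul (φ g) a b).trans (congrArg₂ (· * ·) (ha g) (hb g))
      inv_mem' := fun {a} ha g => (map_inv (φ g) a).trans (congrArg Inv.inv (ha g)) }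
  obtain ⟨i, hi, hFcard⟩ := (Nat.dvd_prime_pow hp.out).mp (hcard ▸ card_subgroup_dvd_card F)
  have hFtop : F ≠ ⊤ := fun htop => hrC (mem_centralizer_iff.mpr fun x hx => by
    have h1 : φ ⟨r, hr⟩ ⟨x, hx⟩ = ⟨x, hx⟩ := (htop ▸ mem_top (⟨x, hx⟩ : P) : (⟨x, hx⟩ : P) ∈ F) ⟨r, hr⟩
    have h2 : (r : G) * x * (r : G)⁻¹ = x := congrArg Subtype.val h1
    calc x * (r : G) = ((r : G) * x * (r : G)⁻¹) * r := by rw [h2]
      _ = r * x := inv_mul_cancel_right _ _)
  have hin : i < n := lt_of_le_of_ne hi fun he => hFtop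
    (eq_top_of_card_eq _ (by rw [hFcard, he, hcard]))
  have hmod : Nat.card P ≡ Nat.card F [MOD q] := R.2.card_modEq_card_fixedPoints (α := P)
  rw [hcard, hFcard] at hmod
  exact h q hq hqG hqp i hin
    ((Nat.modEq_iff_dvd' (Nat.pow_le_pow_right hp.out.pos hin.le)).mp hmod.symm)

/-- A Klein four Sylow 2-subgroup and `3 ∤ |G|` give a normal 2-complement. -/
theorem klein_four_sylow_normal_complement [Finite G] (T : Sylow 2 G) (hT : IsKleinFour T)
    (h3 : ¬ 3 ∣ Nat.card G) : HasNormalPComplement 2 G := by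
  have hc : IsMulCommutative (T : Subgroup G) :=
    IsMulCommutative.of_comm (mul_comm_of_exponent_two hT.exponent_two)
  refine burnside_normal_complement T (normalizer_le_centralizer_of_primes T hc (n := 2)
    (by rw [hT.card_four]; norm_num) fun q hq hqG hq2 i hi hd => h3 ?_)
  have : q = 3 := by
    interval_cases i
    · exact (Nat.prime_dvd_prime_iff_eq hq Nat.prime_three).mp hd
    · exact absurd ((Nat.prime_dvd_prime_iff_eq hq Nat.prime_two).mp hd) hq2
  exact this ▸ hqG

/-- An elementary abelian Sylow 2-subgroup of order 8 and `3, 7 ∤ |G|` give a normal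
2-complement. -/
theorem elementary_eight_normal_complement [Finite G] (T : Sylow 2 G) (h8 : Nat.card T = 8)
    (he : ∀ x : T, x * x = 1) (h3 : ¬ 3 ∣ Nat.card G) (h7 : ¬ 7 ∣ Nat.card G) :
    HasNormalPComplement 2 G := by
  have hc : IsMulCommutative T := IsMulCommutative.of_comm fun a b => by
    have h1 : (a * b)⁻¹ = a * b := inv_eq_of_mul_eq_one_right (he _)
    rw [← h1, mul_inv_rev, inv_eq_of_mul_eq_one_right (he a), inv_eq_of_mul_eq_one_right (he b)]
  refine burnside_normal_complement T (normalizer_le_centralizer_of_primes T hc (n := 3)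
    (by rw [h8]; norm_num) fun q hq hqG hq2 i hi hd => ?_)
  interval_cases i
  · exact h7 ((Nat.prime_dvd_prime_iff_eq hq (by decide : Nat.Prime 7)).mp hd ▸ hqG)
  · have hd' : q ∣ 2 * 3 := hd
    rcases hq.dvd_mul.mp hd' with h | h
    · exact hq2 ((Nat.prime_dvd_prime_iff_eq hq Nat.prime_two).mp h)
    · exact h3 ((Nat.prime_dvd_prime_iff_eq hq Nat.prime_three).mp h ▸ hqG)
  · have hd' : q ∣ 2 * 2 := hd
    rcases hq.dvd_mul.mp hd' with h | h <;>
      exact hq2 ((Nat.prime_dvd_prime_iff_eq hq Nat.prime_two).mp h)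

/-- A nonabelian simple group has no normal `p`-complement for a prime divisor `p` of its order. -/
theorem not_hasNormalPComplement_of_simple [hp : Fact p.Prime] [Finite G] [IsSimpleGroup G]
    (hG : ∃ x y : G, x * y ≠ y * x) (hdvd : p ∣ Nat.card G) : ¬ HasNormalPComplement p G := by
  rintro ⟨P, N, hN, hc⟩
  rcases hN.eq_bot_or_eq_top with rfl | rfl
  · have hP : (P : Subgroup G) = ⊤ := isComplement'_bot_left.mp hc
    have hpG : IsPGroup p G := (hP ▸ P.2).of_equiv Subgroup.topEquiv
    have hc := (inferInstance : (center G).Normal).eq_bot_or_eq_top.resolve_left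
      (hpG.bot_lt_center).ne'
    obtain ⟨x, y, hxy⟩ := hG
    exact hxy (mem_center_iff.mp (hc ▸ mem_top x : x ∈ center G) y).symm
  · exact P.ne_bot_of_dvd_card hdvd (isComplement'_top_left.mp hc)

/-- A nonabelian simple group: `p ^ 3` or `12` divides the order, `p` the least prime divisor. -/
theorem simple_order_cube_or_twelve [Finite G] [IsSimpleGroup G]
    (hG : ∃ x y : G, x * y ≠ y * x) :
    (Nat.card G).minFac ^ 3 ∣ Nat.card G ∨ 12 ∣ Nat.card G := by
  set p := (Nat.card G).minFac with hp_def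
  have hne : Nat.card G ≠ 1 := Finite.one_lt_card.ne'
  have : Fact p.Prime := ⟨Nat.minFac_prime hne⟩
  have hdvd : p ∣ Nat.card G := Nat.minFac_dvd _
  obtain ⟨P⟩ := (inferInstance : Nonempty (Sylow p G))
  obtain ⟨n, hn⟩ := P.2.exists_card_eq
  by_cases h3 : 3 ≤ n
  · exact Or.inl ((pow_dvd_pow p h3).trans (hn ▸ card_subgroup_dvd_card _))
  right
  by_contra h12
  refine not_hasNormalPComplement_of_simple hG hdvd (burnside_normal_complement P ?_)
  have hn0 : n ≠ 0 := by
    rintro rfl
    exact P.ne_bot_of_dvd_card hdvd (card_eq_one.mp (by rw [hn, pow_zero]))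
  have hp1 := (Fact.out : p.Prime).one_lt
  have hc : IsMulCommutative P := by
    rcases (show n = 1 ∨ n = 2 by omega) with rfl | rfl
    · have : IsCyclic P := isCyclic_of_prime_card (by rw [hn, pow_one])
      infer_instance
    · exact IsPGroup.isMulCommutative_of_card_eq_prime_sq hn
  refine normalizer_le_centralizer_of_primes P hc hn fun q hq hqG hqp i hi hd => ?_
  have hlt : p < q := lt_of_le_of_ne (Nat.minFac_le_of_dvd hq.two_le hqG) hqp.symm
  have hsub : ¬ q ∣ p - 1 := fun h => absurd (Nat.le_of_dvd (by omega) h) (by omega)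
  rcases (show (n = 1 ∧ i = 0) ∨ (n = 2 ∧ i = 0) ∨ (n = 2 ∧ i = 1) by omega) with
    ⟨rfl, rfl⟩ | ⟨rfl, rfl⟩ | ⟨rfl, rfl⟩
  · rw [pow_one, pow_zero] at hd
    exact hsub hd
  · have e : p ^ 2 - p ^ 0 = (p + 1) * (p - 1) := by
      rw [pow_zero, ← Nat.sq_sub_sq]; simp
    rw [e] at hd
    have hq1 : q = p + 1 := by
      have := Nat.le_of_dvd (by omega) ((hq.dvd_mul.mp hd).resolve_right hsub)
      omega
    rcases (Fact.out : p.Prime).eq_two_or_odd with h2 | hodd
    · have hq3 : q = 3 := by omega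
      refine h12 ((Nat.Coprime.mul_dvd_of_dvd_of_dvd (by norm_num : Nat.Coprime 4 3)) ?_ (hq3 ▸ hqG))
      have : p ^ 2 ∣ Nat.card G := hn ▸ card_subgroup_dvd_card _
      rwa [h2] at this
    · rcases hq.eq_two_or_odd with h2 | hodd'
      · omega
      · omega
  · have e : p ^ 2 - p ^ 1 = p * (p - 1) := by rw [Nat.mul_sub, mul_one, pow_one, sq]
    rw [e] at hd
    exact hqp ((Nat.prime_dvd_prime_iff_eq hq Fact.out).mp ((hq.dvd_mul.mp hd).resolve_right hsub))

end Cfsg.Agent.H22
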