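import Cfsg.Agent.H41.SolvableHeight
import Cfsg.Agent.H25.SolvablePSolvable
import Cfsg.Prelude.Def_BlockRank

/-!
# Fusion of central involutions in solvable groups

Over an invariant character of the odd core a defect group is a Sylow subgroup; a central
involution of it lies in the centre of the `2`-core modulo the odd core, and so do its conjugates in
the defect group, which therefore commute.  The general case reduces by Fong-Reynolds.
-/

set_option autoImplicit false
set_option linter.unusedSectionVars false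
set_option linter.style.haveILetI false

namespace Cfsg.Agent.H22.TameSolvable

open Cfsg

universe u

variable {G : Type u} [Group G] [Fintype G] {p : ℕ} [hp : Fact p.Prime]

/-- Two elements of a Sylow subgroup conjugate to a central element of it commute, for a
constrained quotient by the `p'`-core. -/
theorem commute_of_invariant (hsolv : IsPSolvable p G) {D : Subgroup G} (hD : IsPGroup p D)
    (hidx : ¬ p ∣ D.index) {z t t' : G} (hzD : z ∈ D) (hz : ∀ d ∈ D, d * z = z * d)
    (ht : IsConj z t) (htD : t ∈ D) (ht' : IsConj z t') (htD' : t' ∈ D) : t * t' = t' * t := by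
  classical
  set N := pPrimeCore p G with hNdef
  haveI hNn : N.Normal := H19.pPrimeCore_normal p G
  have hn : ¬ p ∣ Nat.card N :=
    (Nat.Prime.coprime_iff_not_dvd hp.out).1 (H19.pPrimeCore_coprime p).symm
  set q := QuotientGroup.mk' N with hq
  set Q := pCore p (G ⧸ N) with hQ
  haveI hQn : Q.Normal := H19.pCore_normal p _
  have hcent : Subgroup.centralizer (Q : Set (G ⧸ N)) ≤ Q := by
    refine H35.centralizer_pCore_le_of_isPSolvable (H19.pPrimeCore_quotient_pPrimeCore p)
      (H35.isPSolvable_subgroup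
        (H84.isPSolvable_of_surjective q (QuotientGroup.mk'_surjective _) hsolv) _)
  -- the core lies in the image of `D`
  have hQD : Q ≤ D.map q := by
    let P : Sylow p G := hD.toSylow hidx
    have hP : (P : Subgroup G) = D := hD.toSylow_coe hidx
    let P' : Sylow p (G ⧸ N) := P.mapSurjective (QuotientGroup.mk'_surjective N)
    have hP' : (P' : Subgroup (G ⧸ N)) = D.map q := by
      show (P : Subgroup G).map q = _
      rw [hP]
    obtain ⟨g, hg⟩ := (H19.pCore_isPGroup p (G := G ⧸ N)).exists_le_sylow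
    obtain ⟨a, ha⟩ := MulAction.exists_smul_eq (G ⧸ N) g P'
    have : Q ≤ (P' : Subgroup (G ⧸ N)) := by
      rw [← ha, Sylow.coe_subgroup_smul]
      intro x hx
      rw [Subgroup.mem_pointwise_smul_iff_inv_smul_mem]
      refine hg ?_
      rw [MulAut.smul_def, ← map_inv, MulAut.conj_apply]
      exact hQn.conj_mem x hx a⁻¹
    rwa [hP'] at this
  have hzc : ∀ w ∈ Q, q z * w = w * q z := by
    intro w hw
    obtain ⟨d, hd, rfl⟩ := hQD hw
    rw [← map_mul, ← map_mul, hz d hd]
  have hzQ : q z ∈ Q := hcent (Subgroup.mem_centralizer_iff.2 fun w hw => (hzc w hw).symm)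
  have hconj : ∀ {x : G}, IsConj z x → q x ∈ Q ∧ ∀ w ∈ Q, q x * w = w * q x := by
    intro x hx
    obtain ⟨g, rfl⟩ := isConj_iff.1 hx
    simp only [map_mul, map_inv]
    refine ⟨hQn.conj_mem _ hzQ _, fun w hw => ?_⟩
    have h1 := hzc ((q g)⁻¹ * w * q g) (by simpa using hQn.conj_mem w hw (q g)⁻¹)
    calc q g * q z * (q g)⁻¹ * w = q g * (q z * ((q g)⁻¹ * w * q g)) * (q g)⁻¹ := by group
      _ = w * (q g * q z * (q g)⁻¹) := by rw [h1]; group
  have heq : q (t * t') = q (t' * t) := by
    rw [map_mul, map_mul]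
    exact (hconj ht).2 _ (hconj ht').1
  have h1 : (t * t')⁻¹ * (t' * t) ∈ N := QuotientGroup.eq.1 heq
  have h2 : (t * t')⁻¹ * (t' * t) ∈ D :=
    D.mul_mem (D.inv_mem (D.mul_mem htD htD')) (D.mul_mem htD' htD)
  obtain ⟨k, hk⟩ := IsPGroup.iff_orderOf.1 hD ⟨_, h2⟩
  rw [Subgroup.orderOf_mk] at hk
  have h3 := orderOf_dvd_natCard (⟨_, h1⟩ : N)
  rw [Subgroup.orderOf_mk] at h3
  have h4 : orderOf ((t * t')⁻¹ * (t' * t)) = 1 := Nat.eq_one_of_dvd_coprimes
    (Nat.Coprime.pow_left k ((Nat.Prime.coprime_iff_not_dvd hp.out).2 hn)) (dvd_of_eq hk) h3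
  rw [orderOf_eq_one_iff, inv_mul_eq_one] at h4
  exact h4

/-- The rank of an induced block is at most the rank of the block above. -/
theorem blockRank_le {T : Subgroup G} [Fintype T] {B' : Set (IrrCharacter T)}
    {B : Set (IrrCharacter G)}
    (hmem : ∀ χ : IrrCharacter G, χ ∈ B ↔ ∃ ψ ∈ B', χ.1 = Cfsg.indFun T ψ.1) :
    blockRank p B ≤ blockRank p B' := by
  classical
  let Φ : (T → ℂ) →ₗ[ℂ] (G → ℂ) :=
    { toFun := fun θ => Cfsg.indFun T θ
      map_add' := fun θ φ => H25.indFun_add T θ φ
      map_smul' := fun c θ => H25.indFun_smul T c θ }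
  haveI : Module.Finite ℂ (Submodule.span ℂ ((fun ψ : IrrCharacter T =>
      pRegularPart p (ψ : T → ℂ)) '' B')) :=
    FiniteDimensional.span_of_finite ℂ ((Set.toFinite B').image _)
  refine le_trans (Submodule.finrank_mono (Submodule.span_le.2 ?_))
    (Submodule.finrank_map_le Φ _)
  rintro _ ⟨χ, hχ, rfl⟩
  obtain ⟨ψ, hψ, he⟩ := (hmem χ).1 hχ
  refine ⟨pRegularPart p (ψ : T → ℂ), Submodule.subset_span ⟨ψ, hψ, rfl⟩, funext fun g => ?_⟩
  show Cfsg.indFun T (pRegularPart p (ψ : T → ℂ)) g = pRegularPart p (χ : G → ℂ) g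
  rw [he, H25.indFun_apply, pRegularPart, H25.indFun_apply]
  have hterm : ∀ x : G, extendByZero T (pRegularPart p (ψ : T → ℂ)) (x⁻¹ * g * x) =
      if IsPRegular p g then extendByZero T (ψ : T → ℂ) (x⁻¹ * g * x) else 0 := by
    intro x
    by_cases hx : x⁻¹ * g * x ∈ T
    · rw [H25.extendByZero_of_mem _ _ hx, H25.extendByZero_of_mem _ _ hx, pRegularPart]
      have he' : IsPRegular p (⟨_, hx⟩ : T) ↔ IsPRegular p g := by
        unfold IsPRegular
        rw [Subgroup.orderOf_mk, show x⁻¹ * g * x = MulAut.conj x⁻¹ g by simp, MulEquiv.orderOf_eq]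
      simp only [he']
    · rw [H25.extendByZero_of_notMem _ _ hx, H25.extendByZero_of_notMem _ _ hx]
      simp
  simp only [hterm]
  split_ifs <;> simp

/-- A block property forcing non-commuting conjugates of a central element of the defect group
does not occur in a solvable group, if it passes to the inertial blocks. -/
theorem false_of_solvable (M : Ideal AlgInt) (hM : IsPModular p M)
    (Pr : ∀ (X : Type u) [Group X], Prop) (hPr : ∀ (X Y : Type u) [Group X] [Group Y],
      (X ≃* Y) → Pr X → Pr Y) (r : ℕ)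
    (hfuse : ∀ (G : Type u) [Group G] [Fintype G] (B : Set (IrrCharacter G)), IsPBlock M B →
      ∀ D : Subgroup G, IsDefectGroup p M B D → Pr D → r ≤ blockRank p B →
        ∃ z ∈ D, (∀ d ∈ D, d * z = z * d) ∧ ∃ t ∈ D, ∃ t' ∈ D,
          IsConj z t ∧ IsConj z t' ∧ t * t' ≠ t' * t) :
    ∀ (n : ℕ) (G : Type u) [Group G] [Fintype G], Nat.card G = n → IsPSolvable p G →
      ∀ B : Set (IrrCharacter G), IsPBlock M B → ∀ D : Subgroup G, IsDefectGroup p M B D →
        Pr D → r ≤ blockRank p B → False := by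
  intro n
  induction n using Nat.strong_induction_on with
  | _ n ih =>
  intro G _ _ hG hsolv B hB D hD hPD hr
  classical
  haveI := hM.2.1
  set N := pPrimeCore p G with hNdef
  haveI hNn : N.Normal := H19.pPrimeCore_normal p G
  haveI := Fintype.ofFinite N
  have hn : ¬ p ∣ Nat.card N :=
    (Nat.Prime.coprime_iff_not_dvd hp.out).1 (H19.pPrimeCore_coprime p).symm
  obtain ⟨χ, hχ⟩ := H41.IsPBlock.nonempty hB
  obtain ⟨θ, hθ⟩ := H44.RelGraph.exists_constituent (N := N) χ
  have hθb : blockOf M (θ : N → ℂ) = {θ} := H40.blockOf_eq_singleton hM θ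
    (by rw [Nat.factorization_eq_zero_of_not_dvd hn]; exact Nat.zero_le _)
  set b : Set (IrrCharacter N) := {θ} with hbdef
  have hb : IsPBlock M b := ⟨θ, hθb.symm⟩
  have hcov : ∃ χ' ∈ B, H26.CoversG b χ' := ⟨χ, hχ, θ, rfl, hθ⟩
  have S : H26.FRSetup N M b (H26.blockStab N b) := H26.frSetup_blockStab hb
  set T := H26.blockStab N b
  by_cases hT : T = ⊤
  · have hinv : ∀ (g : G) (m : N), (θ : N → ℂ) ⟨g * m * g⁻¹, hNn.conj_mem m m.2 g⟩ =
        (θ : N → ℂ) m := by
      intro g m
      have hg : g ∈ T := hT ▸ Subgroup.mem_top g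
      have h1 : H43.irrConj N g θ = θ := (S.stab g).1 hg θ rfl
      have := congrArg (fun φ : IrrCharacter N => (φ : N → ℂ) m) h1
      simp only [H43.irrConj_apply] at this
      exact (congrArg (θ : N → ℂ) (Subtype.ext (by simp))).trans this
    obtain ⟨B₀, hB₀, hmem, -, hdefP⟩ := Cfsg.Agent.S4492.result p M hM hsolv N hNdef θ hinv
    have hBB : B = B₀ := H41.block_eq_of_mem_of_mem hB hB₀ hχ ((hmem χ).2 hθ)
    subst hBB
    obtain ⟨P', hP'⟩ := hdefP D hD
    obtain ⟨z, hzD, hz, t, htD, t', htD', hzt, hzt', hne⟩ := hfuse G B hB D hD hPD hr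
    subst hP'
    exact hne (commute_of_invariant hsolv P'.2 P'.not_dvd_index hzD hz hzt htD hzt' htD')
  · haveI := Fintype.ofFinite T
    obtain ⟨B', hB', hcov', hind⟩ := S.induced_surjective hB hcov
    obtain ⟨hdef, -⟩ := S.defect_and_heights hM hB' hcov' hind
    obtain ⟨C, hC, -, -, hmemC⟩ := S.exists_induced hB' hcov'
    obtain rfl := H26.FRSetup.induced_unique hind hC
    obtain ⟨D', hD'⟩ := H40.exists_isDefectGroup hM hB'
    obtain ⟨x, hx⟩ := H40.subConj_defectGroup hM hB (hdef D' hD') hD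
    have heq : H23.rconj x (D'.map T.subtype) = D := Subgroup.eq_of_le_of_card_ge hx (by
      rw [H23.card_rconj, H40.card_defectGroup hM hB (hdef D' hD'),
        H40.card_defectGroup hM hB hD])
    have hlt : Nat.card T < n := by
      rw [← hG]
      exact lt_of_le_of_ne (Subgroup.card_le_card_group T)
        fun h => hT (Subgroup.eq_top_of_card_eq T h)
    refine ih (Nat.card T) hlt T rfl (H35.isPSolvable_subgroup hsolv T) B' hB' D' hD' ?_
      (hr.trans (blockRank_le hmemC))
    subst heq
    let e₁ : D' ≃* (D'.map T.subtype : Subgroup G) :=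
      D'.equivMapOfInjective _ T.subtype_injective
    let e₂ : (D'.map T.subtype : Subgroup G) ≃* (H23.rconj x (D'.map T.subtype) : Subgroup G) :=
      (D'.map T.subtype).equivMapOfInjective (MulAut.conj x⁻¹).toMonoidHom
        (MulAut.conj x⁻¹).injective
    exact hPr _ _ (e₁.trans e₂).symm hPD

end Cfsg.Agent.H22.TameSolvable
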