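import Cfsg.Agent.H22.SectionColumn
import Cfsg.Agent.H22.TameSolvable
import Cfsg.Agent.S4528

/-!
# Blocks of rank three with dihedral defect groups
-/

set_option autoImplicit false
set_option linter.unusedSectionVars false
set_option linter.style.haveILetI false

namespace Cfsg.Agent.H22.Dihedral

open Cfsg

universe u

variable {G : Type u} [Group G] [Fintype G]

/-- In rank three all involutions of the defect group are conjugate to the central one; two of
them do not commute. -/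
theorem exists_fused {M : Ideal AlgInt} (hM : IsPModular 2 M) {B : Set (IrrCharacter G)}
    (hB : IsPBlock M B) {D : Subgroup G} (hD : IsDefectGroup 2 M B D) {n : ℕ} (hn : 3 ≤ n)
    (hdih : Nonempty (D ≃* DihedralGroup (2 ^ (n - 1)))) (hr : 3 ≤ blockRank 2 B) :
    ∃ z : G, orderOf z = 2 ∧ z ∈ D ∧ (∀ d ∈ D, d * z = z * d) ∧
      (∀ w ∈ D, (∀ d ∈ D, d * w = w * d) → orderOf w = 2 → w = z) ∧
      ∃ t ∈ D, ∃ t' ∈ D, IsConj z t ∧ IsConj z t' ∧ t * t' ≠ t' * t := by
  classical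
  haveI : Fact (Nat.Prime 2) := ⟨Nat.prime_two⟩
  haveI : M.IsMaximal := hM.2.1
  haveI := H41.IsPModular.charP hM
  obtain ⟨hk, -, hl3, -, -⟩ := Cfsg.Agent.S4528.result M hM B hB D hD n hn hdih
  obtain ⟨σ, τ, hd⟩ := exists_dihData hn hdih
  obtain ⟨c, e, ξ₀, S, -⟩ := exists_setup hM hB hD hd
  have hc := cyc_local hd S.max.pair.pGroup
  generalize hhdef : 2 ^ (n - 2) = hh at hd c e ξ₀ S hc hk
  have hzP : TICore.zC (σ ^ hh) ∈ D.subgroupOf (CZ (σ ^ hh)) :=
    Subgroup.mem_subgroupOf.2 (Subgroup.pow_mem _ hd.σ_mem _)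
  have hz := orderOf_z hd
  have hh2 := hd.two_le
  have hno : ∀ u ∈ D, u ∉ Subgroup.zpowers σ → orderOf u = 2 := fun u hu hout =>
    orderOf_eq_prime (by rw [pow_two]; exact (hd.reflect u hu hout).1)
      fun e => hout (e ▸ one_mem _)
  have hconj : ∀ u ∈ D, u ∉ Subgroup.zpowers σ → IsConj (σ ^ hh) u := fun u hu hout =>
    isConj_involution S hc (hzP := hzP) (Subtype.ext (Subtype.ext (by simp [TICore.zC])))
      (by omega) hD hu (hno u hu hout)
  refine ⟨σ ^ hh, hz, Subgroup.pow_mem _ hd.σ_mem _, fun d hdD => z_comm hd hdD, ?_, τ,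
    hd.τ_mem, σ * τ, D.mul_mem hd.σ_mem hd.τ_mem, hconj τ hd.τ_mem hd.τ_out,
    hconj _ (D.mul_mem hd.σ_mem hd.τ_mem) fun hm => hd.τ_out ?_, ?_⟩
  · intro w hw hcom hw2
    by_cases hA : w ∈ Subgroup.zpowers σ
    · exact eq_z_of_sq hd hA (by rw [← pow_two, ← hw2, pow_orderOf_eq_one])
        (fun e => by rw [e, orderOf_one] at hw2; omega)
    · exfalso
      obtain ⟨-, h2⟩ := hd.reflect w hw hA
      rw [← hcom σ hd.σ_mem, mul_inv_cancel_right, eq_inv_iff_mul_eq_one] at h2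
      have := Nat.le_of_dvd two_pos (orderOf_dvd_iff_pow_eq_one.2 (by rwa [pow_two]) :
        orderOf σ ∣ 2)
      rw [hd.order] at this
      omega
  · have := (Subgroup.zpowers σ).mul_mem ((Subgroup.zpowers σ).inv_mem (Subgroup.mem_zpowers σ)) hm
    rwa [inv_mul_cancel_left] at this
  · intro hcomm
    obtain ⟨-, h2⟩ := hd.reflect τ hd.τ_mem hd.τ_out
    have h3 : τ * σ = σ * τ := mul_right_cancel (b := τ) (by rw [mul_assoc, hcomm, mul_assoc])
    rw [h3, mul_inv_cancel_right, eq_inv_iff_mul_eq_one] at h2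
    have := Nat.le_of_dvd two_pos (orderOf_dvd_iff_pow_eq_one.2 (by rwa [pow_two]) :
      orderOf σ ∣ 2)
    rw [hd.order] at this
    omega

end Cfsg.Agent.H22.Dihedral
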