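import Cfsg.Agent.H22.TameFrameComb
import Cfsg.Agent.H22.DihedralSmall

/-!
# The frame of a block with dihedral defect group
-/

set_option autoImplicit false
set_option linter.unusedSectionVars false
set_option linter.style.haveILetI false

open scoped ComplexConjugate Classical

namespace Cfsg.Agent.H22.TameFrame

open Cfsg Cfsg.Agent.H40.Tame
open Cfsg.Agent.H22.Dihedral (DihData wdiff mlt val)
open Cfsg.Agent.H41 (ResField)

variable {G : Type*} [Group G] [Fintype G]

section Mult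

variable [Fact (Nat.Prime 2)] {M : Ideal AlgInt} [M.IsMaximal] [CharP (ResField M) 2]
  {z : G} {B : Set (IrrCharacter G)} {c : Set (IrrCharacter (CZ z))}
  {P : Subgroup (CZ z)} {e : MonoidAlgebra (ResField M) (CZ z)} {ξ₀ : IrrCharacter (CZ z)}
  (S : TICore.Setup M B z c P e ξ₀) {s : P} {hzP : TICore.zC z ∈ P} {h : ℕ}
  (hc : DihFun.Cyc P s h) (hs : s ^ h = (⟨TICore.zC z, hzP⟩ : P))

include S hc hs

theorem mlt_symm (χ : IrrCharacter G) {r : ℕ} (hr : r ≤ 2 * h) :
    mlt S hc hs χ (2 * h - r) = mlt S hc hs χ r := by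
  have h1 := Dihedral.mlt_spec S hc hs χ (2 * h - r)
  rw [DihFun.fr_symm hc hr, Dihedral.mlt_spec S hc hs χ r] at h1
  exact_mod_cast h1.symm

theorem inner_wdiff (r u : ℕ) (χ : IrrCharacter G) :
    classInner (DihFun.fr hc r - DihFun.fr hc u) (TICore.Phi M P e ξ₀ (χ : G → ℂ)) =
      (wdiff (fun χ => mlt S hc hs χ) r u χ : ℂ) := by
  rw [H26.classInner_sub_left, Dihedral.mlt_spec S hc hs, Dihedral.mlt_spec S hc hs, wdiff]
  simp

/-- The inner products of the relations `0, r`. -/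
theorem gram_zero {r u : ℕ} (hr0 : 0 < r) (hr : r ≤ h) (hu0 : 0 < u) (hu : u ≤ h) :
    ∑ χ : {χ // χ ∈ B}, wdiff (fun χ => mlt S hc hs χ) 0 r (χ : IrrCharacter G) *
        wdiff (fun χ => mlt S hc hs χ) 0 u (χ : IrrCharacter G) =
      2 + if r = u then (if r = h then 2 else 1) else 0 := by
  have h2 := hc.two_le
  have := Dihedral.isometry S hc hs (Dihedral.fr_sub_class S hc hs 0 r)
    (Dihedral.fr_sub_class S hc hs 0 u) (DihFun.fr_sub_eq_zero hc 0 r)
    (DihFun.fr_sub_eq_zero hc 0 u) _ _ (inner_wdiff S hc hs 0 r) (inner_wdiff S hc hs 0 u)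
  rw [H26.classInner_sub_left, H26.classInner_sub_right, H26.classInner_sub_right,
    Dihedral.inner_fr_range S hc hs (Nat.zero_le _) (Nat.zero_le _),
    Dihedral.inner_fr_range S hc hs (Nat.zero_le _) hu,
    Dihedral.inner_fr_range S hc hs hr (Nat.zero_le _),
    Dihedral.inner_fr_range S hc hs hr hu] at this
  simp only [if_pos, true_or, if_neg (show ¬ 0 = u by omega), if_neg (show ¬ r = 0 by omega)] at this
  apply Int.cast_injective (α := ℂ)
  refine this.trans ?_
  split_ifs <;> first | (exfalso; omega) | norm_num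

/-- The relations as functions vanish on the regular elements and off the section of `z`. -/
theorem relation_eq_zero (r u : ℕ) {g : G}
    (hg : ¬ 2 ∣ orderOf g ∨ ¬ ∃ x : G, z ∈ Subgroup.zpowers (x * g * x⁻¹)) :
    ∑ χ : {χ // χ ∈ B}, (wdiff (fun χ => mlt S hc hs χ) r u (χ : IrrCharacter G) : ℂ) *
      ((χ : IrrCharacter G) : G → ℂ) g = 0 := by
  have hsupp := Dihedral.supp hc hs (DihFun.fr_sub_eq_zero hc r u)
  have h1 := TICore.sum_classInner_smul S (Dihedral.fr_sub_class S hc hs r u) hsupp g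
  rw [Finset.sum_subtype (p := (· ∈ B)) (H42.blockFinset B) (fun x => H42.mem_blockFinset)] at h1
  simp only [inner_wdiff S hc hs r u] at h1
  rw [h1]
  rcases hg with hg | hg
  · exact TICore.indFun_eq_zero_regular S hsupp hg
  · rw [H25.indFun_apply]
    refine mul_eq_zero_of_right _ (Finset.sum_eq_zero fun x _ => ?_)
    by_cases hx : x⁻¹ * g * x ∈ CZ z
    · rw [H25.extendByZero_of_mem _ _ hx]
      exact TICore.gfun_eq_zero_off S hsupp fun h' => hg ⟨x⁻¹, by rwa [inv_inv]⟩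
    · exact H25.extendByZero_of_notMem _ _ hx

/-- The frame. -/
theorem exists_frame_setup (hdef : blockDefect 2 c = blockDefect 2 B) (hev : Even h)
    (h6 : h ≠ 6) (hsmall : h = 4 → Nat.card B = 5 → blockRank 2 B = 1 → False) :
    ∃ (ch : Ix (h - 1) → IrrCharacter G) (ε : Ix (h - 1) → ℤ),
      IsFrame B (fun g => ∃ x : G, z ∈ Subgroup.zpowers (x * g * x⁻¹)) ch ε := by
  have h2 := hc.two_le
  obtain ⟨hk, -, -, h4, -⟩ := Dihedral.invariants S hc hs hdef hev h6 hsmall
  have hD := Dihedral.data S hc hs hdef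
  let a : {χ // χ ∈ B} → ℕ → ℤ := fun χ r => mlt S hc hs χ r
  let Z : Finset {χ // χ ∈ B} := Finset.univ.filter fun χ : {χ // χ ∈ B} =>
    blockHeight 2 B ((χ : IrrCharacter G) : G → ℂ) = 0
  have hZcard : Z.card = 4 := by
    rw [← h4, Nat.card_congr (Equiv.subtypeSubtypeEquivSubtypeInter
      (fun χ : IrrCharacter G => χ ∈ B)
      fun χ : IrrCharacter G => blockHeight 2 B (χ : G → ℂ) = 0).symm, Nat.card_eq_fintype_card,
      Fintype.card_subtype]
  have hs0 : ∀ χ, χ ∈ Z → wdiff a 0 h χ = 1 ∨ wdiff a 0 h χ = -1 := by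
    have hodd : ∀ χ ∈ Z, 1 ≤ wdiff a 0 h χ ^ 2 := fun χ hχ => Dihedral.one_le_sq fun e => by
      have := (hD.odd_s χ).2 ((hD.odd_D χ).2 hχ)
      rw [show wdiff (fun (χ : {χ // χ ∈ B}) r => mlt S hc hs χ r) 0 h χ = 0 from e] at this
      exact absurd this (by decide)
    intro χ hχ
    have hsum : ∑ χ ∈ Z, wdiff a 0 h χ ^ 2 ≤ 4 := hD.sum_s ▸
      Finset.sum_le_sum_of_subset_of_nonneg (Finset.subset_univ _) fun _ _ _ => sq_nonneg _
    rw [← Finset.add_sum_erase Z _ hχ] at hsum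
    have hrest : ((Z.erase χ).card : ℤ) ≤ ∑ ξ ∈ Z.erase χ, wdiff a 0 h ξ ^ 2 := by
      rw [← mul_one ((Z.erase χ).card : ℤ), ← nsmul_eq_mul, ← Finset.sum_const]
      exact Finset.sum_le_sum fun ξ hξ => hodd ξ (Finset.mem_of_mem_erase hξ)
    rw [Finset.card_erase_of_mem hχ, hZcard] at hrest
    push_cast at hrest
    exact sq_eq_one_iff.1 (le_antisymm (by linarith) (hodd χ hχ))
  have hs0' : ∀ χ, χ ∉ Z → wdiff a 0 h χ = 0 := by
    intro χ hχ
    have hsum : ∑ ξ ∈ insert χ Z, wdiff a 0 h ξ ^ 2 ≤ 4 := hD.sum_s ▸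
      Finset.sum_le_sum_of_subset_of_nonneg (Finset.subset_univ _) fun _ _ _ => sq_nonneg _
    rw [Finset.sum_insert hχ, Finset.sum_congr rfl (g := fun _ => (1 : ℤ)) fun ξ hξ => by
      rcases hs0 ξ hξ with e | e <;> rw [e] <;> rfl, Finset.sum_const, nsmul_eq_mul, mul_one,
      hZcard] at hsum
    push_cast at hsum
    exact (pow_eq_zero_iff two_ne_zero).1 (le_antisymm (by linarith) (sq_nonneg _))
  have hWW : ∀ x y : Fin (h - 1),
      ∑ χ : {χ // χ ∈ B}, wdiff a 0 (x + 1) χ * wdiff a 0 (y + 1) χ = if x = y then 3 else 2 := by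
    intro x y
    have := gram_zero S hc hs (r := x + 1) (u := y + 1) (by omega) (by omega) (by omega) (by omega)
    refine this.trans ?_
    by_cases hxy : x = y
    · subst hxy; rw [if_pos rfl, if_pos rfl, if_neg (by omega)]; norm_num
    · rw [if_neg hxy, if_neg fun e => hxy (Fin.ext (by omega))]; norm_num
  have hsW : ∀ x : Fin (h - 1),
      ∑ χ : {χ // χ ∈ B}, wdiff a 0 h χ * wdiff a 0 (x + 1) χ = 2 := fun x => by
    have := gram_zero S hc hs (r := h) (u := x + 1) (by omega) le_rfl (by omega) (by omega)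
    rw [if_neg (show ¬ h = (x : ℕ) + 1 by omega), add_zero] at this
    exact this
  have hne : ∀ χ, χ ∉ Z → ∃ x : Fin (h - 1), wdiff a 0 (x + 1) χ ≠ 0 := by
    intro χ hχ
    by_contra hall
    push Not at hall
    have hconst : ∀ r ≤ h, a χ r = a χ 0 := by
      intro r hr
      by_cases h0 : r = 0
      · rw [h0]
      by_cases hh : r = h
      · have := hs0' χ hχ; rw [hh]; simp only [wdiff] at this; omega
      · have := hall ⟨r - 1, by omega⟩
        simp only [wdiff, show r - 1 + 1 = r by omega] at this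
        omega
    have hall' : ∀ r ∈ Finset.range (2 * h), mlt S hc hs χ r = a χ 0 := fun r hr => by
      by_cases hrh : r ≤ h
      · exact hconst r hrh
      · have hr' := Finset.mem_range.1 hr
        rw [← mlt_symm S hc hs χ hr'.le]
        exact hconst _ (by omega)
    refine Dihedral.val_ne_zero S hc hs hdef χ.2 ?_
    rw [val, Finset.sum_congr rfl fun r hr => by rw [hall' r hr], ← Finset.sum_mul, mul_eq_zero]
    left
    rw [neg_one_geom_sum, if_pos (even_two_mul h)]
  obtain ⟨f, ε, hε, hfZ, hE, hW⟩ := exists_frame (m := h - 1) (by omega) (Z := Z)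
    (s := fun χ => wdiff a 0 h χ) (W := fun x χ => wdiff a 0 (x + 1) χ) hZcard
    (by rw [← Nat.card_eq_fintype_card]; exact hk.trans (by omega)) hs0 hs0' hWW hsW hne
  have hcomb : ∀ (v : Ix (h - 1) → ℤ) (r u : ℕ), (∀ i, v i * ε i = wdiff a r u (f i)) → ∀ g : G,
      comb (fun i => (f i : IrrCharacter G)) ε v g = ∑ χ : {χ // χ ∈ B},
        (wdiff (fun χ => mlt S hc hs χ) r u (χ : IrrCharacter G) : ℂ) *
          ((χ : IrrCharacter G) : G → ℂ) g := fun v r u hv g => by
    rw [comb, ← Equiv.sum_comp f]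
    exact Finset.sum_congr rfl fun i _ => by rw [hv]; rfl
  refine ⟨fun i => (f i : IrrCharacter G), ε, Subtype.val_injective.comp f.injective, ?_, hε,
    fun i => ?_, fun g hg => ?_, fun x g hg => ?_, fun g hg => ?_, fun x g hg => ?_⟩
  · ext χ
    exact ⟨fun ⟨i, hi⟩ => hi ▸ (f i).2, fun hχ => ⟨f.symm ⟨χ, hχ⟩, by simp⟩⟩
  · rw [← hfZ i]; simp [Z]
  · rw [hcomb _ 0 h hE]; exact relation_eq_zero S hc hs 0 h (Or.inl hg)
  · rw [hcomb _ 0 _ (hW x)]; exact relation_eq_zero S hc hs 0 _ (Or.inl hg)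
  · rw [hcomb _ 0 h hE]; exact relation_eq_zero S hc hs 0 h (Or.inr hg)
  · rw [hcomb _ 0 _ (hW x)]; exact relation_eq_zero S hc hs 0 _ (Or.inr hg)

end Mult

/-- The frame of a block with dihedral defect group. -/
theorem exists_isFrame {M : Ideal AlgInt} (hM : IsPModular 2 M) {B : Set (IrrCharacter G)}
    (hB : IsPBlock M B) {D : Subgroup G} (hD : IsDefectGroup 2 M B D) {σ τ : G} {h : ℕ}
    (hd : DihData D σ τ h) :
    ∃ (ch : Ix (h - 1) → IrrCharacter G) (ε : Ix (h - 1) → ℤ),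
      IsFrame B (fun g => ∃ x : G, σ ^ h ∈ Subgroup.zpowers (x * g * x⁻¹)) ch ε := by
  haveI : Fact (Nat.Prime 2) := ⟨Nat.prime_two⟩
  haveI : M.IsMaximal := hM.2.1
  haveI := H41.IsPModular.charP hM
  obtain ⟨c, e, ξ₀, S, hdef⟩ := Dihedral.exists_setup hM hB hD hd
  have hc := Dihedral.cyc_local hd S.max.pair.pGroup
  have hzP : TICore.zC (σ ^ h) ∈ D.subgroupOf (CZ (σ ^ h)) :=
    Subgroup.mem_subgroupOf.2 (Subgroup.pow_mem _ hd.σ_mem _)
  have hcard := H40.card_defectGroup hM hB hD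
  rw [hd.card] at hcard
  refine exists_frame_setup S hc (hzP := hzP) ?_ hdef hd.even ?_ ?_
  · exact Subtype.ext (Subtype.ext (by simp [TICore.zC]))
  · intro h6
    rw [h6] at hcard
    have h3 : 3 ∣ 2 ^ blockDefect 2 B := by rw [← hcard]; norm_num
    have := Nat.prime_three.dvd_of_dvd_pow h3
    norm_num at this
  · intro h4 h5 _
    subst h4
    have hd4 : blockDefect 2 B = 4 :=
      (Nat.pow_right_injective (le_refl 2) (show 2 ^ 4 = 2 ^ blockDefect 2 B from hcard)).symm
    exact Dihedral.false_of_five S hc (hzP := hzP)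
      (Subtype.ext (Subtype.ext (by simp [TICore.zC]))) hdef h5 hd4

end Cfsg.Agent.H22.TameFrame
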