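import Cfsg.Agent.H22.SemiDihedralRank
import Cfsg.Agent.H22.TameDihedral

/-!
# Rank three blocks with dihedral or semidihedral defect groups

The semidihedral case takes the invariants of the block as a hypothesis.
-/

set_option autoImplicit false
set_option linter.unusedSectionVars false
set_option linter.style.haveILetI false

namespace Cfsg.Agent.H22.TameMain

open Cfsg

universe u

/-- The invariants of a block with semidihedral defect group when its rank is three. -/
def SDInvariants (M : Ideal AlgInt) : Prop :=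
  ∀ (G : Type u) [Group G] [Finite G] (B : Set (IrrCharacter G)), IsPBlock M B →
    ∀ D : Subgroup G, IsDefectGroup 2 M B D → ∀ n : ℕ, 4 ≤ n → Nat.card D = 2 ^ n →
      IsQuasiDihedral D → 3 ≤ blockRank 2 B →
        Nat.card B = 2 ^ (n - 2) + 4 ∧
        Nat.card {χ : IrrCharacter G // χ ∈ B ∧ blockHeight 2 B (χ : G → ℂ) = 0} = 4 ∧
        Nat.card {χ : IrrCharacter G // χ ∈ B ∧ blockHeight 2 B (χ : G → ℂ) = 1} =
          2 ^ (n - 2) - 1 ∧
        ∀ χ ∈ B, blockHeight 2 B (χ : G → ℂ) = 0 ∨ blockHeight 2 B (χ : G → ℂ) = 1 ∨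
          blockHeight 2 B (χ : G → ℂ) = n - 2

/-- Dihedral of order at least eight, or semidihedral. -/
def Pr (X : Type u) [Group X] : Prop :=
  (∃ n : ℕ, 3 ≤ n ∧ Nonempty (X ≃* DihedralGroup (2 ^ (n - 1)))) ∨ IsQuasiDihedral X

theorem pr_congr (X Y : Type u) [Group X] [Group Y] (e : X ≃* Y) (h : Pr X) : Pr Y := by
  rcases h with ⟨n, hn, ⟨f⟩⟩ | ⟨n, hn, hc, x, y, hx, hy, hr⟩
  · exact Or.inl ⟨n, hn, ⟨e.symm.trans f⟩⟩
  · refine Or.inr ⟨n, hn, (Nat.card_congr e.toEquiv).symm.trans hc, e x, e y,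
      (e.orderOf_eq x).trans hx, (e.orderOf_eq y).trans hy, ?_⟩
    rw [← map_inv, ← map_mul, ← map_mul, hr, map_pow]

theorem fused {M : Ideal AlgInt} (hM : IsPModular 2 M) (hsd : SDInvariants.{u} M) (G : Type u)
    [Group G] [Fintype G] (B : Set (IrrCharacter G)) (hB : IsPBlock M B) (D : Subgroup G)
    (hD : IsDefectGroup 2 M B D) (hP : Pr D) (hl : 3 ≤ blockRank 2 B) :
    TameRankThree.Fused D := by
  rcases hP with ⟨n, hn, hdih⟩ | hq
  · exact Dihedral.exists_fused hM hB hD hn hdih hl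
  · obtain ⟨n, hn, hc, -⟩ := id hq
    obtain ⟨hk, h0, h1, hht⟩ := hsd G B hB D hD (n + 1) (by omega) hc hq hl
    exact SemiDihedral.fused_of_invariants hM hB hD (by omega) hc hq hl hk h0 h1 hht

/-- The centre is odd and the group is not solvable. -/
theorem main {M : Ideal AlgInt} (hM : IsPModular 2 M) (hsd : SDInvariants.{u} M) {G : Type u}
    [Group G] [Finite G] {B : Set (IrrCharacter G)} (hB : IsPBlock M B) {D : Subgroup G}
    (hD : IsDefectGroup 2 M B D) (hP : Pr D) (hl : blockRank 2 B = 3) :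
    Odd (Nat.card (Subgroup.center G)) ∧ ¬ Group.IsSolvable G := by
  haveI : Fintype G := Fintype.ofFinite G
  exact ⟨TameRankThree.odd_center hM hB hD (fused hM hsd G B hB D hD hP hl.ge),
    TameRankThree.not_isSolvable hM Pr pr_congr (fused hM hsd) hB hD hP hl.ge⟩

end Cfsg.Agent.H22.TameMain
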