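import Cfsg.Agent.H22.TameUSetup
import Cfsg.Agent.H22.TameUGroup
import Cfsg.Agent.H40.MajorColumn

/-!
# The vectors from the normaliser of the cyclic subgroup of order four
-/

set_option autoImplicit false
set_option linter.unusedSectionVars false
set_option linter.style.haveILetI false

open scoped ComplexConjugate Classical

namespace Cfsg.Agent.H22.TameU

open Cfsg
open Cfsg.Agent.H40.Tame (TData TISet Supported coef)
open Cfsg.Agent.H41 (ResField)
open Cfsg.Agent.H56.FD (scal)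

variable {G : Type*} [Group G] [Fintype G] [Fact (Nat.Prime 2)] {M : Ideal AlgInt} [M.IsMaximal]
  [CharP (ResField M) 2] {B : Set (IrrCharacter G)} {K : Subgroup G} {u : G}
  {c : Set (IrrCharacter K)} {P : Subgroup K} {e : MonoidAlgebra (ResField M) K}
  {ξ₀ : IrrCharacter K} (S : Nil M c P e ξ₀)

include S

/-- The images live where `u` is a power. -/
theorem supported_gf (hKN : ∀ x ∈ K, x ∈ Subgroup.normalizer (Subgroup.zpowers u : Set G))
    {f : P → ℂ} (hf : IsClassFunction P f)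
    (hs : ∀ v : P, u ∉ Subgroup.zpowers ((v : K) : G) → f v = 0) :
    Supported u c (gf M e ξ₀ f) := by
  refine ⟨isClassFunction_gf S hf, fun φ hφ => classInner_gf_eq_zero S hf hφ, fun k hk => ?_⟩
  refine gf_eq_zero fun v x hx => hs v fun hv => hk ?_
  have hm : (x : G)⁻¹ * u * x ∈ Subgroup.zpowers (((pp 2 k : K)) : G) := by
    obtain ⟨i, hi⟩ := hv
    refine ⟨i, ?_⟩
    show (((pp 2 k : K)) : G) ^ i = _
    rw [← hi, show ((v : K) : G) = (x : G) * ((pp 2 k : K) : G) * (x : G)⁻¹ by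
      rw [← hx]; push_cast; rfl]
    show _ = (x : G)⁻¹ * ((x : G) * ((pp 2 k : K) : G) * (x : G)⁻¹) ^ i * (x : G)
    rw [conj_zpow]; group
  have hle : Subgroup.zpowers (((pp 2 k : K)) : G) ≤ Subgroup.zpowers (k : G) := by
    rw [Subgroup.zpowers_le, pp]
    exact ⟨_, by push_cast; exact zpow_natCast _ _⟩
  have hxinv : (x : G)⁻¹ ∈ Subgroup.normalizer (Subgroup.zpowers u : Set G) :=
    hKN _ (K.inv_mem x.2)
  have hcS := cS_eq_self hxinv
  rw [cS, MonoidHom.map_zpowers] at hcS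
  simp only [MulEquiv.coe_toMonoidHom, MulAut.conj_apply, inv_inv] at hcS
  refine Subgroup.zpowers_le.1 ?_ |> id
  rw [← hcS]
  exact (Subgroup.zpowers_le.2 hm).trans hle

variable (hKN : ∀ x ∈ K, x ∈ Subgroup.normalizer (Subgroup.zpowers u : Set G))
  (T : TISet 2 M B K u c)

include hKN T

theorem sum_vanish {f : P → ℂ} (hf : IsClassFunction P f)
    (hs : ∀ v : P, u ∉ Subgroup.zpowers ((v : K) : G) → f v = 0) {g : G}
    (hg : ¬ 2 ∣ orderOf g ∨ ∀ x : G, u ∉ Subgroup.zpowers (x⁻¹ * g * x)) :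
    ∑ χ : IrrCharacter G, coef K (gf M e ξ₀ f) χ * (χ : G → ℂ) g = 0 := by
  have hsup := supported_gf S hKN hf hs
  rw [← Finset.sum_subset (Finset.subset_univ (H42.blockFinset B)) fun χ _ hχ => by
    rw [H40.Tame.coef_eq_zero T hsup (fun h => hχ (H42.mem_blockFinset.2 h)), zero_mul],
    H40.Tame.sum_coef_smul T hsup]
  rcases hg with hg | hg
  · exact H40.Tame.indFun_eq_zero_regular T hsup hg
  · exact H40.Tame.indFun_eq_zero hsup hg

/-- The isometry. -/
theorem sum_coef_gf {f f' : P → ℂ} (hf : IsClassFunction P f) (hf' : IsClassFunction P f')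
    (hs : ∀ v : P, u ∉ Subgroup.zpowers ((v : K) : G) → f v = 0)
    (hs' : ∀ v : P, u ∉ Subgroup.zpowers ((v : K) : G) → f' v = 0) :
    ∑ χ ∈ H42.blockFinset B, coef K (gf M e ξ₀ f) χ * conj (coef K (gf M e ξ₀ f') χ) =
      classInner f f' := by
  rw [H40.Tame.sum_coef_mul T (supported_gf S hKN hf hs) (supported_gf S hKN hf' hs'),
    classInner_gf S hf hf']

/-- The coefficient through the members. -/
theorem coef_gf_eq {f : P → ℂ} (hf : IsClassFunction P f)
    (hs : ∀ v : P, u ∉ Subgroup.zpowers ((v : K) : G) → f v = 0) (χ : IrrCharacter G) :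
    coef K (gf M e ξ₀ f) χ = ∑ θ : IrrCharacter P, classInner f (θ : P → ℂ) *
      conj (classInner (fun k : K => (χ : G → ℂ) k) (memb S θ : K → ℂ)) := by
  rw [H40.Tame.coef_eq_sum (supported_gf S hKN hf hs)]
  symm
  refine Finset.sum_bij (fun θ _ => memb S θ) (fun θ _ => ?_) (fun a _ b _ h => memb_inj S h)
    (fun φ hφ => ?_) fun θ _ => ?_
  · simp [memb_mem S θ]
  · obtain ⟨θ, hθ⟩ := exists_memb S (Finset.mem_filter.1 hφ).2
    exact ⟨θ, Finset.mem_univ _, hθ⟩
  · rw [classInner_gf_irr S hf]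

omit hKN T

/-- A non-zero coefficient fixes the scalar of the central involution. -/
theorem scal_of_coef {f : P → ℂ} (hf : IsClassFunction P f) {v : P}
    (hv : ∀ g : G, g * ((v : K) : G) = ((v : K) : G) * g) (hv2 : v * v = 1) {a : ℂ}
    (ha : ∀ w, f (w * v) = a * f w) (χ : IrrCharacter G) (hne : coef K (gf M e ξ₀ f) χ ≠ 0) :
    scal χ ((v : K) : G) = a * scal ξ₀ (v : K) := by
  have hvK : ∀ k : K, k * (v : K) = (v : K) * k := fun k => Subtype.ext (hv (k : G))
  have hvG : ∀ g : G, Commute ((v : K) : G) g := fun g => (hv g).symm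
  have hF := gf_mul_central S hf hvK hv2 ha
  set b := a * scal ξ₀ (v : K) with hb
  have hs2 : scal χ ((v : K) : G) * scal χ ((v : K) : G) = 1 := by
    rw [← H56.FD.scal_mul hvG χ, ← Subgroup.coe_mul, ← Subgroup.coe_mul, hv2, OneMemClass.coe_one,
      OneMemClass.coe_one, H56.FD.scal_one]
  have hreal : conj (scal χ ((v : K) : G)) = scal χ ((v : K) : G) := by
    rcases mul_self_eq_one_iff.1 hs2 with e' | e' <;> rw [e'] <;> simp
  have key : coef K (gf M e ξ₀ f) χ =
      b * scal χ ((v : K) : G) * coef K (gf M e ξ₀ f) χ := by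
    conv_lhs => rw [coef, classInner, ← Equiv.sum_comp (Equiv.mulRight (v : K))]
    rw [coef, classInner, Finset.mul_sum, Finset.mul_sum, Finset.mul_sum]
    refine Finset.sum_congr rfl fun k _ => ?_
    rw [Equiv.coe_mulRight, hF k, Subgroup.coe_mul, H56.FD.irr_mul_central hvG, map_mul, hreal]
    ring
  have h1 : b * scal χ ((v : K) : G) = 1 :=
    mul_right_cancel₀ hne (by rw [one_mul]; exact key.symm)
  linear_combination (-scal χ ((v : K) : G)) * h1 + b * hs2

omit S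

theorem classInner_self_zero {H : Type*} [Group H] [Fintype H] {f : H → ℂ}
    (h : classInner f f = 0) : f = 0 := by
  rw [classInner] at h
  have h2 := (mul_eq_zero.1 h).resolve_left (inv_ne_zero (Nat.cast_ne_zero.2 Nat.card_pos.ne'))
  simp only [Complex.mul_conj, ← Complex.ofReal_sum, Complex.ofReal_eq_zero] at h2
  funext x
  exact Complex.normSq_eq_zero.1
    ((Finset.sum_eq_zero_iff_of_nonneg fun y _ => Complex.normSq_nonneg _).1 h2 x (Finset.mem_univ x))

end Cfsg.Agent.H22.TameU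

namespace Cfsg.Agent.H22.TameU

open Cfsg
open Cfsg.Agent.H40.Tame (TData coef)
open Cfsg.Agent.H56.FD (scal)

/-- The integral vector and the antisymmetric vectors of a block with central involution. -/
theorem exists_uVectors {G : Type*} [Group G] [Fintype G] {M : Ideal AlgInt}
    (hM : IsPModular 2 M) {B : Set (IrrCharacter G)} (hB : IsPBlock M B) {D : Subgroup G}
    (hD : IsDefectGroup 2 M B D) {σ : G} {c₀ : ℤ} {q : ℕ} (hd : TData D σ c₀ q)
    (hz : ∀ g : G, g * σ ^ (2 * q) = σ ^ (2 * q) * g) :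
    ∃ (E : IrrCharacter G → ℤ) (v : Fin (q - 1) → IrrCharacter G → ℂ) (s0 : ℤ),
      (s0 = 1 ∨ s0 = -1) ∧
      (∀ χ, χ ∉ B → E χ = 0 ∧ ∀ i, v i χ = 0) ∧
      ∑ χ ∈ H42.blockFinset B, E χ ^ 2 = 4 ∧
      (∀ χ ∈ B, Odd (E χ) ↔ blockHeight 2 B (χ : G → ℂ) = 0) ∧
      (∀ χ : IrrCharacter G, E χ ≠ 0 →
        (χ : G → ℂ) (σ ^ (2 * q)) = (s0 : ℂ) * (χ : G → ℂ) 1) ∧
      (∀ i, ∀ χ : IrrCharacter G, v i χ ≠ 0 →
        (χ : G → ℂ) (σ ^ (2 * q)) = -(s0 : ℂ) * (χ : G → ℂ) 1) ∧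
      (∀ g : G, (¬ 2 ∣ orderOf g ∨ ∀ x : G, σ ^ q ∉ Subgroup.zpowers (x⁻¹ * g * x)) →
        (∑ χ : IrrCharacter G, (E χ : ℂ) * (χ : G → ℂ) g = 0) ∧
          ∀ i, ∑ χ : IrrCharacter G, v i χ * (χ : G → ℂ) g = 0) ∧
      LinearIndependent ℂ v := by
  haveI : Fact (Nat.Prime 2) := ⟨Nat.prime_two⟩
  haveI : M.IsMaximal := hM.2.1
  haveI := H41.IsPModular.charP hM
  obtain ⟨K, c, e, ξ₀, hDK, hKN, T, S⟩ := exists_setup hM hB hD hd
  have hd' := tdata_subgroupOf hd hDK
  set σK : K := ⟨σ, hDK hd.σ_mem⟩ with hσK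
  set P := D.subgroupOf K with hP
  have hsupp : ∀ (f : P → ℂ), (∀ w : P, σK ^ q ∉ Subgroup.zpowers (w : K) → f w = 0) →
      ∀ w : P, σ ^ q ∉ Subgroup.zpowers ((w : K) : G) → f w = 0 := fun f hf w hw => hf w fun h =>
    hw (by
      have := (TICore.mem_zpowers_coe_iff (a := σK ^ q) (b := (w : K))).2 h
      simpa [hσK] using this)
  set z : P := ⟨σK ^ (2 * q), Subgroup.pow_mem _ hd'.σ_mem _⟩ with hzdef
  have hzval : ((z : K) : G) = σ ^ (2 * q) := by simp [hzdef, hσK]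
  have hzG : ∀ g : G, g * ((z : K) : G) = ((z : K) : G) * g := by rw [hzval]; exact hz
  have hzK : ∀ k : K, k * (z : K) = (z : K) * k := fun k => Subtype.ext (hzG (k : G))
  have hz2 : z * z = 1 := by
    refine Subtype.ext ?_
    show σK ^ (2 * q) * σK ^ (2 * q) = 1
    rw [← pow_add, show 2 * q + 2 * q = 4 * q by ring, ← hd'.order, pow_orderOf_eq_one]
  have hs2 : scal ξ₀ (z : K) * scal ξ₀ (z : K) = 1 := by
    rw [← H56.FD.scal_mul (fun k => (hzK k).symm) ξ₀, ← Subgroup.coe_mul, hz2, OneMemClass.coe_one,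
      H56.FD.scal_one]
  obtain ⟨s0, hs0, hs0'⟩ : ∃ s0 : ℤ, (s0 = 1 ∨ s0 = -1) ∧ scal ξ₀ (z : K) = (s0 : ℂ) := by
    rcases mul_self_eq_one_iff.1 hs2 with h | h
    · exact ⟨1, Or.inl rfl, by rw [h]; simp⟩
    · exact ⟨-1, Or.inr rfl, by rw [h]; simp⟩
  have hscal : ∀ χ : IrrCharacter G, ∀ t : ℂ, scal χ ((z : K) : G) = t →
      (χ : G → ℂ) (σ ^ (2 * q)) = t * (χ : G → ℂ) 1 := fun χ t h => by
    rw [← h, scal, hzval, div_mul_cancel₀ _ (H26.irr_one_ne_zero χ)]
  choose n hn hnpar using exists_int_f0 hd'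
  choose mu hmu using fun χ : IrrCharacter G => (fun φ : IrrCharacter K =>
    ⟨(H26.exists_nat_coeffs (H26.isCharacter_comp (H26.irr_isCharacter χ) K.subtype)).choose φ,
      (H26.exists_nat_coeffs (H26.isCharacter_comp (H26.irr_isCharacter χ)
        K.subtype)).choose_spec.1 φ⟩ : ∀ φ : IrrCharacter K, ∃ m : ℕ,
          classInner (fun k : K => (χ : G → ℂ) k) (φ : K → ℂ) = m)
  have hf0 := f0_class hd'
  have hs0f := hsupp (f0 σK P) fun w hw => f0_supp hd' hw
  let E : IrrCharacter G → ℤ := fun χ => ∑ θ : IrrCharacter P, n θ * (mu χ (memb S θ) : ℤ)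
  have hE : ∀ χ, coef K (gf M e ξ₀ (f0 σK P)) χ = (E χ : ℂ) := fun χ => by
    rw [coef_gf_eq S hKN T hf0 hs0f]
    push_cast [E]
    exact Finset.sum_congr rfl fun θ _ => by rw [hn, hmu, Complex.conj_natCast]
  let fv : Fin (q - 1) → P → ℂ := fun i => fj σK P c₀ q ((i : ℕ) + 1 : ℕ)
  have hfc : ∀ i, IsClassFunction P (fv i) := fun i => fj_class hd' _
  have hfs : ∀ i, ∀ w : P, σ ^ q ∉ Subgroup.zpowers ((w : K) : G) → fv i w = 0 := fun i =>
    hsupp _ fun w hw => fj_supp hd' (by omega) (by omega) hw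
  refine ⟨E, fun i χ => coef K (gf M e ξ₀ (fv i)) χ, s0, hs0, fun χ hχ => ⟨?_, fun i => ?_⟩, ?_,
    fun χ hχ => ?_, fun χ hne => ?_, fun i χ hne => ?_, fun g hg => ⟨?_, fun i => ?_⟩, ?_⟩
  · have := H40.Tame.coef_eq_zero T (supported_gf S hKN hf0 hs0f) hχ
    rw [hE] at this
    exact_mod_cast this
  · exact H40.Tame.coef_eq_zero T (supported_gf S hKN (hfc i) (hfs i)) hχ
  · have h := sum_coef_gf S hKN T hf0 hf0 hs0f hs0f
    simp only [hE, norm_f0 hd', map_intCast] at h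
    apply Int.cast_injective (α := ℂ)
    push_cast
    simpa [sq] using h
  · have hξodd : ¬ (2 : ℤ) ∣ H32.scaledDeg 2 c ξ₀ := H32.not_dvd_scaledDeg S.mem S.height
    have hsum : ∑ φ ∈ Finset.univ.filter (· ∈ c), (mu χ φ : ℤ) * H32.scaledDeg 2 c φ =
        H32.scaledDeg 2 c ξ₀ *
          ∑ θ : IrrCharacter P, (mu χ (memb S θ) : ℤ) * (charDegree (θ : P → ℂ) : ℤ) := by
      rw [Finset.mul_sum]
      symm
      refine Finset.sum_bij (fun θ _ => memb S θ) (fun θ _ => ?_) (fun a _ b _ h => memb_inj S h)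
        (fun φ hφ => ?_) fun θ _ => ?_
      · simp [memb_mem S θ]
      · obtain ⟨θ, hθ⟩ := exists_memb S (Finset.mem_filter.1 hφ).2
        exact ⟨θ, Finset.mem_univ _, hθ⟩
      · rw [scaledDeg_memb S]; ring
    have hcong : (2 : ℤ) ∣ E χ -
        ∑ θ : IrrCharacter P, (mu χ (memb S θ) : ℤ) * (charDegree (θ : P → ℂ) : ℤ) := by
      rw [← Finset.sum_sub_distrib]
      refine Finset.dvd_sum fun θ _ => ?_
      rw [show n θ * (mu χ (memb S θ) : ℤ) - (mu χ (memb S θ) : ℤ) * (charDegree (θ : P → ℂ) : ℤ) =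
        (mu χ (memb S θ) : ℤ) * (n θ - (charDegree (θ : P → ℂ) : ℤ)) by ring]
      refine (even_iff_two_dvd.1 ?_).mul_left _
      rw [Int.even_sub, ← not_iff_not, Int.not_even_iff_odd, Int.not_even_iff_odd, hnpar,
        Int.odd_coe_nat]
    rw [← Int.not_even_iff_odd, even_iff_two_dvd]
    constructor
    · intro hodd
      by_contra h0
      have h := H40.dvd_sum_scaledDeg_of_height K S.hM T.ind hχ h0 (mu χ) (hmu χ)
      rw [Nat.cast_ofNat, hsum] at h
      have h' := ((Nat.prime_iff_prime_int.1 Nat.prime_two).dvd_mul.1 h).resolve_left hξodd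
      exact hodd (by have := dvd_add hcong h'; rwa [sub_add_cancel] at this)
    · intro h0 hdvd
      refine H32.not_dvd_sum_scaledDeg K S.hM T.ind hχ h0 (mu χ) (hmu χ) ?_
      rw [Nat.cast_ofNat, hsum]
      refine Dvd.dvd.mul_left ?_ _
      have := dvd_sub hdvd hcong
      rwa [sub_sub_cancel] at this
  · refine hscal χ _ ?_
    rw [scal_of_coef S hf0 hzG hz2 (a := 1) (fun w => by rw [one_mul]; exact f0_mul_z hd' rfl) χ
      (by rw [hE]; exact_mod_cast hne), one_mul, hs0']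
  · refine hscal χ _ ?_
    rw [scal_of_coef S (hfc i) hzG hz2 (a := -1)
      (fun w => by rw [neg_one_mul]; exact fj_mul_z hd' rfl _) χ hne, neg_one_mul, hs0']
  · have := sum_vanish S hKN T hf0 hs0f hg
    simpa only [hE] using this
  · exact sum_vanish S hKN T (hfc i) (hfs i) hg
  · rw [Fintype.linearIndependent_iff]
    intro a ha i
    set f : P → ℂ := ∑ j, a j • fv j with hf
    have hfcls : IsClassFunction P f := fun x y => by
      simp only [hf, Finset.sum_apply, Pi.smul_apply, hfc _ x y]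
    have hfsup : ∀ w : P, σ ^ q ∉ Subgroup.zpowers ((w : K) : G) → f w = 0 := fun w hw => by
      simp [hf, Finset.sum_apply, hfs _ w hw]
    have hcoef : ∀ χ, coef K (gf M e ξ₀ f) χ = 0 := fun χ => by
      have h0 : ∑ j, a j * coef K (gf M e ξ₀ (fv j)) χ = 0 := by
        simpa [Finset.sum_apply] using congrFun ha χ
      rw [hf, gf_sum, coef, H26.classInner_sum_left, ← h0]
      exact Finset.sum_congr rfl fun j _ => H26.classInner_smul_left _ _ _
    have h := sum_coef_gf S hKN T hfcls hfcls hfsup hfsup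
    simp only [hcoef, zero_mul, Finset.sum_const_zero] at h
    have hf0' := congrFun (classInner_self_zero h.symm)
      ⟨σK ^ ((i : ℕ) + 1), Subgroup.pow_mem _ hd'.σ_mem _⟩
    rw [hf, Finset.sum_apply, Finset.sum_eq_single i, Pi.smul_apply, Pi.zero_apply] at hf0'
    · rwa [show fv i ⟨σK ^ ((i : ℕ) + 1), Subgroup.pow_mem _ hd'.σ_mem _⟩ = 1 by
        refine (fj_apply hd' (k := (((i : ℕ) + 1 : ℕ) : ℤ)) (by omega) (by omega) (by omega)
          (by omega) (v := ⟨σK ^ ((i : ℕ) + 1), _⟩) ?_).trans (if_pos rfl)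
        exact (zpow_natCast σK _).symm, smul_eq_mul, mul_one] at hf0'
    · intro j _ hji
      rw [Pi.smul_apply, show fv j ⟨σK ^ ((i : ℕ) + 1), Subgroup.pow_mem _ hd'.σ_mem _⟩ = 0 by
        refine (fj_apply hd' (k := (((i : ℕ) + 1 : ℕ) : ℤ)) (by omega) (by omega) (by omega)
          (by omega) (v := ⟨σK ^ ((i : ℕ) + 1), _⟩) ?_).trans (if_neg fun h' => hji (Fin.ext ?_))
        · exact (zpow_natCast σK _).symm
        · omega, smul_zero]
    · exact fun hn' => absurd (Finset.mem_univ _) hn'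

end Cfsg.Agent.H22.TameU
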