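import Cfsg.Agent.H22.TameU
import Cfsg.Agent.H40.Tame.Quot

/-!
# The vectors from the normaliser, in the interface used for the quotient by the involution
-/

set_option autoImplicit false

open scoped ComplexConjugate Classical

namespace Cfsg.Agent.H22.TameU

open Cfsg
open Cfsg.Agent.H40.Tame (TData HasUVectors)
open Cfsg.Agent.H42 (blockFinset mem_blockFinset)

/-- The vectors form the agreed interface. -/
theorem hasUVectors {G : Type*} [Group G] [Fintype G] {M : Ideal AlgInt}
    (hM : IsPModular 2 M) {B : Set (IrrCharacter G)} (hB : IsPBlock M B) {D : Subgroup G}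
    (hD : IsDefectGroup 2 M B D) {σ : G} {c₀ : ℤ} {q : ℕ} (hd : TData D σ c₀ q)
    (hz : ∀ g : G, g * σ ^ (2 * q) = σ ^ (2 * q) * g) :
    HasUVectors B σ q := by
  obtain ⟨E, v, s0, h0, hout, hn, hodd, hE, hv, hvan, hli⟩ := exists_uVectors hM hB hD hd hz
  refine ⟨E, v, s0, h0, hout, hn, hodd, hE, hv, fun g hg => ?_, hli⟩
  obtain ⟨h1, h2⟩ := hvan g (Or.inr hg)
  refine ⟨?_, fun i => ?_⟩
  · rw [Finset.sum_subset (Finset.subset_univ (blockFinset B)) fun χ _ hχ => ?_]
    · exact h1
    · rw [mem_blockFinset] at hχ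
      simp [(hout χ hχ).1]
  · rw [Finset.sum_subset (Finset.subset_univ (blockFinset B)) fun χ _ hχ => ?_]
    · exact h2 i
    · rw [mem_blockFinset] at hχ
      simp [(hout χ hχ).2 i]

end Cfsg.Agent.H22.TameU
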