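import Cfsg.Agent.H22.TameUStar
import Cfsg.Agent.H22.SemiDihedralFusion
import Cfsg.Agent.H40.Tame.Group
import Cfsg.Agent.H40.Tame.TI

/-!
# The block of the normaliser of the cyclic subgroup of order four
-/

set_option autoImplicit false
set_option linter.unusedSectionVars false
set_option linter.style.haveILetI false

open scoped Classical

namespace Cfsg.Agent.H22.TameU

open Cfsg
open Cfsg.Agent.H40.Tame (TData TISet)
open Cfsg.Agent.H41 (ResField)

variable {G : Type*} [Group G] [Fintype G]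

theorem zpowers_eq_of_card {g u w : G} (hu : u ∈ Subgroup.zpowers g) (hw : w ∈ Subgroup.zpowers g)
    (ho : orderOf w = orderOf u) : Subgroup.zpowers w = Subgroup.zpowers u := by
  set S := Finset.univ.filter fun v : Subgroup.zpowers g => v ^ orderOf u = 1 with hS
  have hcard : S.card ≤ orderOf u := IsCyclic.card_pow_eq_one_le (orderOf_pos u)
  have key : ∀ t : G, ∀ ht : t ∈ Subgroup.zpowers g, orderOf t = orderOf u →
      Finset.univ.filter (fun v : Subgroup.zpowers g => (v : G) ∈ Subgroup.zpowers t) = S := by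
    intro t ht hto
    refine Finset.eq_of_subset_of_card_le (fun v hv => ?_) (hcard.trans ?_)
    · obtain ⟨i, hi⟩ := (Finset.mem_filter.1 hv).2
      refine Finset.mem_filter.2 ⟨Finset.mem_univ _, Subtype.ext ?_⟩
      push_cast
      rw [← hi, ← zpow_natCast (t ^ i), ← zpow_mul, mul_comm, zpow_mul, zpow_natCast, ← hto,
        pow_orderOf_eq_one, one_zpow]
    · rw [← hto, ← Nat.card_zpowers, ← Nat.card_congr
        (Subgroup.subgroupOfEquivOfLe (Subgroup.zpowers_le.2 ht)).toEquiv, Nat.card_eq_fintype_card,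
        Fintype.card_subtype]
      exact Finset.card_le_card fun v hv =>
        Finset.mem_filter.2 ⟨Finset.mem_univ _, (Finset.mem_filter.1 hv).2⟩
  ext t
  have h : ∀ v : Subgroup.zpowers g, (v : G) ∈ Subgroup.zpowers w ↔ (v : G) ∈ Subgroup.zpowers u :=
    fun v => by
      have := Finset.ext_iff.1 ((key w hw ho).trans (key u hu rfl).symm) v
      simpa using this
  exact ⟨fun ht => (h ⟨t, Subgroup.zpowers_le.2 hw ht⟩).1 ht,
    fun ht => (h ⟨t, Subgroup.zpowers_le.2 hu ht⟩).2 ht⟩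

theorem mem_normalizer_zpowers {g u x : G} (hu : u ∈ Subgroup.zpowers g)
    (hx : x * u * x⁻¹ ∈ Subgroup.zpowers g) : x ∈ Subgroup.normalizer (Subgroup.zpowers u : Set G) := by
  refine mem_normalizer_of_cS ?_
  rw [cS, MonoidHom.map_zpowers]
  exact zpowers_eq_of_card hu hx ((MulAut.conj x).orderOf_eq u)

/-- The data moved into a subgroup above the defect group. -/
theorem tdata_subgroupOf {D K : Subgroup G} {σ : G} {c : ℤ} {q : ℕ} (hd : TData D σ c q)
    (hDK : D ≤ K) : TData (D.subgroupOf K) (⟨σ, hDK hd.σ_mem⟩ : K) c q := by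
  have hmem : ∀ w : K, w ∈ Subgroup.zpowers (⟨σ, hDK hd.σ_mem⟩ : K) ↔ (w : G) ∈ Subgroup.zpowers σ :=
    fun w => (TICore.mem_zpowers_coe_iff (a := w) (b := (⟨σ, hDK hd.σ_mem⟩ : K))).symm
  refine ⟨hd.pow, Subgroup.mem_subgroupOf.2 hd.σ_mem, by rw [Subgroup.orderOf_mk]; exact hd.order,
    by rw [Nat.card_congr (Subgroup.subgroupOfEquivOfLe hDK).toEquiv, hd.card],
    fun w hw hA => ?_, fun w hw hA => ?_, hd.cform⟩
  · refine Subtype.ext ?_
    push_cast
    exact hd.conj _ (Subgroup.mem_subgroupOf.1 hw) (fun h => hA ((hmem w).2 h))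
  · rcases hd.sq _ (Subgroup.mem_subgroupOf.1 hw) (fun h => hA ((hmem w).2 h)) with e | e
    · exact Or.inl (Subtype.ext (by push_cast; exact e))
    · exact Or.inr (Subtype.ext (by push_cast; exact e))

variable {M : Ideal AlgInt} [M.IsMaximal] [Fact (Nat.Prime 2)] [CharP (ResField M) 2]
  {B : Set (IrrCharacter G)} {D : Subgroup G}

/-- The nilpotent block of the normaliser. -/
theorem exists_setup (hM : IsPModular 2 M) (hB : IsPBlock M B) (hD : IsDefectGroup 2 M B D)
    {σ : G} {c₀ : ℤ} {q : ℕ} (hd : TData D σ c₀ q) :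
    ∃ (K : Subgroup G) (c : Set (IrrCharacter K)) (e : MonoidAlgebra (ResField M) K)
      (ξ₀ : IrrCharacter K),
      D ≤ K ∧ (∀ x ∈ K, x ∈ Subgroup.normalizer (Subgroup.zpowers (σ ^ q) : Set G)) ∧
        TISet 2 M B K (σ ^ q) c ∧ Nil M c (D.subgroupOf K) e ξ₀ := by
  have hS := split M G
  have hb := isBlockEl_elTop hB
  obtain ⟨e₀, hm⟩ := H40.NilpotentBlocks.exists_isMaxEl_of_defect hM hB hD
  have hu4 := hd.orderOf_u
  have huD : σ ^ q ∈ D := Subgroup.pow_mem _ hd.σ_mem q
  set u := σ ^ q with hu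
  set Q := Subgroup.zpowers u with hQ
  obtain ⟨f, hf, -⟩ := existsUnique_ple hS hm.pair Q (Subgroup.zpowers_le.2 huD)
  have hpair := hf.left hm.pair
  have hfC : IsBlockEl (Subgroup.centralizer (Q : Set G)) f := by simpa using hpair.block
  have hDN : ∀ d ∈ D, d ∈ Subgroup.normalizer (Q : Set G) := fun d hdD => by
    by_cases hA : d ∈ Subgroup.zpowers σ
    · refine mem_normalizer_zpowers (g := σ) (Subgroup.pow_mem _ (Subgroup.mem_zpowers σ) q) ?_
      exact (Subgroup.zpowers σ).mul_mem ((Subgroup.zpowers σ).mul_mem hA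
        (Subgroup.pow_mem _ (Subgroup.mem_zpowers σ) q)) ((Subgroup.zpowers σ).inv_mem hA)
    · refine mem_normalizer_zpowers (g := σ) (Subgroup.pow_mem _ (Subgroup.mem_zpowers σ) q) ?_
      rw [hu, hd.conj_u hdD hA]
      exact (Subgroup.zpowers σ).inv_mem (Subgroup.pow_mem _ (Subgroup.mem_zpowers σ) q)
  set K := pairStab Q f with hK
  have hDK : D ≤ K := fun d hdD =>
    ⟨hDN d hdD, inv_inf_normalizer hS hm.pair hf d ⟨hdD, hDN d hdD⟩⟩
  have hCK : Subgroup.centralizer (Q : Set G) ≤ K := centralizer_le_pairStab hfC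
  have hNK : ∀ x ∈ Subgroup.normalizer (Q : Set G), x ∈ K := by
    intro x hx
    have hmem : x * u * x⁻¹ ∈ Q := (Subgroup.mem_normalizer_iff.1 hx u).1 (Subgroup.mem_zpowers u)
    have hord : orderOf (x * u * x⁻¹) = 4 := by rw [← MulAut.conj_apply, MulEquiv.orderOf_eq, hu4]
    have hsucc : x * u * x⁻¹ = u ∨ x * u * x⁻¹ = u⁻¹ := by
      rw [hQ, (isOfFinOrder_of_finite u).mem_zpowers_iff_mem_range_orderOf, Finset.mem_image] at hmem
      obtain ⟨j, hj, hje⟩ := hmem
      rw [Finset.mem_range, hu4] at hj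
      have h4 : u ^ 4 = 1 := hu4 ▸ pow_orderOf_eq_one u
      interval_cases j
      · rw [← hje, pow_zero, orderOf_one] at hord; omega
      · exact Or.inl (by rw [← hje, pow_one])
      · rw [← hje, orderOf_pow, hu4] at hord; norm_num at hord
      · exact Or.inr (by rw [← hje, eq_inv_iff_mul_eq_one, ← pow_succ, h4])
    have hcz : ∀ y : G, y * u * y⁻¹ = u → y ∈ Subgroup.centralizer (Q : Set G) := fun y hy => by
      rw [hQ, centralizer_zpowers_eq, Subgroup.mem_centralizer_singleton_iff]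
      exact mul_inv_eq_iff_eq_mul.1 hy
    rcases hsucc with e | e
    · exact hCK (hcz x e)
    · obtain ⟨w, hw, hA⟩ := hd.exists_outside
      have hwu := hd.conj_u hw hA
      rw [← hu] at hwu
      have : x * w ∈ Subgroup.centralizer (Q : Set G) := hcz _ (by
        calc x * w * u * (x * w)⁻¹ = x * (w * u * w⁻¹) * x⁻¹ := by group
          _ = (x * u * x⁻¹)⁻¹ := by rw [hwu]; group
          _ = u := by rw [e, inv_inv])
      have h2 := K.mul_mem (hCK this) (K.inv_mem (hDK hw))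
      rwa [mul_inv_cancel_right] at h2
  have hKN : ∀ x ∈ K, x ∈ Subgroup.normalizer (Q : Set G) := fun x hx => hx.1
  have hfK : IsBlockEl K f := isBlockEl_pairStab hpair.pGroup hfC
  obtain ⟨c, hc, hcf⟩ := exists_el_eq hfK
  have hQK : Q ≤ K := fun x hx => hDK (hf.le hx)
  have hKN' : K ≤ Subgroup.normalizer (Q : Set G) := inf_le_left
  obtain ⟨B', hB'⟩ := H40.exists_isInducedBlock hM hpair.pGroup hQK hCK hKN' hc
  have hind : IsInducedBlock M K c B := by
    have h' : Below (G := G) (elTop M B') (Q, el M K c) :=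
      cut_elTop_mul_el_of_induced hM hpair.pGroup hQK hCK hKN' hB'
    rw [hcf] at h'
    have heq := (existsUnique_below hS hpair).unique
      ⟨hb, (hf.below_iff hb).2 hm.below⟩ ⟨isBlockEl_elTop hB'.2.1, h'⟩
    rwa [elTop_inj hB hB'.2.1 heq]
  have hDel : IsDefEl 2 K (el M K c) D := by
    rw [hcf]
    have := SemiDihedral.isDefEl_stab hS hb hm hf hDN
    rwa [inf_eq_left.2 hDK] at this
  have hbK := isBlockEl_el (M := M) hc
  obtain ⟨f', hfpair, hfbel⟩ := exists_pair_below hS hbK hDK hm.pair.pGroup hDel.ne_zero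
  have hmax := isMaxEl_of_isDefEl hfpair hfbel hDel
  have hnil : IsNilpotentBlock 2 M c := by
    refine isNilpotentBlock_sub hc fun R g hR hRb x hxC hxR _ hreg => ?_
    obtain ⟨y, hy, hple⟩ := exists_conj_ple hS hbK hR hRb hmax
    have hxy : y * x * y⁻¹ ∈ K := K.mul_mem (K.mul_mem hy hxC) (K.inv_mem hy)
    have hn : y * x * y⁻¹ ∈ Subgroup.normalizer (cS y R : Set G) := by
      refine mem_normalizer_of_cS ?_
      rw [← cS_mul, inv_mul_cancel_right, cS_mul, cS_eq_self hxR]
    have hreg' : ¬ 2 ∣ orderOf (y * x * y⁻¹) := by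
      rwa [← MulAut.conj_apply, MulEquiv.orderOf_eq]
    have hcomm := hd.centralizes hple.le hreg' (hd.comm_u_of_normalizes hreg' (hKN _ hxy)) hn
    refine Subgroup.mem_centralizer_iff.2 fun r hr => ?_
    have hr' := hcomm _ (conj_mem_cS (g := y) hr)
    calc r * x = y⁻¹ * (y * r * y⁻¹ * (y * x * y⁻¹)) * y := by group
      _ = x * r := by rw [← hr']; group
  have hP : IsDefectGroup 2 M c (D.subgroupOf K) := (isDefectGroup_subgroupOf_iff hM hc hDK).2 hDel
  obtain ⟨e, he⟩ := H40.NilpotentBlocks.exists_isMaxEl_of_defect hM hc hP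
  obtain ⟨ξ₀, hξ₀, h0, -⟩ := H42.exists_height_zero (p := 2) hc
  refine ⟨K, c, e, ξ₀, hDK, hKN, ⟨hM, hind, ⟨2, by rw [hu4]; rfl⟩, fun e' => ?_, ?_, ?_⟩,
    ⟨hM, hnil, he, hP, hξ₀, h0⟩⟩
  · rw [e', orderOf_one] at hu4; omega
  · rw [← centralizer_zpowers_eq, ← hQ]; exact hCK
  · intro g x hg hxg
    refine hNK x (mem_normalizer_zpowers (g := x * g * x⁻¹) hxg ?_)
    obtain ⟨i, hi⟩ := hg
    exact ⟨i, by
      show (x * g * x⁻¹) ^ i = _
      rw [conj_zpow, ← hi]⟩

end Cfsg.Agent.H22.TameU
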