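import Cfsg.Agent.H22.Tate
namespace Cfsg.Agent.H22
open Subgroup

variable {G : Type*} [Group G] {p : ℕ}

/-- A subgroup of prime index is maximal. -/
theorem isCoatom_of_prime_index' [Finite G] (M : Subgroup G) (h : M.index.Prime) : IsCoatom M := by
  refine ⟨fun ht => h.ne_one (by rw [ht, index_top]), fun K hK => ?_⟩
  rcases (Nat.dvd_prime h).mp (index_dvd_of_le hK.le) with h1 | h1
  · exact index_eq_one.mp h1
  · refine absurd ?_ hK.ne
    refine eq_of_le_of_card_ge hK.le (le_of_eq ?_)
    have h2 := M.card_mul_index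
    rw [← K.card_mul_index, h1] at h2
    exact (Nat.eq_of_mul_eq_mul_right h.pos h2).symm

theorem tate_aux [Fact p.Prime] [Finite G] (P : Sylow p G) (N : Subgroup G) [N.Normal]
    (hsup : N ⊔ (P : Subgroup G) = ⊤)
    (h : ∀ M : Subgroup G, M ≤ (P : Subgroup G) → M.relIndex P = p → N ⊓ (P : Subgroup G) ≤ M) :
    HasNormalPComplement p G := by
  rw [hasNormalPComplement_iff_inf_eq_bot P]
  refine le_bot_iff.mp ((tate P P le_rfl fun M hM hMp => ?_).trans ?_)
  · have hsurj := QuotientGroup.mk'_surjective N
    have h1 : commutator G ≤ N ⊔ ⁅(P : Subgroup G), (P : Subgroup G)⁆ := by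
      have e : (⊤ : Subgroup G).map (QuotientGroup.mk' N) =
          (P : Subgroup G).map (QuotientGroup.mk' N) := by
        rw [← hsup, Subgroup.map_sup, QuotientGroup.map_mk'_self, bot_sup_eq]
      have e2 : (commutator G).map (QuotientGroup.mk' N) ≤
          (⁅(P : Subgroup G), (P : Subgroup G)⁆).map (QuotientGroup.mk' N) := by
        rw [commutator_def, map_commutator, map_commutator, e]
      rw [map_le_iff_le_comap, comap_map_eq, QuotientGroup.ker_mk', sup_comm] at e2
      exact e2
    have hMP : M.map (P : Subgroup G).subtype ≤ (P : Subgroup G) := map_subtype_le M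
    have hrel : (M.map (P : Subgroup G).subtype).relIndex P = p := by
      rw [relIndex, subgroupOf, comap_map_eq_self_of_injective (Subgroup.subtype_injective _), hMp]
    have hNP := h _ hMP hrel
    have hcomm : ⁅(P : Subgroup G), (P : Subgroup G)⁆ ≤ M.map (P : Subgroup G).subtype := by
      rw [← Subgroup.map_subtype_commutator]
      refine map_mono (Normal.quotient_commutative_iff_commutator_le.mp ?_)
      have : Nat.card (P ⧸ M) = p := hMp
      have : IsCyclic (P ⧸ M) := isCyclic_of_prime_card this
      exact inferInstance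
    rintro x ⟨hxP, hxG⟩
    obtain ⟨n, hn, m, hm, rfl⟩ := mem_sup_of_normal_left.mp (h1 hxG)
    exact mul_mem (hNP ⟨hn, by simpa using! (P : Subgroup G).mul_mem hxP ((P : Subgroup G).inv_mem (commutator_le_self _ hm))⟩) (hcomm hm)
  · rw [pResidual_eq_bot_of_isPGroup P.2, Subgroup.map_bot]

/-- Tate: if `N ∩ P ≤ Φ(P)` then `N` has a normal `p`-complement. -/
theorem hasNormalPComplement_of_inf_le_frattini [hp : Fact p.Prime] [Finite G] (P : Sylow p G)
    (N : Subgroup G) [N.Normal]
    (h : N ⊓ (P : Subgroup G) ≤ (frattini P).map (P : Subgroup G).subtype) :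
    HasNormalPComplement p N := by
  set G1 := N ⊔ (P : Subgroup G)
  have key : HasNormalPComplement p G1 := by
    refine tate_aux (P.subtype le_sup_right) (N.subgroupOf G1) ?_ fun M hM hMp => ?_
    · rw [Sylow.coe_subtype, ← subgroupOf_sup le_sup_left le_sup_right, subgroupOf_self]
    · rw [Sylow.coe_subtype] at hM hMp ⊢
      have hle : M.map G1.subtype ≤ (P : Subgroup G) := by
        rintro _ ⟨x, hx, rfl⟩
        exact hM hx
      have hidx : ((M.map G1.subtype).subgroupOf (P : Subgroup G)).index = p := by
        change (M.map G1.subtype).relIndex (P : Subgroup G) = p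
        rw [← relIndex_subgroupOf (le_sup_right : (P : Subgroup G) ≤ G1)]
        rwa [show (M.map G1.subtype).subgroupOf G1 = M from
          comap_map_eq_self_of_injective G1.subtype_injective M]
      intro x hx
      obtain ⟨y, hy, hyx⟩ := h (⟨hx.1, hx.2⟩ : (x : G) ∈ N ⊓ (P : Subgroup G))
      have := frattini_le_coatom (isCoatom_of_prime_index' _ (hidx.symm ▸ hp.out)) hy
      obtain ⟨z, hz, hzy⟩ := mem_subgroupOf.mp this
      rwa [← Subtype.ext (a1 := z) (a2 := x) (hzy.trans hyx)]
  exact hasNormalPComplement_of_injective (inclusion (le_sup_left : N ≤ G1))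
    (inclusion_injective _) key

end Cfsg.Agent.H22
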